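import Cfsg.Agent.Lib.Linear.ClassSp.Numeric
import Cfsg.Agent.Lib.Linear.ClassU.Poly

/-!
# Weighted counts of tuples of self-reciprocal polynomials
-/

set_option autoImplicit false

universe u

namespace Cfsg.Lib.Linear.ClassSp

open Polynomial Cfsg.Lib.Linear.ClassNumberGL Cfsg.Lib.Linear.ClassWeight Cfsg.Lib.Linear.ClassU

variable {F : Type u} [Field F]

/-- The identity. -/
abbrev σ₁ (F : Type u) [Field F] : F →+* F := RingHom.id F

theorem sr_coeff {P : F[X]} (h : IsSR (σ₁ F) P) {i : ℕ} (hi : i ≤ P.natDegree) :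
    P.coeff (P.natDegree - i) = P.coeff 0 * P.coeff i :=
  h.coeff_eq (fun _ => rfl) hi

theorem sr_coeff_zero {P : F[X]} (h : IsSR (σ₁ F) P) : P.coeff 0 = 1 ∨ P.coeff 0 = -1 :=
  mul_self_eq_one_iff.1 (h.norm fun _ => rfl)

theorem isSR_X_sub_C {s : F} (hs : s * s = 1) : IsSR (σ₁ F) (X - C s) := by
  have h0 : (X - C s).coeff 0 = -s := by simp
  have h1 : (X - C s).coeff 1 = 1 := by simp [coeff_X, coeff_C]
  refine isSR_of_coeff (fun _ => rfl) (monic_X_sub_C s) (by rw [h0]; exact neg_ne_zero.2 (left_ne_zero_of_mul_eq_one hs))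
    fun i hi => ?_
  rw [natDegree_X_sub_C] at hi ⊢
  rcases Nat.le_one_iff_eq_zero_or_eq_one.1 hi with rfl | rfl
  · rw [Nat.sub_zero, h0, h1, RingHom.id_apply, neg_mul_neg, hs]
  · rw [Nat.sub_self, h0, h1, RingHom.id_apply, mul_one]

theorem isSR_pow {P : F[X]} (h : IsSR (σ₁ F) P) (k : ℕ) : IsSR (σ₁ F) (P ^ k) := by
  induction k with
  | zero => rw [pow_zero]; exact isSR_one
  | succ k ih => rw [pow_succ]; exact ih.mul h

theorem sr_eval {P : F[X]} (h : IsSR (σ₁ F) P) {s : F} (hs : s * s = 1) :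
    P.eval s = P.coeff 0 * s ^ P.natDegree * P.eval s := by
  conv_rhs => rw [eval_eq_sum_range, Finset.mul_sum]
  conv_lhs => rw [eval_eq_sum_range, ← Finset.sum_range_reflect]
  refine Finset.sum_congr rfl fun i hi => ?_
  have hi' : i ≤ P.natDegree := Nat.lt_succ_iff.1 (Finset.mem_range.1 hi)
  have hp : s ^ (P.natDegree - i) = s ^ P.natDegree * s ^ i := by
    rw [← pow_add, show P.natDegree + i = (P.natDegree - i) + 2 * i by omega, pow_add, pow_mul, sq, hs, one_pow,
      mul_one]
  rw [show P.natDegree + 1 - 1 - i = P.natDegree - i by omega, sr_coeff h hi', hp]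
  ring

theorem sr_eval_ne {P : F[X]} (h : IsSR (σ₁ F) P) {s : F} (hs : s * s = 1) (hne : P.eval s ≠ 0) :
    P.coeff 0 * s ^ P.natDegree = 1 :=
  mul_right_cancel₀ hne ((sr_eval h hs).symm.trans (one_mul _).symm)

theorem exists_split_root {P : F[X]} (h : IsSR (σ₁ F) P) {s : F} (hs : s * s = 1) :
    ∃ R : F[X], IsSR (σ₁ F) R ∧ R.eval s ≠ 0 ∧ P.coeff 0 = (-s) ^ rootMultiplicity s P * R.coeff 0 ∧
      P.natDegree = rootMultiplicity s P + R.natDegree := by
  obtain ⟨R, hR, hnd⟩ := exists_eq_pow_rootMultiplicity_mul_and_not_dvd P h.1.ne_zero s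
  have hL := isSR_pow (isSR_X_sub_C hs) (rootMultiplicity s P)
  have hRS : IsSR (σ₁ F) R := hL.of_mul (hR ▸ h)
  refine ⟨R, hRS, fun h0 => hnd (dvd_iff_isRoot.2 h0), ?_, ?_⟩
  · conv_lhs => rw [hR, mul_coeff_zero, coeff_zero_eq_eval_zero, eval_pow, eval_sub, eval_X, eval_C, zero_sub]
  · conv_lhs => rw [hR, hL.1.natDegree_mul hRS.1, natDegree_pow, natDegree_X_sub_C, mul_one]

/-- Even multiplicities at `±1` force the constant term `1` and even degree. -/
theorem sr_parity (h2 : (2 : F) ≠ 0) {P : F[X]} (h : IsSR (σ₁ F) P) (h1 : Even (rootMultiplicity 1 P))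
    (hm : Even (rootMultiplicity (-1) P)) : Even P.natDegree ∧ P.coeff 0 = 1 := by
  obtain ⟨R, hR, hR1, hc, hd⟩ := exists_split_root h (one_mul (1 : F))
  obtain ⟨S, hS, hS1, hc', hd'⟩ := exists_split_root h (show (-1 : F) * -1 = 1 by ring)
  have e1 : P.coeff 0 = 1 := by
    have := sr_eval_ne hR (one_mul 1) hR1
    rw [one_pow, mul_one] at this
    rw [hc, h1.neg_one_pow, one_mul, this]
  refine ⟨?_, e1⟩
  have e2 := sr_eval_ne hS (show (-1 : F) * -1 = 1 by ring) hS1
  rw [neg_neg, one_pow, one_mul] at hc'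
  rw [← hc', e1, one_mul] at e2
  rcases Nat.even_or_odd S.natDegree with he | ho
  · rw [hd']; exact hm.add he
  · rw [ho.neg_one_pow] at e2
    exact absurd (show (2 : F) = 0 by linear_combination -e2) h2

/-- The bound on the number of self-reciprocal polynomials of degree `D`. -/
def asp (q D : ℕ) : ℕ := ∑ r ∈ Finset.range 3, if r ≤ D then Nat.choose 2 r * hh q (D - r) else 0

theorem asp_zero (q : ℕ) : asp q 0 = 1 := by simp [asp, Finset.sum_range_succ, hh]

theorem asp_succ (q D : ℕ) : q ^ ((D + 1) / 2) + q ^ (D / 2) ≤ asp q (D + 1) := by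
  rcases Nat.even_or_odd' D with ⟨c, rfl | rfl⟩
  · rw [show (2 * c + 1) / 2 = c by omega, show 2 * c / 2 = c by omega]
    simp [asp, Finset.sum_range_succ, hh, Nat.even_add_one, Nat.choose]
    omega
  · rw [show (2 * c + 1 + 1) / 2 = c + 1 by omega, show (2 * c + 1) / 2 = c by omega]
    simp [asp, Finset.sum_range_succ, hh, Nat.even_add_one, Nat.choose, parity_simps]
    rw [show (2 * c + 1 + 1) / 2 = c + 1 by omega]

theorem asp_convolution (q D : ℕ) :
    asp q D + 2 * (if 1 ≤ D then asp q (D - 1) else 0) + (if 2 ≤ D then asp q (D - 2) else 0) ≤ bsp q D := by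
  rcases D with _ | _ | _ | _ | D <;> simp [asp, bsp, Finset.sum_range_succ, Nat.choose] <;> ring_nf <;> omega

section Count

variable [Fintype F] {q : ℕ}

/-- Self-reciprocal polynomials of degree `D`. -/
abbrev SPal (F : Type u) [Field F] (D : ℕ) : Type u := {P : F[X] // IsSR (σ₁ F) P ∧ P.natDegree = D}

instance (D : ℕ) : Finite (SPal F D) :=
  haveI := (finite_card_pol (F := F) D).1
  Finite.of_injective (fun P : SPal F D => (⟨P.1, P.2.1.1, P.2.2, P.2.1.2.1⟩ : Pol F D))
    fun P Q h => Subtype.ext (congrArg Subtype.val h :)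

open scoped Classical in
theorem card_fixed_const (hq : Fintype.card F = q) (D : ℕ) (c : F) :
    Nat.card {P : SPal F D // P.1.coeff 0 = c} ≤ q ^ (if c = 1 then D / 2 else (D - 1) / 2) := by
  classical
  set k := if c = 1 then D / 2 else (D - 1) / 2 with hk
  refine (Nat.card_le_card_of_injective (β := Fin k → F) (fun P i => P.1.1.coeff (i.val + 1)) ?_).trans
    (le_of_eq (by rw [Nat.card_fun, Nat.card_fin, Nat.card_eq_fintype_card, hq]))
  intro P Q h
  have low : ∀ i, 2 * i ≤ D → P.1.1.coeff i = Q.1.1.coeff i := fun i hi => by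
    rcases Nat.eq_zero_or_pos i with rfl | hi0
    · exact P.2.trans Q.2.symm
    by_cases hik : i ≤ k
    · have := congrFun h ⟨i - 1, by omega⟩
      simpa [Nat.sub_add_cancel hi0] using this
    · have hc : c ≠ 1 := fun hc => by rw [hk, if_pos hc] at hik; omega
      rw [hk, if_neg hc] at hik
      have hz : ∀ R : {P : SPal F D // P.1.coeff 0 = c}, R.1.1.coeff i = 0 := fun R => by
        have h1 := sr_coeff R.1.2.1 (i := i) (by rw [R.1.2.2]; omega)
        rw [R.1.2.2, show D - i = i by omega, R.2] at h1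
        exact (mul_eq_zero.1 (show (1 - c) * R.1.1.coeff i = 0 by linear_combination h1)).resolve_left
          (sub_ne_zero.2 (Ne.symm hc))
      rw [hz, hz]
  refine Subtype.ext (Subtype.ext (Polynomial.ext fun i => ?_))
  rcases le_or_gt i D with hi | hi
  · by_cases h2 : 2 * i ≤ D
    · exact low i h2
    · have e1 := sr_coeff P.1.2.1 (i := D - i) (by rw [P.1.2.2]; omega)
      have e2 := sr_coeff Q.1.2.1 (i := D - i) (by rw [Q.1.2.2]; omega)
      rw [P.1.2.2, Nat.sub_sub_self hi] at e1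
      rw [Q.1.2.2, Nat.sub_sub_self hi] at e2
      rw [e1, e2, P.2, Q.2, low (D - i) (by omega)]
  · rw [coeff_eq_zero_of_natDegree_lt (by rw [P.1.2.2]; exact hi),
      coeff_eq_zero_of_natDegree_lt (by rw [Q.1.2.2]; exact hi)]

theorem card_spal (hq : Fintype.card F = q) (h2 : (2 : F) ≠ 0) (D : ℕ) : Nat.card (SPal F D) ≤ asp q D := by
  classical
  cases D with
  | zero =>
    have : Subsingleton (SPal F 0) := ⟨fun P Q => Subtype.ext
      ((P.2.1.1.natDegree_eq_zero.1 P.2.2).trans (Q.2.1.1.natDegree_eq_zero.1 Q.2.2).symm)⟩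
    rw [asp_zero]
    exact Finite.card_le_one_iff_subsingleton.2 this
  | succ D =>
    refine le_trans ?_ (asp_succ q D)
    refine (Nat.card_le_card_of_injective
      (β := {P : SPal F (D + 1) // P.1.coeff 0 = 1} ⊕ {P : SPal F (D + 1) // P.1.coeff 0 = -1})
      (fun P => if h : P.1.coeff 0 = 1 then Sum.inl ⟨P, h⟩
        else Sum.inr ⟨P, (sr_coeff_zero P.2.1).resolve_left h⟩) fun P Q h => ?_).trans ?_
    · simp only at h
      split_ifs at h <;> simp_all
    rw [Nat.card_sum]
    have e1 := card_fixed_const (F := F) hq (D + 1) 1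
    have e2 := card_fixed_const (F := F) hq (D + 1) (-1)
    rw [if_pos rfl] at e1
    rw [if_neg (fun h => h2 (by linear_combination -h)), Nat.add_sub_cancel] at e2
    exact Nat.add_le_add e1 e2

theorem card_dvd (hq : Fintype.card F = q) (h2 : (2 : F) ≠ 0) {L : F[X]} (hL : IsSR (σ₁ F) L) (D : ℕ) :
    Nat.card {P : SPal F D // L ∣ P.1} ≤ if L.natDegree ≤ D then asp q (D - L.natDegree) else 0 := by
  classical
  have hdeg : ∀ (P : {P : SPal F D // L ∣ P.1}) (R : F[X]), P.1.1 = L * R →
      IsSR (σ₁ F) R ∧ L.natDegree + R.natDegree = D := fun P R hR => by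
    have hRS := hL.of_mul (hR ▸ P.1.2.1)
    exact ⟨hRS, by rw [← hL.1.natDegree_mul hRS.1, ← hR, P.1.2.2]⟩
  split_ifs with h
  · choose R hR using fun P : {P : SPal F D // L ∣ P.1} => P.2
    refine (Nat.card_le_card_of_injective (β := SPal F (D - L.natDegree))
      (fun P => ⟨R P, (hdeg P _ (hR P)).1, by have := (hdeg P _ (hR P)).2; omega⟩) fun P Q hPQ => ?_).trans
      (card_spal hq h2 _)
    exact Subtype.ext (Subtype.ext (by rw [hR P, hR Q, show R P = R Q from congrArg Subtype.val hPQ]))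
  · have : IsEmpty {P : SPal F D // L ∣ P.1} := ⟨fun P => by
      obtain ⟨R, hR⟩ := P.2
      have := (hdeg P R hR).2
      omega⟩
    rw [Nat.card_of_isEmpty]

/-- The choices of signs allowed by the roots. -/
def Marked (P : F[X]) (b : Bool × Bool) : Prop := (b.1 → P.IsRoot 1) ∧ (b.2 → P.IsRoot (-1))

theorem card_marked (hq : Fintype.card F = q) (h2 : (2 : F) ≠ 0) (D : ℕ) :
    Nat.card {z : (Bool × Bool) × SPal F D // Marked z.2.1 z.1} ≤ bsp q D := by
  classical
  refine le_trans ?_ (asp_convolution q D)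
  rw [Nat.card_congr (Equiv.subtypeProdEquivSigmaSubtype fun (b : Bool × Bool) (P : SPal F D) => Marked P.1 b),
    Nat.card_sigma, Fintype.sum_prod_type, Fintype.sum_bool, Fintype.sum_bool, Fintype.sum_bool]
  have key : ∀ (L : F[X]) (_ : IsSR (σ₁ F) L) (b : Bool × Bool), (∀ P : F[X], Marked P b → L ∣ P) →
      Nat.card {P : SPal F D // Marked P.1 b} ≤ if L.natDegree ≤ D then asp q (D - L.natDegree) else 0 :=
    fun L hL b hb => (Nat.card_le_card_of_injective (β := {P : SPal F D // L ∣ P.1})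
      (fun P => ⟨P.1, hb _ P.2⟩) fun P Q h => by
        simp only [Subtype.mk.injEq] at h
        exact Subtype.ext h).trans (card_dvd hq h2 hL D)
  have hs : (-1 : F) * -1 = 1 := by ring
  have e3 := key (X - C 1) (isSR_X_sub_C (one_mul 1)) (true, false) fun P hP => dvd_iff_isRoot.2 (hP.1 rfl)
  have e4 := key (X - C (-1)) (isSR_X_sub_C hs) (false, true) fun P hP => dvd_iff_isRoot.2 (hP.2 rfl)
  have e5 := key ((X - C 1) * (X - C (-1))) ((isSR_X_sub_C (one_mul 1)).mul (isSR_X_sub_C hs)) (true, true)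
    fun P hP => IsCoprime.mul_dvd (isCoprime_X_sub_C_of_isUnit_sub (isUnit_iff_ne_zero.2 fun h => h2 (by
      linear_combination h))) (dvd_iff_isRoot.2 (hP.1 rfl)) (dvd_iff_isRoot.2 (hP.2 rfl))
  have e6 := key 1 isSR_one (false, false) fun P _ => one_dvd P
  rw [natDegree_X_sub_C] at e3 e4
  rw [(monic_X_sub_C (1 : F)).natDegree_mul (monic_X_sub_C (-1)), natDegree_X_sub_C, natDegree_X_sub_C] at e5
  rw [one_add_one_eq_two] at e5
  rw [natDegree_one, if_pos (Nat.zero_le _), Nat.sub_zero] at e6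
  linarith

/-- The conditions on a tuple with sign choices. -/
def Good {J : ℕ} (g : Fin J → F[X]) (b : Fin J → Bool × Bool) : Prop :=
  ∀ j, IsSR (σ₁ F) (g j) ∧ (Even j.val → Even (g j).natDegree ∧ (g j).coeff 0 = 1 ∧ b j = (false, false)) ∧
    Marked (g j) (b j)

/-- Tuples with sign choices. -/
abbrev WTup (F : Type u) [Field F] (J n : ℕ) : Type u :=
  {z : Tup F J n × (Fin J → Bool × Bool) // Good z.1.1 z.2}

theorem card_wtup (hq : Fintype.card F = q) (h2 : (2 : F) ≠ 0) :
    ∀ J k n, n = 2 * k → Nat.card (WTup F J n) ≤ NS q J k := by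
  classical
  intro J
  induction J with
  | zero =>
    rintro k n rfl
    have : Subsingleton (WTup F 0 (2 * k)) := ⟨fun g h => Subtype.ext (Prod.ext
      (Subtype.ext (funext fun j => Fin.elim0 j)) (funext fun j => Fin.elim0 j))⟩
    by_cases hk : k = 0
    · simp only [NS, hk, if_pos]
      exact Finite.card_le_one_iff_subsingleton.2 (hk ▸ this)
    · have : IsEmpty (WTup F 0 (2 * k)) := ⟨fun g => hk (by simpa using g.1.1.2.2.symm)⟩
      rw [Nat.card_of_isEmpty]
      exact Nat.zero_le _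
  | succ J ih =>
    rintro k n rfl
    set d : WTup F (J + 1) (2 * k) → ℕ := fun g => (g.1.1.1 (Fin.last J)).natDegree with hd
    have hdeg : ∀ g : WTup F (J + 1) (2 * k), (J + 1) * d g +
        ∑ j : Fin J, (j.val + 1) * (g.1.1.1 j.castSucc).natDegree = 2 * k := fun g => by
      have := g.1.1.2.2
      rw [Fin.sum_univ_castSucc] at this
      simpa [add_comm] using this
    have hfib : ∀ D k', (J + 1) * D + 2 * k' = 2 * k → ∀ B,
        Nat.card {z : (Bool × Bool) × SPal F D // Marked z.2.1 z.1 ∧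
          (Even J → z.2.1.coeff 0 = 1 ∧ z.1 = (false, false))} ≤ B →
        Nat.card {g : WTup F (J + 1) (2 * k) // d g = D} ≤ B * NS q J k' := by
      intro D k' hk' B hB
      let φ : {g : WTup F (J + 1) (2 * k) // d g = D} → {z : (Bool × Bool) × SPal F D // Marked z.2.1 z.1 ∧
          (Even J → z.2.1.coeff 0 = 1 ∧ z.1 = (false, false))} × WTup F J (2 * k') := fun g =>
        (⟨(g.1.1.2 (Fin.last J), ⟨g.1.1.1.1 (Fin.last J), (g.1.2 _).1, g.2⟩), (g.1.2 _).2.2,
            fun he => ⟨((g.1.2 _).2.1 (by simpa using he)).2.1, ((g.1.2 _).2.1 (by simpa using he)).2.2⟩⟩,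
          ⟨(⟨fun j => g.1.1.1.1 j.castSucc, fun j => g.1.1.1.2.1 _, by
              have := hdeg g.1
              rw [g.2] at this
              simp only
              omega⟩, fun j => g.1.1.2 j.castSucc), fun j => by simpa using g.1.2 j.castSucc⟩)
      refine (Nat.card_le_card_of_injective φ fun g g' h => ?_).trans ?_
      · have h1 := congrArg (fun x : _ × WTup F J (2 * k') => (x.1.1.1, x.1.1.2.1, x.2.1.1.1, x.2.1.2)) h
        simp only [φ, Prod.mk.injEq] at h1
        refine Subtype.ext (Subtype.ext (Prod.ext (Subtype.ext (funext fun j => ?_)) (funext fun j => ?_)))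
        · refine Fin.lastCases ?_ (fun i => ?_) j
          exacts [h1.2.1, congrFun h1.2.2.1 i]
        · refine Fin.lastCases ?_ (fun i => ?_) j
          exacts [h1.1, congrFun h1.2.2.2 i]
      · rw [Nat.card_prod]
        exact Nat.mul_le_mul hB (ih k' _ rfl)
    have hlt : ∀ g, d g < 2 * k + 1 := fun g => by
      have := hdeg g
      have : d g ≤ (J + 1) * d g := Nat.le_mul_of_pos_left _ J.succ_pos
      omega
    by_cases he : Even J
    · have heven : ∀ g, Even (d g) := fun g => ((g.2 (Fin.last J)).2.1 (by simpa using he)).1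
      let f : WTup F (J + 1) (2 * k) → Fin (k + 1) := fun g => ⟨d g / 2, by have := hlt g; omega⟩
      rw [← Nat.card_congr (Equiv.sigmaFiberEquiv f), Nat.card_sigma, NS, if_pos he, ← Fin.sum_univ_eq_sum_range]
      refine Finset.sum_le_sum fun c _ => ?_
      have hiff : ∀ g, f g = c ↔ d g = 2 * c.val := fun g => by
        obtain ⟨r, hr⟩ := heven g
        rw [Fin.ext_iff]
        constructor
        · intro (h : d g / 2 = c.val); omega
        · intro h; show d g / 2 = c.val; omega
      rw [Nat.card_congr (Equiv.subtypeEquivRight hiff)]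
      split_ifs with hc
      · refine hfib (2 * c.val) (k - (J + 1) * c.val) (by rw [mul_left_comm]; omega) _ ?_
        refine (Nat.card_le_card_of_injective (β := {P : SPal F (2 * c.val) // P.1.coeff 0 = 1})
          (fun z => ⟨z.1.2, (z.2.2 he).1⟩) fun z w h => ?_).trans ((card_fixed_const hq _ 1).trans (le_of_eq ?_))
        · exact Subtype.ext (Prod.ext ((z.2.2 he).2.trans (w.2.2 he).2.symm) (congrArg Subtype.val h))
        · rw [if_pos rfl, Nat.mul_div_cancel_left _ two_pos]
      · have : IsEmpty {g : WTup F (J + 1) (2 * k) // d g = 2 * c.val} := ⟨fun g => hc (by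
          have := hdeg g.1
          rw [g.2, mul_left_comm] at this
          omega)⟩
        rw [Nat.card_of_isEmpty]
    · let f : WTup F (J + 1) (2 * k) → Fin (2 * k + 1) := fun g => ⟨d g, hlt g⟩
      rw [← Nat.card_congr (Equiv.sigmaFiberEquiv f), Nat.card_sigma, NS, if_neg he, ← Fin.sum_univ_eq_sum_range]
      refine Finset.sum_le_sum fun D _ => ?_
      have hJ : 2 * ((J + 1) / 2) = J + 1 := Nat.mul_div_cancel' (Nat.even_add_one.2 he).two_dvd
      have hiff : ∀ g, f g = D ↔ d g = D.val := fun g => Fin.ext_iff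
      rw [Nat.card_congr (Equiv.subtypeEquivRight hiff)]
      split_ifs with hc
      · refine hfib D.val (k - (J + 1) / 2 * D.val) (by rw [show (J + 1) * D.val = 2 * ((J + 1) / 2 * D.val) by rw [← mul_assoc, hJ]]; omega) _ ?_
        refine (Nat.card_le_card_of_injective (β := {z : (Bool × Bool) × SPal F D.val // Marked z.2.1 z.1})
          (fun z => ⟨z.1, z.2.1⟩) fun z w h => ?_).trans (card_marked hq h2 _)
        exact Subtype.ext (congrArg Subtype.val h :)
      · have : IsEmpty {g : WTup F (J + 1) (2 * k) // d g = D.val} := ⟨fun g => hc (by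
          have := hdeg g.1
          rw [g.2, show (J + 1) * D.val = 2 * ((J + 1) / 2 * D.val) by rw [← mul_assoc, hJ]] at this
          omega)⟩
        rw [Nat.card_of_isEmpty]

end Count

end Cfsg.Lib.Linear.ClassSp
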