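import Cfsg.Agent.Lib.Linear.ClassSp.NumericOrth

/-!
# The numerical bound for the class number of `Ω_{2k+1}(q)`
-/

set_option autoImplicit false

namespace Cfsg.Lib.Linear.ClassSp

/-- Self-reciprocal polynomials of degree `2 c` with constant term one and no root `±1`. -/
def R0 (q : ℕ) : ℕ → ℕ
  | 0 => 1
  | 1 => q - 2
  | c + 2 => (q - 1) ^ 2 * q ^ c

/-- The weighted count of entries with roots `±1` of multiplicity at most one. -/
def bspR (q D : ℕ) : ℕ :=
  ∑ r ∈ Finset.range 3, if r ≤ D ∧ Even (D - r) then Nat.choose 2 r * 2 ^ r * R0 q ((D - r) / 2) else 0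

/-- The combination that bounds four times the classes of `Ω`. -/
def cR (q D : ℕ) : ℕ := bsp q D + 3 * bspR q D

variable {q : ℕ}

theorem NOg_linear (f g : ℕ → ℕ) (c : ℕ) : ∀ J n,
    NOg q (fun D => f D + c * g D) (J + 1) n = NOg q f (J + 1) n + c * NOg q g (J + 1) n := by
  intro J
  induction J with
  | zero => intro n; rw [NOg, NOg, NOg, if_pos rfl, if_pos rfl, if_pos rfl]
  | succ J ih =>
    intro n
    conv_lhs => rw [NOg, if_neg (Nat.succ_ne_zero J)]
    conv_rhs => rw [NOg, if_neg (Nat.succ_ne_zero J), NOg, if_neg (Nat.succ_ne_zero J)]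
    split_ifs with he
    · rw [Finset.mul_sum, ← Finset.sum_add_distrib]
      refine Finset.sum_congr rfl fun D _ => ?_
      split_ifs with h
      · rw [ih]; ring
      · simp
    · rw [Finset.mul_sum, ← Finset.sum_add_distrib]
      refine Finset.sum_congr rfl fun D _ => ?_
      split_ifs with h
      · rw [ih]; ring
      · simp

theorem NOg_two (f : ℕ → ℕ) (n : ℕ) :
    NOg q f 2 n = ∑ c ∈ Finset.range (n + 1), if 4 * c ≤ n then q ^ c * f (n - 4 * c) else 0 := by
  rw [NOg, if_neg one_ne_zero, if_neg (by decide)]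
  refine Finset.sum_congr rfl fun c _ => ?_
  rw [show (1 + 1) * (2 * c) = 4 * c by ring, NOg, if_pos rfl]

theorem NOg_two_small (f : ℕ → ℕ) {n : ℕ} (hn : n < 4) : NOg q f 2 n = f n := by
  rw [NOg_two, Finset.sum_eq_single_of_mem 0 (Finset.mem_range.2 (Nat.succ_pos n))]
  · simp
  · intro c _ hc
    rw [if_neg (by omega)]

theorem NOg_two_add (f : ℕ → ℕ) (n : ℕ) : NOg q f 2 (n + 4) = f (n + 4) + q * NOg q f 2 n := by
  rw [NOg_two, NOg_two, Finset.sum_range_succ', add_comm, Finset.mul_sum]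
  congr 1
  · simp
  refine (Finset.sum_subset (Finset.range_subset_range.2 (Nat.le_add_right (n + 1) 3)) fun c _ hc => ?_).symm.trans
    (Finset.sum_congr rfl fun c _ => ?_)
  · rw [Finset.mem_range] at hc
    rw [if_neg (by omega)]
  · by_cases h : 4 * c ≤ n
    · rw [if_pos h, if_pos (by omega), show n + 4 - 4 * (c + 1) = n - 4 * c by omega, pow_succ]
      ring
    · rw [if_neg h, if_neg (by omega), mul_zero]

theorem NOBound_two (hq : 3 ≤ q) : NOBound q (cR q) 2 2 := by
  have hq3 : (3 : ℚ) ≤ q := by exact_mod_cast hq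
  have hH : HH 2 * (2 * (AB 2).1) = 28 / 3 ∧ HH 2 * (2 * (AB 2).2) = 16 := by
    norm_num [HH, AB, mO, cO, Nat.even_iff]
  intro k
  rw [hH.1, hH.2]
  have hsub : ((q - 2 : ℕ) : ℚ) = (q : ℚ) - 2 := by rw [Nat.cast_sub (by omega)]; norm_num
  have hsub1 : ((q - 1 : ℕ) : ℚ) = (q : ℚ) - 1 := by rw [Nat.cast_sub (by omega)]; norm_num
  induction k using Nat.twoStepInduction with
  | zero =>
    rw [NOg_two_small _ (by norm_num), NOg_two_small _ (by norm_num)]
    constructor <;> norm_num [cR, bsp, bspR, R0, hh, Finset.sum_range_succ, Nat.choose, Nat.even_iff]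
  | one =>
    rw [NOg_two_small _ (by norm_num), NOg_two_small _ (by norm_num)]
    constructor <;> norm_num [cR, bsp, bspR, R0, hh, Finset.sum_range_succ, Nat.choose, Nat.even_iff, hsub] <;>
      linarith
  | more k ih _ =>
    obtain ⟨i1, i2⟩ := ih
    have hqk : (0 : ℚ) ≤ (q : ℚ) ^ k := by positivity
    have hR1 : (q : ℚ) * (R0 q (k + 1) : ℚ) ≤ ((q : ℚ) - 1) ^ 2 * (q : ℚ) ^ k := by
      rcases k with _ | k
      · simp only [R0, Nat.zero_add, pow_zero, mul_one, hsub]; nlinarith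
      · rw [R0]; push_cast; rw [hsub1, pow_succ]; apply le_of_eq; ring
    have hR2 : (R0 q (k + 2) : ℚ) = ((q : ℚ) - 1) ^ 2 * (q : ℚ) ^ k := by rw [R0]; push_cast; rw [hsub1]
    constructor
    · have hb : cR q (2 * k + 4) = q ^ (k + 2) + 6 * q ^ (k + 1) + q ^ k + 3 * (R0 q (k + 2) + 4 * R0 q (k + 1)) := by
        simp [cR, bsp, bspR, hh, Finset.sum_range_succ, Nat.choose, Nat.even_iff,
          show (2 * k + 4) / 2 = k + 2 by omega, show (2 * k + 2) / 2 = k + 1 by omega,
          show (2 * k + 4) % 2 = 0 by omega, show (2 * k + 3) % 2 = 1 by omega, show (2 * k + 2) % 2 = 0 by omega,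
          show (2 * k + 1) % 2 = 1 by omega]
      rw [show 2 * (k + 2) = 2 * k + 4 by ring, NOg_two_add, hb]
      push_cast
      rw [hR2, pow_add, pow_add]
      have h1 := mul_le_mul_of_nonneg_left i1 (show (0 : ℚ) ≤ (q : ℚ) by positivity)
      have key : 4 * (q : ℚ) ^ 3 + 64 / 3 * (q : ℚ) ^ 2 - 20 * q + 12 ≤ 28 / 3 * (q : ℚ) ^ 3 := by
        nlinarith [mul_nonneg (sub_nonneg.2 hq3) (show (0 : ℚ) ≤ 16 / 3 * (q : ℚ) ^ 2 - 16 / 3 * q + 4 by nlinarith)]
      have h2 := mul_le_mul_of_nonneg_right key hqk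
      have h3 := mul_le_mul_of_nonneg_left h1 (show (0 : ℚ) ≤ (q : ℚ) by positivity)
      refine le_of_mul_le_mul_left ?_ (show (0 : ℚ) < q by linarith)
      linarith
    · have hb : cR q (2 * k + 5) = 4 * q ^ (k + 2) + 4 * q ^ (k + 1) + 3 * (4 * R0 q (k + 2)) := by
        simp [cR, bsp, bspR, hh, Finset.sum_range_succ, Nat.choose, Nat.even_iff,
          show (2 * k + 4) / 2 = k + 2 by omega, show (2 * k + 2) / 2 = k + 1 by omega,
          show (2 * k + 5) % 2 = 1 by omega, show (2 * k + 4) % 2 = 0 by omega, show (2 * k + 3) % 2 = 1 by omega,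
          show (2 * k + 2) % 2 = 0 by omega, show (2 * k + 1) % 2 = 1 by omega]
      rw [show 2 * (k + 2) + 1 = 2 * k + 1 + 4 by ring, NOg_two_add, show 2 * k + 1 + 4 = 2 * k + 5 by ring, hb]
      push_cast
      rw [hR2, pow_add, pow_add]
      have h1 := mul_le_mul_of_nonneg_left i2 (show (0 : ℚ) ≤ (q : ℚ) by positivity)
      have key : 16 * (q : ℚ) ^ 2 - 4 * q + 12 ≤ 16 * (q : ℚ) ^ 2 := by linarith
      have h2 := mul_le_mul_of_nonneg_right key hqk
      linarith

/-- The bound. -/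
theorem omega_numeric (hq : 3 ≤ q) {k : ℕ} (hk : 1 ≤ k) :
    5 * (NO q (2 * k + 1) (2 * k + 1) + 3 * NOg q (bspR q) (2 * k + 1) (2 * k + 1)) ≤ 292 * q ^ k := by
  have hall : ∀ J, 2 ≤ J → NOBound q (cR q) 2 J := by
    intro J hJ
    induction J, hJ using Nat.le_induction with
    | base => exact NOBound_two hq
    | succ J hJ ih =>
      rcases Nat.even_or_odd' J with ⟨a, rfl | rfl⟩
      · exact NO_step_odd_size hq zero_le_two (by omega) ih
      · exact NO_step_even_size hq zero_le_two ⟨a, rfl⟩ ih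
  have h1 := (hall (2 * k + 1) (by omega) k).2
  have e : NOg q (cR q) (2 * k + 1) (2 * k + 1) =
      NO q (2 * k + 1) (2 * k + 1) + 3 * NOg q (bspR q) (2 * k + 1) (2 * k + 1) :=
    NOg_linear (bsp q) (bspR q) 3 (2 * k) (2 * k + 1)
  rw [← e]
  have h2 : HH (2 * k + 1) * (2 * (AB (2 * k + 1)).2) ≤ 292 / 5 := by
    have hH := HH_le (2 * k + 1)
    have hB := (AB_le (2 * k + 1)).2
    have := mul_le_mul hH (mul_le_mul_of_nonneg_left hB zero_le_two) (mul_nonneg zero_le_two (AB_nonneg _).2) (by norm_num)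
    linarith
  have h3 := mul_le_mul_of_nonneg_right h2 (pow_nonneg (Nat.cast_nonneg q : (0 : ℚ) ≤ q) k)
  have h4 : ((5 * NOg q (cR q) (2 * k + 1) (2 * k + 1) : ℕ) : ℚ) ≤ ((292 * q ^ k : ℕ) : ℚ) := by
    push_cast; linarith
  exact_mod_cast h4

end Cfsg.Lib.Linear.ClassSp
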