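import Cfsg.Agent.Lib.Linear.ClassSp.CountOrth
import Cfsg.Agent.Lib.Linear.ClassSp.NumericOmega

/-!
# Entries with roots `±1` of multiplicity at most one
-/

set_option autoImplicit false

universe u

namespace Cfsg.Lib.Linear.ClassSp

open Polynomial Cfsg.Lib.Linear.ClassU

variable {F : Type u} [Field F]

/-- The roots `±1` are simple. -/
def Simple1 (P : F[X]) : Prop := rootMultiplicity 1 P ≤ 1 ∧ rootMultiplicity (-1) P ≤ 1

/-- Self-reciprocal polynomials of degree `D` without roots `±1`. -/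
abbrev NoRoot (F : Type u) [Field F] (D : ℕ) : Type u :=
  {P : SPal F D // P.1.eval 1 ≠ 0 ∧ P.1.eval (-1) ≠ 0}

variable [Fintype F] {q : ℕ}

theorem card_noRoot (hq : Fintype.card F = q) (h2 : (2 : F) ≠ 0) (D : ℕ) :
    Nat.card (NoRoot F D) ≤ if Even D then R0 q (D / 2) else 0 := by
  classical
  have hpar : ∀ P : NoRoot F D, Even D ∧ P.1.1.coeff 0 = 1 := fun P => by
    obtain ⟨h1, h3⟩ := sr_parity h2 P.1.2.1
      (by rw [rootMultiplicity_eq_zero P.2.1]; exact Even.zero) (by rw [rootMultiplicity_eq_zero P.2.2]; exact Even.zero)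
    exact ⟨P.1.2.2 ▸ h1, h3⟩
  split_ifs with he
  swap
  · have : IsEmpty (NoRoot F D) := ⟨fun P => he (hpar P).1⟩
    rw [Nat.card_of_isEmpty]
  obtain ⟨c, rfl⟩ := he
  rw [show (c + c) / 2 = c by omega]
  rcases c with _ | _ | c
  · have : Subsingleton (NoRoot F (0 + 0)) := ⟨fun P Q => Subtype.ext (Subtype.ext
      ((P.1.2.1.1.natDegree_eq_zero.1 P.1.2.2).trans (Q.1.2.1.1.natDegree_eq_zero.1 Q.1.2.2).symm))⟩
    exact Finite.card_le_one_iff_subsingleton.2 this
  · have hev : ∀ (P : NoRoot F (1 + 1)) (s : F), s * s = 1 → P.1.1.eval s = 2 + P.1.1.coeff 1 * s := fun P s hs => by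
      rw [eval_eq_sum_range, P.1.2.2]
      have htop : P.1.1.coeff 2 = 1 := by
        have := P.1.2.1.1.coeff_natDegree
        rwa [P.1.2.2] at this
      simp [Finset.sum_range_succ, (hpar P).2, htop, pow_two, hs]
      ring
    refine le_trans (Nat.card_le_card_of_injective (β := {x : F // x ∈ (Finset.univ \ {2, -2} : Finset F)})
      (fun P => ⟨P.1.1.coeff 1, ?_⟩) ?_) ?_
    · simp only [Finset.mem_sdiff, Finset.mem_univ, true_and, Finset.mem_insert, Finset.mem_singleton]
      rintro (h | h)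
      · exact P.2.2 (by rw [hev P (-1) (by ring), h]; ring)
      · exact P.2.1 (by rw [hev P 1 (one_mul 1), h]; ring)
    · intro P Q h
      have h1 : P.1.1.coeff 1 = Q.1.1.coeff 1 := congrArg Subtype.val h
      refine Subtype.ext (Subtype.ext (Polynomial.ext fun i => ?_))
      match i with
      | 0 => rw [(hpar P).2, (hpar Q).2]
      | 1 => exact h1
      | 2 =>
        have e1 := P.1.2.1.1.coeff_natDegree
        have e2 := Q.1.2.1.1.coeff_natDegree
        rw [P.1.2.2] at e1
        rw [Q.1.2.2] at e2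
        rw [e1, e2]
      | i + 3 =>
        rw [coeff_eq_zero_of_natDegree_lt (by rw [P.1.2.2]; omega),
          coeff_eq_zero_of_natDegree_lt (by rw [Q.1.2.2]; omega)]
    · rw [Nat.card_eq_finsetCard, Finset.card_sdiff_of_subset (Finset.subset_univ _), Finset.card_univ, hq,
        Finset.card_pair (fun h => mul_ne_zero h2 h2 (by linear_combination h))]
      exact le_rfl
  · refine le_trans (Nat.card_le_card_of_injective (β := (Fin c → F) × Fˣ × Fˣ)
      (fun P => (fun i => P.1.1.coeff (i.val + 1), Units.mk0 _ P.2.1, Units.mk0 _ P.2.2)) ?_) ?_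
    · intro P Q h
      simp only [Prod.mk.injEq] at h
      obtain ⟨h1, h3, h4⟩ := h
      have h3' : P.1.1.eval 1 = Q.1.1.eval 1 := congrArg Units.val h3
      have h4' : P.1.1.eval (-1) = Q.1.1.eval (-1) := congrArg Units.val h4
      set u := P.1.1.coeff (c + 1) - Q.1.1.coeff (c + 1) with hu
      set v := P.1.1.coeff (c + 2) - Q.1.1.coeff (c + 2) with hv
      have low : ∀ i ≤ c, P.1.1.coeff i = Q.1.1.coeff i := fun i hi => by
        rcases Nat.eq_zero_or_pos i with rfl | hi0
        · rw [(hpar P).2, (hpar Q).2]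
        · have := congrFun h1 ⟨i - 1, by omega⟩
          simpa [Nat.sub_add_cancel hi0] using this
      have sym : ∀ (R : NoRoot F (c + 1 + 1 + (c + 1 + 1))) (i : ℕ), i ≤ 2 * c + 4 →
          R.1.1.coeff (2 * c + 4 - i) = R.1.1.coeff i := fun R i hi => by
        have := sr_coeff R.1.2.1 (i := i) (by rw [R.1.2.2]; omega)
        rw [R.1.2.2, (hpar R).2, one_mul] at this
        exact (congrArg (fun m => R.1.1.coeff (m - i)) (show 2 * c + 4 = c + 1 + 1 + (c + 1 + 1) by omega)).trans this
      have hdiff : P.1.1 - Q.1.1 = C u * (X ^ (c + 1) + X ^ (c + 3)) + C v * X ^ (c + 2) := by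
        ext i
        rw [coeff_sub, coeff_add, coeff_C_mul, coeff_C_mul, coeff_add, coeff_X_pow, coeff_X_pow, coeff_X_pow]
        rcases lt_trichotomy i (c + 2) with hi | hi | hi
        · by_cases h : i = c + 1
          · subst h
            simp [u]
          · rw [low i (by omega), sub_self, if_neg (by omega), if_neg (by omega), if_neg (by omega)]
            simp
        · subst hi
          simp [v]
        · by_cases h : i = c + 3
          · subst h
            have e1 := sym P (c + 1) (by omega)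
            have e2 := sym Q (c + 1) (by omega)
            rw [show 2 * c + 4 - (c + 1) = c + 3 by omega] at e1 e2
            simp [u, e1, e2]
          · rw [if_neg (by omega), if_neg (by omega), if_neg (by omega)]
            rcases le_or_gt i (2 * c + 4) with hi2 | hi2
            · have e1 := sym P (2 * c + 4 - i) (by omega)
              have e2 := sym Q (2 * c + 4 - i) (by omega)
              rw [Nat.sub_sub_self hi2] at e1 e2
              rw [e1, e2, low _ (by omega)]
              simp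
            · rw [coeff_eq_zero_of_natDegree_lt (by rw [P.1.2.2]; omega),
                coeff_eq_zero_of_natDegree_lt (by rw [Q.1.2.2]; omega)]
              simp
      have ev : ∀ s : F, s * s = 1 → P.1.1.eval s = Q.1.1.eval s → 2 * u + v * s = 0 := fun s hs he => by
        have h5 := congrArg (Polynomial.eval s) hdiff
        rw [eval_sub, he, sub_self, eval_add, eval_mul, eval_mul, eval_C, eval_C, eval_add, eval_pow, eval_pow,
          eval_pow, eval_X] at h5
        refine mul_left_cancel₀ (pow_ne_zero (c + 1) (left_ne_zero_of_mul_eq_one hs)) ?_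
        rw [show s ^ (c + 3) = s ^ (c + 1) by rw [pow_add, pow_add, show s ^ 3 = s by rw [pow_three, hs, mul_one], pow_one],
          pow_succ s (c + 1)] at h5
        linear_combination -h5
      have a1 := ev 1 (one_mul 1) h3'
      have a2 := ev (-1) (by ring) h4'
      have hu0 : u = 0 := (mul_eq_zero.1 (show (2 * 2 : F) * u = 0 by linear_combination a1 + a2)).resolve_left
        (mul_ne_zero h2 h2)
      have hv0 : v = 0 := by linear_combination a1 - 2 * hu0
      rw [hu0, hv0, map_zero, zero_mul, zero_mul, add_zero, sub_eq_zero] at hdiff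
      exact Subtype.ext (Subtype.ext hdiff)
    · rw [Nat.card_prod, Nat.card_prod, Nat.card_fun, Nat.card_fin, Nat.card_units, Nat.card_eq_fintype_card, hq, R0,
        mul_comm, sq]

theorem card_marked_simple (hq : Fintype.card F = q) (h2 : (2 : F) ≠ 0) (D : ℕ) :
    Nat.card {z : (Bool × Bool) × SPal F D // Marked z.2.1 z.1 ∧ Simple1 z.2.1} ≤ bspR q D := by
  classical
  let dg : Fin 3 → ℕ := fun i => if i = 0 then 0 else 1
  have hex : ∀ z : {z : (Bool × Bool) × SPal F D // Marked z.2.1 z.1 ∧ Simple1 z.2.1},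
      ∃ t : Fin 3 × Fin 3, ∃ R : NoRoot F (D - (dg t.1 + dg t.2)), dg t.1 + dg t.2 ≤ D ∧
        z.1.2.1 = (X - C 1) ^ dg t.1 * ((X - C (-1)) ^ dg t.2 * R.1.1) ∧
        z.1.1 = (decide (t.1 = 2), decide (t.2 = 2)) := fun z => by
    obtain ⟨⟨⟨b1, b2⟩, P⟩, ⟨hb1, hb2⟩, hs1, hs2⟩ := z
    have hs : (-1 : F) * -1 = 1 := by ring
    obtain ⟨R, hR, hnd⟩ := exists_eq_pow_rootMultiplicity_mul_and_not_dvd P.1 P.2.1.1.ne_zero 1
    have hL := isSR_pow (isSR_X_sub_C (one_mul (1 : F))) (rootMultiplicity 1 P.1)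
    have hRS : IsSR (σ₁ F) R := hL.of_mul (hR ▸ P.2.1)
    obtain ⟨S, hS, hnd'⟩ := exists_eq_pow_rootMultiplicity_mul_and_not_dvd R hRS.1.ne_zero (-1)
    have hL' := isSR_pow (isSR_X_sub_C hs) (rootMultiplicity (-1) R)
    have hSS : IsSR (σ₁ F) S := hL'.of_mul (hS ▸ hRS)
    have hmr : rootMultiplicity (-1) R = rootMultiplicity (-1) P.1 := by
      have h1 : rootMultiplicity (-1) ((X - C 1) ^ rootMultiplicity 1 P.1 : F[X]) = 0 := by
        refine rootMultiplicity_eq_zero fun h => ?_
        rw [IsRoot, eval_pow, eval_sub, eval_X, eval_C] at h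
        exact h2 (by linear_combination -(eq_zero_of_pow_eq_zero h))
      conv_rhs => rw [hR, rootMultiplicity_mul (mul_ne_zero hL.1.ne_zero hRS.1.ne_zero), h1, zero_add]
    obtain ⟨i, hi, hib⟩ : ∃ i : Fin 3, dg i = rootMultiplicity 1 P.1 ∧ b1 = decide (i = 2) := by
      rcases Nat.le_one_iff_eq_zero_or_eq_one.1 hs1 with h | h
      · refine ⟨0, by simp [dg, h], ?_⟩
        cases b1 with
        | false => rfl
        | true => exact absurd ((rootMultiplicity_pos P.2.1.1.ne_zero).2 (hb1 rfl)) (Nat.lt_irrefl _ ∘ fun h' => h ▸ h')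
      · cases b1 with
        | false => exact ⟨1, by simp [dg, h], rfl⟩
        | true => exact ⟨2, by simp [dg, h], rfl⟩
    obtain ⟨j, hj, hjb⟩ : ∃ j : Fin 3, dg j = rootMultiplicity (-1) R ∧ b2 = decide (j = 2) := by
      rw [hmr]
      rcases Nat.le_one_iff_eq_zero_or_eq_one.1 hs2 with h | h
      · refine ⟨0, by simp [dg, h], ?_⟩
        cases b2 with
        | false => rfl
        | true => exact absurd ((rootMultiplicity_pos P.2.1.1.ne_zero).2 (hb2 rfl)) (Nat.lt_irrefl _ ∘ fun h' => h ▸ h')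
      · cases b2 with
        | false => exact ⟨1, by simp [dg, h], rfl⟩
        | true => exact ⟨2, by simp [dg, h], rfl⟩
    have hPd : P.1.natDegree = dg i + (dg j + S.natDegree) := by
      conv_lhs => rw [hR, hL.1.natDegree_mul hRS.1, natDegree_pow, natDegree_X_sub_C, mul_one, hS,
        hL'.1.natDegree_mul hSS.1, natDegree_pow, natDegree_X_sub_C, mul_one]
      rw [hi, hj]
    rw [P.2.2] at hPd
    refine ⟨(i, j), ⟨⟨S, hSS, by simp only; omega⟩, fun h => hnd ?_, fun h => hnd' (dvd_iff_isRoot.2 h)⟩,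
      by simp only; omega, ?_, Prod.ext hib hjb⟩
    · rw [hS]; exact (dvd_iff_isRoot.2 h).mul_left _
    · show P.1 = (X - C 1) ^ dg i * ((X - C (-1)) ^ dg j * S)
      rw [hi, hj, ← hS, ← hR]
  choose t R hle hP hb using hex
  refine (Nat.card_le_card_of_injective
    (β := Σ t : Fin 3 × Fin 3, {R : NoRoot F (D - (dg t.1 + dg t.2)) // dg t.1 + dg t.2 ≤ D})
    (fun z => ⟨t z, R z, hle z⟩) fun z w h => ?_).trans ?_
  · have key := congrArg (fun x : Σ t : Fin 3 × Fin 3, {R : NoRoot F (D - (dg t.1 + dg t.2)) // dg t.1 + dg t.2 ≤ D} =>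
      ((X - C 1) ^ dg x.1.1 * ((X - C (-1)) ^ dg x.1.2 * x.2.1.1.1), (decide (x.1.1 = 2), decide (x.1.2 = 2)))) h
    simp only [Prod.mk.injEq] at key
    refine Subtype.ext (Prod.ext ?_ (Subtype.ext ?_))
    · rw [hb z, hb w]; exact Prod.ext key.2.1 key.2.2
    · rw [hP z, hP w]; exact key.1
  rw [Nat.card_sigma]
  refine le_trans (Finset.sum_le_sum (g := fun t : Fin 3 × Fin 3 =>
    if dg t.1 + dg t.2 ≤ D ∧ Even (D - (dg t.1 + dg t.2)) then R0 q ((D - (dg t.1 + dg t.2)) / 2) else 0)
    fun t _ => ?_) (le_of_eq ?_)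
  · by_cases h : dg t.1 + dg t.2 ≤ D
    · refine (Nat.card_le_card_of_injective _ Subtype.val_injective).trans ((card_noRoot hq h2 _).trans (le_of_eq ?_))
      simp only [h, true_and]
    · have : IsEmpty {R : NoRoot F (D - (dg t.1 + dg t.2)) // dg t.1 + dg t.2 ≤ D} := ⟨fun R => h R.2⟩
      rw [Nat.card_of_isEmpty]
      exact Nat.zero_le _
  · rcases D with _ | _ | D <;>
      simp [Fintype.sum_prod_type, Fin.sum_univ_three, dg, bspR, Finset.sum_range_succ, Nat.choose, Nat.even_add_one,
        parity_simps] <;> (try split_ifs) <;> (try omega) <;> ring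

end Cfsg.Lib.Linear.ClassSp
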