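import Cfsg.Agent.Lib.Linear.ClassSp.Numeric

/-!
# The numerical bound for the class numbers of orthogonal groups in even dimension, `q` odd
-/

set_option autoImplicit false

namespace Cfsg.Lib.Linear.ClassSp

/-- The bound on the weighted tuples with blocks of size at most `J`, in dimension `n`, `f` counting the entries
of block size one. -/
def NOg (q : ℕ) (f : ℕ → ℕ) : ℕ → ℕ → ℕ
  | 0, n => if n = 0 then 1 else 0
  | J + 1, n =>
    if J = 0 then f n else
    if Even J then ∑ D ∈ Finset.range (n + 1), if (J + 1) * D ≤ n then bsp q D * NOg q f J (n - (J + 1) * D) else 0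
    else ∑ c ∈ Finset.range (n + 1),
      if (J + 1) * (2 * c) ≤ n then q ^ c * NOg q f J (n - (J + 1) * (2 * c)) else 0

/-- The bound on the weighted tuples. -/
abbrev NO (q : ℕ) : ℕ → ℕ → ℕ := NOg q (bsp q)

/-- The bound on the tuples all of whose entries have even degree and constant term one. -/
def NP (q : ℕ) : ℕ → ℕ → ℕ
  | 0, k => if k = 0 then 1 else 0
  | J + 1, k => ∑ c ∈ Finset.range (k + 1), if (J + 1) * c ≤ k then q ^ c * NP q J (k - (J + 1) * c) else 0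

/-- The coefficient at an odd power. -/
def cO (a : ℕ) : ℚ := 4 * ((3 ^ (a + 1))⁻¹ + (3 ^ (3 * a + 2))⁻¹)

/-- The coefficient at an even power. -/
def mO (a : ℕ) : ℚ := 1 + 6 * (3 ^ (2 * a + 1))⁻¹ + ((3 ^ (2 * a + 1))⁻¹) ^ 2

/-- The factors without the common geometric series, in even and in odd dimension. -/
def AB : ℕ → ℚ × ℚ
  | 0 => (1, 0)
  | J + 1 =>
    if Even J then (mO (J / 2) * (AB J).1 + cO (J / 2) * (AB J).2, 3 * cO (J / 2) * (AB J).1 + mO (J / 2) * (AB J).2)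
    else AB J

/-- The product of the geometric series. -/
def HH : ℕ → ℚ
  | 0 => 1
  | J + 1 => HH J * (if J = 0 then 1 else (1 - ((3 : ℚ) ^ J)⁻¹)⁻¹)

theorem cO_nonneg (a : ℕ) : 0 ≤ cO a := by rw [cO]; positivity

theorem one_le_mO (a : ℕ) : 1 ≤ mO a := by
  rw [mO, add_assoc]; exact le_add_of_nonneg_right (by positivity)

theorem AB_nonneg : ∀ J, 0 ≤ (AB J).1 ∧ 0 ≤ (AB J).2
  | 0 => by simp [AB]
  | J + 1 => by
    obtain ⟨h1, h2⟩ := AB_nonneg J
    have := cO_nonneg (J / 2)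
    have := zero_le_one.trans (one_le_mO (J / 2))
    rw [AB]
    split_ifs
    · exact ⟨by positivity, by positivity⟩
    · exact ⟨h1, h2⟩

theorem one_le_HH_fac (J : ℕ) : (1 : ℚ) ≤ if J = 0 then 1 else (1 - ((3 : ℚ) ^ J)⁻¹)⁻¹ := by
  split_ifs with h
  · exact le_rfl
  · have h1 : ((3 : ℚ) ^ J)⁻¹ < 1 := inv_lt_one_of_one_lt₀ (one_lt_pow₀ (by norm_num) h)
    have h0 : (0 : ℚ) ≤ ((3 : ℚ) ^ J)⁻¹ := by positivity
    exact one_le_inv₀ (by linarith) |>.2 (by linarith)

theorem HH_nonneg : ∀ J, 0 ≤ HH J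
  | 0 => zero_le_one
  | J + 1 => mul_nonneg (HH_nonneg J) (zero_le_one.trans (one_le_HH_fac J))

theorem HH_mono {J K : ℕ} (h : J ≤ K) : HH J ≤ HH K := by
  induction h with
  | refl => exact le_rfl
  | step h ih => exact ih.trans (le_mul_of_one_le_right (HH_nonneg _) (one_le_HH_fac _))

theorem AB_mono {J K : ℕ} (h : J ≤ K) : (AB J).1 ≤ (AB K).1 ∧ (AB J).2 ≤ (AB K).2 := by
  induction h with
  | refl => exact ⟨le_rfl, le_rfl⟩
  | @step K h ih =>
    obtain ⟨h1, h2⟩ := AB_nonneg K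
    have h3 := cO_nonneg (K / 2)
    have h4 := one_le_mO (K / 2)
    rw [AB]
    split_ifs
    · exact ⟨ih.1.trans (le_add_of_le_of_nonneg (le_mul_of_one_le_left h1 h4) (by positivity)),
        ih.2.trans (le_add_of_nonneg_of_le (by positivity) (le_mul_of_one_le_left h2 h4))⟩
    · exact ih

theorem HH_le (J : ℕ) : HH J ≤ 179 / 100 := by
  have h : ∀ J, 8 ≤ J → HH J * (1 + 2 * ((3 : ℚ) ^ J)⁻¹) ≤ 179 / 100 := by
    intro J hJ
    induction J, hJ using Nat.le_induction with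
    | base => norm_num [HH]
    | succ J hJ ih =>
      refine le_trans ?_ ih
      rw [HH, if_neg (by omega), pow_succ, mul_inv, mul_assoc]
      refine mul_le_mul_of_nonneg_left ?_ (HH_nonneg J)
      have h0 : (0 : ℚ) < ((3 : ℚ) ^ J)⁻¹ := by positivity
      have h1 : ((3 : ℚ) ^ J)⁻¹ ≤ 1 / 6561 := by
        rw [one_div]
        exact inv_anti₀ (by norm_num) (le_trans (by norm_num) (pow_le_pow_right₀ (by norm_num : (1 : ℚ) ≤ 3) hJ))
      generalize ((3 : ℚ) ^ J)⁻¹ = u at h0 h1 ⊢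
      rw [inv_mul_le_iff₀ (by linarith)]
      nlinarith [mul_nonneg h0.le (sub_nonneg.2 h1)]
  have h1 := HH_mono (show J ≤ J + 8 by omega)
  have h2 := h (J + 8) (by omega)
  have h3 : 0 ≤ HH (J + 8) * (2 * ((3 : ℚ) ^ (J + 8))⁻¹) := mul_nonneg (HH_nonneg _) (by positivity)
  linarith

theorem AB_odd (a : ℕ) : AB (2 * a + 3) = (mO (a + 1) * (AB (2 * a + 1)).1 + cO (a + 1) * (AB (2 * a + 1)).2,
    3 * cO (a + 1) * (AB (2 * a + 1)).1 + mO (a + 1) * (AB (2 * a + 1)).2) := by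
  rw [show 2 * a + 3 = (2 * a + 2) + 1 from rfl, AB, if_pos (by simp [parity_simps]),
    show (2 * a + 2) / 2 = a + 1 by omega, show 2 * a + 2 = (2 * a + 1) + 1 from rfl, AB,
    if_neg (by simp [parity_simps])]

theorem AB_le (J : ℕ) : (AB J).1 ≤ 46 / 5 ∧ (AB J).2 ≤ 16 := by
  have h : ∀ a, 5 ≤ a → (AB (2 * a + 1)).1 + 11 * ((3 : ℚ) ^ a)⁻¹ ≤ 46 / 5 ∧
      (AB (2 * a + 1)).2 + 19 * ((3 : ℚ) ^ a)⁻¹ ≤ 16 := by
    intro a ha
    induction a, ha using Nat.le_induction with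
    | base => norm_num [AB, mO, cO, Nat.even_iff]
    | succ a ha ih =>
      obtain ⟨h1, h2⟩ := AB_nonneg (2 * a + 1)
      rw [show 2 * (a + 1) + 1 = 2 * a + 3 from by ring, AB_odd, mO, cO]
      have e1 : ((3 : ℚ) ^ (a + 1 + 1))⁻¹ = ((3 : ℚ) ^ a)⁻¹ / 9 := by
        rw [pow_succ, pow_succ]; field_simp; ring
      have e2 : ((3 : ℚ) ^ (2 * (a + 1) + 1))⁻¹ = (((3 : ℚ) ^ a)⁻¹) ^ 2 / 27 := by
        rw [show 2 * (a + 1) + 1 = a * 2 + 3 from by ring, pow_add, pow_mul]; field_simp; norm_num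
      have e3 : ((3 : ℚ) ^ (3 * (a + 1) + 2))⁻¹ = (((3 : ℚ) ^ a)⁻¹) ^ 3 / 243 := by
        rw [show 3 * (a + 1) + 2 = a * 3 + 5 from by ring, pow_add, pow_mul]; field_simp; norm_num
      have e4 : ((3 : ℚ) ^ (a + 1))⁻¹ = ((3 : ℚ) ^ a)⁻¹ / 3 := by
        rw [pow_succ]; field_simp
      rw [e1, e2, e3, e4]
      have h0 : (0 : ℚ) < ((3 : ℚ) ^ a)⁻¹ := by positivity
      have h5 : ((3 : ℚ) ^ a)⁻¹ ≤ 1 / 243 := by
        rw [one_div]
        exact inv_anti₀ (by norm_num) (le_trans (by norm_num) (pow_le_pow_right₀ (by norm_num : (1 : ℚ) ≤ 3) ha))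
      generalize ((3 : ℚ) ^ a)⁻¹ = u at h0 h5 ih ⊢
      generalize (AB (2 * a + 1)).1 = A at h1 ih ⊢
      generalize (AB (2 * a + 1)).2 = B at h2 ih ⊢
      obtain ⟨i1, i2⟩ := ih
      have hA : A ≤ 46 / 5 := by linarith
      have hB : B ≤ 16 := by linarith
      have hu2 : u ^ 2 ≤ u / 243 := by nlinarith
      have hu3 : u ^ 3 ≤ u / 243 := by nlinarith
      have hu4 : (u ^ 2 / 27) ^ 2 ≤ u / 243 := by nlinarith
      have p1 := mul_le_mul hA hu2 (by positivity) (by norm_num)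
      have p2 := mul_le_mul hA hu4 (by positivity) (by norm_num)
      have p3 := mul_le_mul hB hu3 (by positivity) (by norm_num)
      have p4 := mul_le_mul hB hu2 (by positivity) (by norm_num)
      have p5 := mul_le_mul hB hu4 (by positivity) (by norm_num)
      have p6 := mul_le_mul hA hu3 (by positivity) (by norm_num)
      have p7 := mul_le_mul_of_nonneg_right hA h0.le
      have p8 := mul_le_mul_of_nonneg_right hB h0.le
      constructor <;> linarith
  obtain ⟨a, ha, hJ⟩ : ∃ a, 5 ≤ a ∧ J ≤ 2 * a + 1 := ⟨J + 5, by omega, by omega⟩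
  obtain ⟨h1, h2⟩ := AB_mono hJ
  obtain ⟨h3, h4⟩ := h a ha
  have h5 : (0 : ℚ) ≤ ((3 : ℚ) ^ a)⁻¹ := by positivity
  constructor <;> linarith

variable {q : ℕ}

theorem inv_pow_le_three (hq : 3 ≤ q) (j : ℕ) : ((q : ℚ) ^ j)⁻¹ ≤ ((3 : ℚ) ^ j)⁻¹ :=
  inv_anti₀ (by positivity) (pow_le_pow_left₀ (by norm_num) (by exact_mod_cast hq) j)

theorem geom_le (hq : 3 ≤ q) {J : ℕ} (hJ : J ≠ 0) (M : ℕ) :
    ∑ c ∈ Finset.range M, (((q : ℚ) ^ J)⁻¹) ^ c ≤ (1 - ((3 : ℚ) ^ J)⁻¹)⁻¹ := by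
  have h1 := inv_pow_le_three hq J
  have h3 : ((3 : ℚ) ^ J)⁻¹ < 1 := inv_lt_one_of_one_lt₀ (one_lt_pow₀ (by norm_num) hJ)
  rw [← Nat.Ico_zero_eq_range]
  refine (geom_sum_Ico_le_of_lt_one (by positivity) (lt_of_le_of_lt h1 h3)).trans ?_
  rw [pow_zero, one_div]
  exact inv_anti₀ (by linarith) (by linarith)

theorem NP_le (hq : 3 ≤ q) : ∀ J k, (NP q J k : ℚ) ≤ HH J * (q : ℚ) ^ k := by
  intro J
  induction J with
  | zero =>
    intro k
    rcases eq_or_ne k 0 with rfl | hk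
    · simp [NP, HH]
    · simp [NP, HH, hk]
  | succ J ih =>
    intro k
    rcases eq_or_ne J 0 with rfl | hJ
    · rw [NP, Finset.sum_eq_single_of_mem k (Finset.self_mem_range_succ k)]
      · simp [HH, NP]
      · intro c hc hne
        rw [Finset.mem_range] at hc
        simp [NP, show ¬ k - c = 0 by omega]
    have hq0 : (0 : ℚ) < q := by exact_mod_cast (by omega : 0 < q)
    have hC := HH_nonneg J
    rw [NP, Nat.cast_sum, HH, if_neg hJ]
    refine (Finset.sum_le_sum (g := fun c => HH J * (q : ℚ) ^ k * (((q : ℚ) ^ J)⁻¹) ^ c) fun c _ => ?_).trans ?_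
    · split_ifs with h
      · push_cast
        refine (mul_le_mul_of_nonneg_left (ih (k - (J + 1) * c)) (by positivity)).trans_eq ?_
        have h2 : (q : ℚ) ^ k = (q : ℚ) ^ (k - (J + 1) * c) * ((q : ℚ) ^ c * (q : ℚ) ^ (J * c)) := by
          rw [← pow_add, ← pow_add]
          congr 1
          rw [add_mul, one_mul] at h ⊢
          omega
        rw [h2, inv_pow, ← pow_mul]
        field_simp
      · rw [Nat.cast_zero]; positivity
    · rw [← Finset.mul_sum, mul_right_comm (HH J) ((1 - ((3 : ℚ) ^ J)⁻¹)⁻¹)]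
      exact mul_le_mul_of_nonneg_left (geom_le hq hJ _) (by positivity)

/-- The two bounds at one block size. -/
def NOBound (q : ℕ) (f : ℕ → ℕ) (s : ℚ) (J : ℕ) : Prop :=
  ∀ k, (NOg q f J (2 * k) : ℚ) ≤ HH J * (s * (AB J).1) * (q : ℚ) ^ k ∧
    (NOg q f J (2 * k + 1) : ℚ) ≤ HH J * (s * (AB J).2) * (q : ℚ) ^ k

variable {f : ℕ → ℕ} {s : ℚ}

theorem NO_step_even_size (hq : 3 ≤ q) (hs : 0 ≤ s) {J : ℕ} (hJ : Odd J) (ih : NOBound q f s J) : NOBound q f s (J + 1) := by
  have hq0 : (0 : ℚ) < q := by exact_mod_cast (by omega : 0 < q)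
  obtain ⟨hA, hB⟩ := AB_nonneg J
  have hC := HH_nonneg J
  have hJ0 : J ≠ 0 := by rintro rfl; exact Nat.not_odd_zero hJ
  have key : ∀ r k N (X : ℚ), N = 2 * k + r → 0 ≤ X → (∀ k, (NOg q f J (2 * k + r) : ℚ) ≤ HH J * X * (q : ℚ) ^ k) → r ≤ 1 →
      (NOg q f (J + 1) N : ℚ) ≤ HH (J + 1) * X * (q : ℚ) ^ k := by
    intro r k N X hN hX hr hr1
    rw [NOg, if_neg hJ0, if_neg (Nat.not_even_iff_odd.2 hJ), Nat.cast_sum, HH, if_neg hJ0]
    refine (Finset.sum_le_sum (g := fun c => HH J * X * (q : ℚ) ^ k * (((q : ℚ) ^ J)⁻¹) ^ c) fun c _ => ?_).trans ?_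
    · split_ifs with h
      · push_cast
        have hle : (J + 1) * c ≤ k := by rw [mul_left_comm] at h; omega
        rw [show N - (J + 1) * (2 * c) = 2 * (k - (J + 1) * c) + r by rw [mul_left_comm] at h ⊢; omega]
        refine (mul_le_mul_of_nonneg_left (hr (k - (J + 1) * c)) (by positivity)).trans_eq ?_
        have h2 : (q : ℚ) ^ k = (q : ℚ) ^ (k - (J + 1) * c) * ((q : ℚ) ^ c * (q : ℚ) ^ (J * c)) := by
          rw [← pow_add, ← pow_add]
          congr 1
          rw [add_mul, one_mul] at hle ⊢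
          omega
        rw [h2, inv_pow, ← pow_mul]
        field_simp
      · rw [Nat.cast_zero]; positivity
    · rw [← Finset.mul_sum, mul_right_comm (HH J) ((1 - ((3 : ℚ) ^ J)⁻¹)⁻¹), mul_right_comm (HH J * X) ((1 - ((3 : ℚ) ^ J)⁻¹)⁻¹)]
      exact mul_le_mul_of_nonneg_left (geom_le hq hJ0 _) (by positivity)
  intro k
  rw [AB, if_neg (Nat.not_even_iff_odd.2 hJ)]
  exact ⟨key 0 k _ _ rfl (mul_nonneg hs hA) (fun k => (ih k).1) (Nat.zero_le _), key 1 k _ _ rfl (mul_nonneg hs hB) (fun k => (ih k).2) le_rfl⟩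

theorem NO_step_odd_size (hq : 3 ≤ q) (hs : 0 ≤ s) {a : ℕ} (ha : 1 ≤ a) (ih : NOBound q f s (2 * a)) : NOBound q f s (2 * a + 1) := by
  have hq0 : (0 : ℚ) < q := by exact_mod_cast (by omega : 0 < q)
  obtain ⟨hA, hB⟩ := AB_nonneg (2 * a)
  have hC := HH_nonneg (2 * a)
  -- one term of the convolution
  have key : ∀ N k, k = N / 2 → ∀ (r : ℕ) (X : ℚ) (d : ℕ), 0 ≤ X →
      (∀ c, (2 * a + 1) * (r + 2 * c) ≤ N →
        (c + (2 * a * c + d) ≤ k) ∧ (NOg q f (2 * a) (N - (2 * a + 1) * (r + 2 * c)) : ℚ) ≤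
          HH (2 * a) * X * (q : ℚ) ^ (k - c - (2 * a * c + d))) →
      ∑ D ∈ Finset.range (N + 1), (if r ≤ D ∧ (2 * a + 1) * D ≤ N then (hh q (D - r) : ℚ) * NOg q f (2 * a) (N - (2 * a + 1) * D) else 0) ≤
        HH (2 * a + 1) * (X * ((3 : ℚ) ^ d)⁻¹) * (q : ℚ) ^ k := by
    intro N k hk r X d hX h
    calc ∑ D ∈ Finset.range (N + 1), (if r ≤ D ∧ (2 * a + 1) * D ≤ N then (hh q (D - r) : ℚ) * NOg q f (2 * a) (N - (2 * a + 1) * D) else 0)
        ≤ ∑ D ∈ Finset.range (N + 1), (if r ≤ D ∧ Even (D - r) then HH (2 * a) * X * ((q : ℚ) ^ d)⁻¹ * (q : ℚ) ^ k * (((q : ℚ) ^ (2 * a))⁻¹) ^ ((D - r) / 2) else 0) := by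
          refine Finset.sum_le_sum fun D _ => ?_
          by_cases h1 : r ≤ D ∧ (2 * a + 1) * D ≤ N
          · rw [if_pos h1]
            by_cases h2 : Even (D - r)
            · obtain ⟨c, hc⟩ := h2
              rw [if_pos ⟨h1.1, c, hc⟩, hh, if_pos ⟨c, hc⟩, show (D - r) / 2 = c by omega]
              have hD : D = r + 2 * c := by omega
              obtain ⟨h3, h4⟩ := h c (hD ▸ h1.2)
              push_cast
              rw [hD]
              refine (mul_le_mul_of_nonneg_left h4 (by positivity)).trans_eq ?_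
              have h5 : (q : ℚ) ^ k = (q : ℚ) ^ (k - c - (2 * a * c + d)) * ((q : ℚ) ^ c * ((q : ℚ) ^ (2 * a * c) * (q : ℚ) ^ d)) := by
                rw [← pow_add, ← pow_add, ← pow_add]
                congr 1
                omega
              rw [h5, inv_pow, ← pow_mul]
              field_simp
            · rw [if_neg (fun h => h2 h.2), hh, if_neg h2]; simp
          · rw [if_neg h1]
            split_ifs
            · positivity
            · exact le_rfl
      _ ≤ ∑ c ∈ Finset.range (N + 1), HH (2 * a) * X * ((q : ℚ) ^ d)⁻¹ * (q : ℚ) ^ k * (((q : ℚ) ^ (2 * a))⁻¹) ^ c := by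
          rw [← Finset.sum_filter]
          refine (le_of_eq (Finset.sum_image (f := fun c => HH (2 * a) * X * ((q : ℚ) ^ d)⁻¹ * (q : ℚ) ^ k * (((q : ℚ) ^ (2 * a))⁻¹) ^ c)
            (g := fun D => (D - r) / 2) ?_).symm).trans ?_
          · intro x hx y hy hxy
            simp only [Finset.coe_filter, Finset.mem_range, Set.mem_setOf_eq] at hx hy
            obtain ⟨u, hu⟩ := hx.2.2
            obtain ⟨v, hv⟩ := hy.2.2
            simp only at hxy
            omega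
          · refine Finset.sum_le_sum_of_subset_of_nonneg (fun c hc => ?_) fun c _ _ => by positivity
            obtain ⟨D, hD, rfl⟩ := Finset.mem_image.1 hc
            simp only [Finset.mem_filter, Finset.mem_range] at hD ⊢
            omega
      _ ≤ _ := by
          rw [← Finset.mul_sum, HH, if_neg (by omega)]
          refine (mul_le_mul (mul_le_mul_of_nonneg_right (mul_le_mul_of_nonneg_left (inv_pow_le_three hq d)
            (by positivity)) (by positivity)) (geom_le hq (by omega) _) (Finset.sum_nonneg fun c _ => by positivity)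
            (by positivity)).trans_eq ?_
          ring
  -- splitting off the binomial
  have hsplit : ∀ N, (NOg q f (2 * a + 1) N : ℚ) = ∑ r ∈ Finset.range 5, (Nat.choose 4 r : ℚ) *
      ∑ D ∈ Finset.range (N + 1), (if r ≤ D ∧ (2 * a + 1) * D ≤ N then (hh q (D - r) : ℚ) * NOg q f (2 * a) (N - (2 * a + 1) * D) else 0) := fun N => by
    rw [NOg, if_neg (show ¬ 2 * a = 0 by omega), if_pos (even_two_mul a), Nat.cast_sum]
    conv_rhs => arg 2; ext r; rw [Finset.mul_sum]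
    rw [Finset.sum_comm]
    refine Finset.sum_congr rfl fun D _ => ?_
    by_cases h : (2 * a + 1) * D ≤ N
    · rw [if_pos h, bsp, Nat.cast_mul, Nat.cast_sum, Finset.sum_mul]
      refine Finset.sum_congr rfl fun r _ => ?_
      by_cases hr : r ≤ D
      · rw [if_pos hr, if_pos ⟨hr, h⟩]; push_cast; ring
      · rw [if_neg hr, if_neg (fun h => hr h.1)]; simp
    · rw [if_neg h, Nat.cast_zero, Finset.sum_eq_zero]
      intro r _
      rw [if_neg (fun h' => h h'.2), mul_zero]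
  have five : ∀ f : ℕ → ℚ, ∑ r ∈ Finset.range 5, (Nat.choose 4 r : ℚ) * f r = f 0 + 4 * f 1 + 6 * f 2 + 4 * f 3 + f 4 :=
    fun f => by simp [Finset.sum_range_succ, Nat.choose]
  intro k
  rw [AB, if_pos (even_two_mul a), Nat.mul_div_cancel_left _ two_pos]
  have e : ∀ c r, (2 * a + 1) * (r + 2 * c) = r * (2 * a + 1) + 2 * (2 * a * c) + 2 * c := fun c r => by ring
  constructor
  · have t0 := key (2 * k) k (by omega) 0 (s * (AB (2 * a)).1) 0 (mul_nonneg hs hA) fun c h => by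
      rw [e] at h ⊢
      refine ⟨by omega, ?_⟩
      rw [show 2 * k - (0 * (2 * a + 1) + 2 * (2 * a * c) + 2 * c) = 2 * (k - c - (2 * a * c + 0)) by omega]
      exact (ih _).1
    have t1 := key (2 * k) k (by omega) 1 (s * (AB (2 * a)).2) (a + 1) (mul_nonneg hs hB) fun c h => by
      rw [e] at h ⊢
      refine ⟨by omega, ?_⟩
      rw [show 2 * k - (1 * (2 * a + 1) + 2 * (2 * a * c) + 2 * c) = 2 * (k - c - (2 * a * c + (a + 1))) + 1 by omega]
      exact (ih _).2
    have t2 := key (2 * k) k (by omega) 2 (s * (AB (2 * a)).1) (2 * a + 1) (mul_nonneg hs hA) fun c h => by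
      rw [e] at h ⊢
      refine ⟨by omega, ?_⟩
      rw [show 2 * k - (2 * (2 * a + 1) + 2 * (2 * a * c) + 2 * c) = 2 * (k - c - (2 * a * c + (2 * a + 1))) by omega]
      exact (ih _).1
    have t3 := key (2 * k) k (by omega) 3 (s * (AB (2 * a)).2) (3 * a + 2) (mul_nonneg hs hB) fun c h => by
      rw [e] at h ⊢
      refine ⟨by omega, ?_⟩
      rw [show 2 * k - (3 * (2 * a + 1) + 2 * (2 * a * c) + 2 * c) = 2 * (k - c - (2 * a * c + (3 * a + 2))) + 1 by omega]
      exact (ih _).2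
    have t4 := key (2 * k) k (by omega) 4 (s * (AB (2 * a)).1) (4 * a + 2) (mul_nonneg hs hA) fun c h => by
      rw [e] at h ⊢
      refine ⟨by omega, ?_⟩
      rw [show 2 * k - (4 * (2 * a + 1) + 2 * (2 * a * c) + 2 * c) = 2 * (k - c - (2 * a * c + (4 * a + 2))) by omega]
      exact (ih _).1
    rw [hsplit, five]
    rw [mO, cO]
    have e2 : (((3 : ℚ) ^ (2 * a + 1))⁻¹) ^ 2 = ((3 : ℚ) ^ (4 * a + 2))⁻¹ := by
      rw [inv_pow, ← pow_mul]; ring_nf
    rw [e2]
    rw [pow_zero, inv_one] at t0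
    linarith
  · have t0 := key (2 * k + 1) k (by omega) 0 (s * (AB (2 * a)).2) 0 (mul_nonneg hs hB) fun c h => by
      rw [e] at h ⊢
      refine ⟨by omega, ?_⟩
      rw [show 2 * k + 1 - (0 * (2 * a + 1) + 2 * (2 * a * c) + 2 * c) = 2 * (k - c - (2 * a * c + 0)) + 1 by omega]
      exact (ih _).2
    have t1 := key (2 * k + 1) k (by omega) 1 (s * (AB (2 * a)).1) a (mul_nonneg hs hA) fun c h => by
      rw [e] at h ⊢
      refine ⟨by omega, ?_⟩
      rw [show 2 * k + 1 - (1 * (2 * a + 1) + 2 * (2 * a * c) + 2 * c) = 2 * (k - c - (2 * a * c + a)) by omega]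
      exact (ih _).1
    have t2 := key (2 * k + 1) k (by omega) 2 (s * (AB (2 * a)).2) (2 * a + 1) (mul_nonneg hs hB) fun c h => by
      rw [e] at h ⊢
      refine ⟨by omega, ?_⟩
      rw [show 2 * k + 1 - (2 * (2 * a + 1) + 2 * (2 * a * c) + 2 * c) = 2 * (k - c - (2 * a * c + (2 * a + 1))) + 1 by omega]
      exact (ih _).2
    have t3 := key (2 * k + 1) k (by omega) 3 (s * (AB (2 * a)).1) (3 * a + 1) (mul_nonneg hs hA) fun c h => by
      rw [e] at h ⊢
      refine ⟨by omega, ?_⟩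
      rw [show 2 * k + 1 - (3 * (2 * a + 1) + 2 * (2 * a * c) + 2 * c) = 2 * (k - c - (2 * a * c + (3 * a + 1))) by omega]
      exact (ih _).1
    have t4 := key (2 * k + 1) k (by omega) 4 (s * (AB (2 * a)).2) (4 * a + 2) (mul_nonneg hs hB) fun c h => by
      rw [e] at h ⊢
      refine ⟨by omega, ?_⟩
      rw [show 2 * k + 1 - (4 * (2 * a + 1) + 2 * (2 * a * c) + 2 * c) = 2 * (k - c - (2 * a * c + (4 * a + 2))) + 1 by omega]
      exact (ih _).2
    rw [hsplit, five]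
    rw [mO, cO]
    have e2 : (((3 : ℚ) ^ (2 * a + 1))⁻¹) ^ 2 = ((3 : ℚ) ^ (4 * a + 2))⁻¹ := by
      rw [inv_pow, ← pow_mul]; ring_nf
    have e3 : ((3 : ℚ) ^ (a + 1))⁻¹ = ((3 : ℚ) ^ a)⁻¹ / 3 := by rw [pow_succ]; field_simp
    have e4 : ((3 : ℚ) ^ (3 * a + 2))⁻¹ = ((3 : ℚ) ^ (3 * a + 1))⁻¹ / 3 := by
      rw [pow_succ _ (3 * a + 1)]; field_simp
    rw [e2, e3, e4]
    rw [pow_zero, inv_one] at t0
    linarith

theorem NOg_one (n : ℕ) : NOg q f 1 n = f n := by rw [NOg, if_pos rfl]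

theorem NOBound_one (hq : 3 ≤ q) : NOBound q (bsp q) 1 1 := by
  have hq0 : (0 : ℚ) < q := by exact_mod_cast (by omega : 0 < q)
  have hq3 : (3 : ℚ) ≤ q := by exact_mod_cast hq
  have hH : HH 1 = 1 := by norm_num [HH]
  have hAB : AB 1 = (28 / 9, 16 / 3) := by norm_num [AB, mO, cO, Nat.even_iff]
  intro k
  rw [NOg_one, NOg_one, hH, hAB]
  rcases k with _ | _ | k
  · constructor <;> norm_num [bsp, hh, Finset.sum_range_succ, Nat.choose, Nat.even_iff]
  · constructor <;> norm_num [bsp, hh, Finset.sum_range_succ, Nat.choose, Nat.even_iff] <;> nlinarith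
  · constructor
    · have hb : bsp q (2 * (k + 1 + 1)) = q ^ (k + 2) + 6 * q ^ (k + 1) + q ^ k := by
        simp [bsp, hh, Finset.sum_range_succ, Nat.choose, show 2 * (k + 1 + 1) = 2 * k + 4 by ring, Nat.even_iff,
          show (2 * k + 4) / 2 = k + 2 by omega, show (2 * k + 2) / 2 = k + 1 by omega,
          show (2 * k + 4) % 2 = 0 by omega, show (2 * k + 3) % 2 = 1 by omega, show (2 * k + 2) % 2 = 0 by omega,
          show (2 * k + 1) % 2 = 1 by omega]
      rw [hb]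
      push_cast
      have : (0 : ℚ) < (q : ℚ) ^ k := by positivity
      have h9 : (9 : ℚ) * (q ^ 2 + 6 * q + 1) ≤ 28 * (q : ℚ) ^ 2 := by nlinarith
      rw [show k + 1 + 1 = k + 2 from rfl, pow_add, pow_add]
      nlinarith
    · have hb : bsp q (2 * (k + 1 + 1) + 1) = 4 * q ^ (k + 2) + 4 * q ^ (k + 1) := by
        simp [bsp, hh, Finset.sum_range_succ, Nat.choose, show 2 * (k + 1 + 1) + 1 = 2 * k + 5 by ring, Nat.even_iff,
          show (2 * k + 4) / 2 = k + 2 by omega, show (2 * k + 2) / 2 = k + 1 by omega,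
          show (2 * k + 5) % 2 = 1 by omega, show (2 * k + 4) % 2 = 0 by omega, show (2 * k + 3) % 2 = 1 by omega,
          show (2 * k + 2) % 2 = 0 by omega, show (2 * k + 1) % 2 = 1 by omega]
      rw [hb]
      push_cast
      have : (0 : ℚ) < (q : ℚ) ^ k := by positivity
      rw [show k + 1 + 1 = k + 2 from rfl, pow_add, pow_add]
      nlinarith [mul_le_mul_of_nonneg_left hq3 (by positivity : (0 : ℚ) ≤ (q : ℚ) ^ k * q)]

theorem NOBound_all (hq : 3 ≤ q) : ∀ J, NOBound q (bsp q) 1 J := by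
  intro J
  induction J with
  | zero =>
    intro k
    rcases eq_or_ne k 0 with rfl | hk
    · simp [NOg, HH, AB]
    · simp [NOg, HH, AB, hk]
  | succ J ih =>
    rcases Nat.even_or_odd' J with ⟨a, rfl | rfl⟩
    · rcases Nat.eq_zero_or_pos a with rfl | ha
      · exact NOBound_one hq
      · exact NO_step_odd_size hq zero_le_one ha ih
    · exact NO_step_even_size hq zero_le_one ⟨a, rfl⟩ ih

/-- The bound. -/
theorem NO_add_NP_le (hq : 3 ≤ q) (J k : ℕ) : NO q J (2 * k) + NP q J k ≤ 19 * q ^ k := by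
  have hq0 : (0 : ℚ) < q := by exact_mod_cast (by omega : 0 < q)
  have h1 := (NOBound_all hq J k).1
  have h2 := NP_le hq J k
  have h3 : HH J * ((AB J).1 + 1) ≤ 19 := by
    refine (mul_le_mul (HH_le J) (show (AB J).1 + 1 ≤ 51 / 5 by linarith [(AB_le J).1]) ?_ (by norm_num)).trans
      (by norm_num)
    linarith [(AB_nonneg J).1]
  have h4 := mul_le_mul_of_nonneg_right h3 (pow_nonneg hq0.le k)
  have h5 : ((NO q J (2 * k) + NP q J k : ℕ) : ℚ) ≤ 19 * (q : ℚ) ^ k := by push_cast; linarith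
  exact_mod_cast h5

end Cfsg.Lib.Linear.ClassSp
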