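import Cfsg.Agent.Lib.Linear.ClassSp.Count
import Cfsg.Agent.Lib.Linear.ClassSp.NumericOrth

/-!
# Weighted counts of tuples for symmetric forms
-/

set_option autoImplicit false

universe u

namespace Cfsg.Lib.Linear.ClassSp

open Polynomial Cfsg.Lib.Linear.ClassNumberGL Cfsg.Lib.Linear.ClassWeight Cfsg.Lib.Linear.ClassU

variable {F : Type u} [Field F]

/-- The conditions on a tuple with sign choices, for symmetric forms. -/
def GoodO {J : ℕ} (g : Fin J → F[X]) (b : Fin J → Bool × Bool) : Prop :=
  ∀ j, IsSR (σ₁ F) (g j) ∧ (Odd j.val → Even (g j).natDegree ∧ (g j).coeff 0 = 1 ∧ b j = (false, false)) ∧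
    Marked (g j) (b j)

/-- Tuples with sign choices, for symmetric forms. -/
abbrev WTupO (F : Type u) [Field F] (J n : ℕ) : Type u :=
  {z : Tup F J n × (Fin J → Bool × Bool) // GoodO z.1.1 z.2}

/-- The same, the entry of block size one satisfying `P`. -/
def GoodP (P : F[X] → Prop) {J : ℕ} (g : Fin J → F[X]) (b : Fin J → Bool × Bool) : Prop :=
  GoodO g b ∧ ∀ j : Fin J, j.val = 0 → P (g j)

/-- Such tuples with sign choices. -/
abbrev WTupP (F : Type u) [Field F] (P : F[X] → Prop) (J n : ℕ) : Type u :=
  {z : Tup F J n × (Fin J → Bool × Bool) // GoodP P z.1.1 z.2}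

/-- The entries are of even degree with constant term one. -/
def Pure {J : ℕ} (g : Fin J → F[X]) : Prop :=
  ∀ j, IsSR (σ₁ F) (g j) ∧ Even (g j).natDegree ∧ (g j).coeff 0 = 1

/-- Such tuples. -/
abbrev PTup (F : Type u) [Field F] (J n : ℕ) : Type u := {g : Tup F J n // Pure g.1}

variable [Fintype F] {q : ℕ}

theorem card_wtupP (hq : Fintype.card F = q) (h2 : (2 : F) ≠ 0) {P : F[X] → Prop} {f₁ : ℕ → ℕ}
    (hf : ∀ D, Nat.card {z : (Bool × Bool) × SPal F D // Marked z.2.1 z.1 ∧ P z.2.1} ≤ f₁ D) :
    ∀ J n, Nat.card (WTupP F P J n) ≤ NOg q f₁ J n := by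
  classical
  intro J
  induction J with
  | zero =>
    intro n
    have : Subsingleton (WTupP F P 0 n) := ⟨fun g h => Subtype.ext (Prod.ext
      (Subtype.ext (funext fun j => Fin.elim0 j)) (funext fun j => Fin.elim0 j))⟩
    by_cases hk : n = 0
    · simp only [NOg, hk, if_pos]
      exact Finite.card_le_one_iff_subsingleton.2 (hk ▸ this)
    · have : IsEmpty (WTupP F P 0 n) := ⟨fun g => hk (by simpa using g.1.1.2.2.symm)⟩
      rw [Nat.card_of_isEmpty]
      exact Nat.zero_le _
  | succ J ih =>
    intro n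
    by_cases hJ0 : J = 0
    · subst hJ0
      rw [NOg, if_pos rfl]
      have hd1 : ∀ g : WTupP F P 1 n, (g.1.1.1 0).natDegree = n := fun g => by
        have := g.1.1.2.2
        simpa using this
      refine (Nat.card_le_card_of_injective (β := {z : (Bool × Bool) × SPal F n // Marked z.2.1 z.1 ∧ P z.2.1})
        (fun g => ⟨(g.1.2 0, ⟨g.1.1.1 0, (g.2.1 0).1, hd1 g⟩), (g.2.1 0).2.2, g.2.2 0 rfl⟩) fun g g' h => ?_).trans (hf n)
      have h1 := congrArg Subtype.val h
      simp only [Prod.mk.injEq, Subtype.mk.injEq] at h1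
      exact Subtype.ext (Prod.ext (Subtype.ext (funext fun j => by rw [Fin.eq_zero j]; exact h1.2))
        (funext fun j => by rw [Fin.eq_zero j]; exact h1.1))
    set d : WTupP F P (J + 1) n → ℕ := fun g => (g.1.1.1 (Fin.last J)).natDegree with hd
    have hdeg : ∀ g : WTupP F P (J + 1) n, (J + 1) * d g +
        ∑ j : Fin J, (j.val + 1) * (g.1.1.1 j.castSucc).natDegree = n := fun g => by
      have := g.1.1.2.2
      rw [Fin.sum_univ_castSucc] at this
      simpa [add_comm] using this
    have hfib : ∀ D, (J + 1) * D ≤ n → ∀ B,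
        Nat.card {z : (Bool × Bool) × SPal F D // Marked z.2.1 z.1 ∧
          (Odd J → z.2.1.coeff 0 = 1 ∧ z.1 = (false, false))} ≤ B →
        Nat.card {g : WTupP F P (J + 1) n // d g = D} ≤ B * NOg q f₁ J (n - (J + 1) * D) := by
      intro D hD B hB
      let φ : {g : WTupP F P (J + 1) n // d g = D} → {z : (Bool × Bool) × SPal F D // Marked z.2.1 z.1 ∧
          (Odd J → z.2.1.coeff 0 = 1 ∧ z.1 = (false, false))} × WTupP F P J (n - (J + 1) * D) := fun g =>
        (⟨(g.1.1.2 (Fin.last J), ⟨g.1.1.1.1 (Fin.last J), (g.1.2.1 _).1, g.2⟩), (g.1.2.1 _).2.2,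
            fun he => ⟨((g.1.2.1 _).2.1 (by simpa using he)).2.1, ((g.1.2.1 _).2.1 (by simpa using he)).2.2⟩⟩,
          ⟨(⟨fun j => g.1.1.1.1 j.castSucc, fun j => g.1.1.1.2.1 _, by
              have := hdeg g.1
              rw [g.2] at this
              simp only
              omega⟩, fun j => g.1.1.2 j.castSucc), fun j => by simpa using g.1.2.1 j.castSucc, fun j hj => g.1.2.2 j.castSucc (by simpa using hj)⟩)
      refine (Nat.card_le_card_of_injective φ fun g g' h => ?_).trans ?_
      · have h1 := congrArg (fun x : _ × WTupP F P J (n - (J + 1) * D) => (x.1.1.1, x.1.1.2.1, x.2.1.1.1, x.2.1.2)) h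
        simp only [φ, Prod.mk.injEq] at h1
        refine Subtype.ext (Subtype.ext (Prod.ext (Subtype.ext (funext fun j => ?_)) (funext fun j => ?_)))
        · refine Fin.lastCases ?_ (fun i => ?_) j
          exacts [h1.2.1, congrFun h1.2.2.1 i]
        · refine Fin.lastCases ?_ (fun i => ?_) j
          exacts [h1.1, congrFun h1.2.2.2 i]
      · rw [Nat.card_prod]
        exact Nat.mul_le_mul hB (ih _)
    have hlt : ∀ g, d g < n + 1 := fun g => by
      have := hdeg g
      have : d g ≤ (J + 1) * d g := Nat.le_mul_of_pos_left _ J.succ_pos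
      omega
    by_cases he : Even J
    · let f : WTupP F P (J + 1) n → Fin (n + 1) := fun g => ⟨d g, hlt g⟩
      rw [← Nat.card_congr (Equiv.sigmaFiberEquiv f), Nat.card_sigma, NOg, if_neg hJ0, if_pos he, ← Fin.sum_univ_eq_sum_range]
      refine Finset.sum_le_sum fun D _ => ?_
      have hiff : ∀ g, f g = D ↔ d g = D.val := fun g => Fin.ext_iff
      rw [Nat.card_congr (Equiv.subtypeEquivRight hiff)]
      split_ifs with hc
      · refine hfib D.val hc _ ?_
        refine (Nat.card_le_card_of_injective (β := {z : (Bool × Bool) × SPal F D.val // Marked z.2.1 z.1})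
          (fun z => ⟨z.1, z.2.1⟩) fun z w h => ?_).trans (card_marked hq h2 _)
        exact Subtype.ext (congrArg Subtype.val h :)
      · have : IsEmpty {g : WTupP F P (J + 1) n // d g = D.val} := ⟨fun g => hc (by
          have := hdeg g.1
          rw [g.2] at this
          omega)⟩
        rw [Nat.card_of_isEmpty]
    · have hJo := Nat.not_even_iff_odd.1 he
      have heven : ∀ g, Even (d g) := fun g => ((g.2.1 (Fin.last J)).2.1 (by simpa using hJo)).1
      let f : WTupP F P (J + 1) n → Fin (n + 1) := fun g => ⟨d g / 2, by have := hlt g; omega⟩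
      rw [← Nat.card_congr (Equiv.sigmaFiberEquiv f), Nat.card_sigma, NOg, if_neg hJ0, if_neg he, ← Fin.sum_univ_eq_sum_range]
      refine Finset.sum_le_sum fun c _ => ?_
      have hiff : ∀ g, f g = c ↔ d g = 2 * c.val := fun g => by
        obtain ⟨r, hr⟩ := heven g
        rw [Fin.ext_iff]
        constructor
        · intro (h : d g / 2 = c.val); omega
        · intro h; show d g / 2 = c.val; omega
      rw [Nat.card_congr (Equiv.subtypeEquivRight hiff)]
      split_ifs with hc
      · refine hfib (2 * c.val) hc _ ?_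
        refine (Nat.card_le_card_of_injective (β := {P : SPal F (2 * c.val) // P.1.coeff 0 = 1})
          (fun z => ⟨z.1.2, (z.2.2 hJo).1⟩) fun z w h => ?_).trans ((card_fixed_const hq _ 1).trans (le_of_eq ?_))
        · exact Subtype.ext (Prod.ext ((z.2.2 hJo).2.trans (w.2.2 hJo).2.symm) (congrArg Subtype.val h))
        · rw [if_pos rfl, Nat.mul_div_cancel_left _ two_pos]
      · have : IsEmpty {g : WTupP F P (J + 1) n // d g = 2 * c.val} := ⟨fun g => hc (by
          have := hdeg g.1
          rw [g.2] at this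
          omega)⟩
        rw [Nat.card_of_isEmpty]

theorem card_wtupO (hq : Fintype.card F = q) (h2 : (2 : F) ≠ 0) (J n : ℕ) :
    Nat.card (WTupO F J n) ≤ NO q J n :=
  (Nat.card_congr (Equiv.subtypeEquivRight fun z => ⟨fun h => ⟨h, fun _ _ => trivial⟩, fun h => h.1⟩)).trans_le
    (card_wtupP hq h2 (P := fun _ => True) (fun D => (Nat.card_congr (Equiv.subtypeEquivRight
      fun z => and_iff_left trivial)).trans_le (card_marked hq h2 D)) J n)

theorem card_ptup (hq : Fintype.card F = q) :
    ∀ J k n, n = 2 * k → Nat.card (PTup F J n) ≤ NP q J k := by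
  classical
  intro J
  induction J with
  | zero =>
    rintro k n rfl
    have : Subsingleton (PTup F 0 (2 * k)) := ⟨fun g h => Subtype.ext (Subtype.ext (funext fun j => Fin.elim0 j))⟩
    by_cases hk : k = 0
    · simp only [NP, hk, if_pos]
      exact Finite.card_le_one_iff_subsingleton.2 (hk ▸ this)
    · have : IsEmpty (PTup F 0 (2 * k)) := ⟨fun g => hk (by simpa using g.1.2.2.symm)⟩
      rw [Nat.card_of_isEmpty]
      exact Nat.zero_le _
  | succ J ih =>
    rintro k n rfl
    set d : PTup F (J + 1) (2 * k) → ℕ := fun g => (g.1.1 (Fin.last J)).natDegree with hd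
    have hdeg : ∀ g : PTup F (J + 1) (2 * k), (J + 1) * d g +
        ∑ j : Fin J, (j.val + 1) * (g.1.1 j.castSucc).natDegree = 2 * k := fun g => by
      have := g.1.2.2
      rw [Fin.sum_univ_castSucc] at this
      simpa [add_comm] using this
    have hlt : ∀ g, d g / 2 < k + 1 := fun g => by
      have := hdeg g
      have : d g ≤ (J + 1) * d g := Nat.le_mul_of_pos_left _ J.succ_pos
      omega
    let f : PTup F (J + 1) (2 * k) → Fin (k + 1) := fun g => ⟨d g / 2, hlt g⟩
    rw [← Nat.card_congr (Equiv.sigmaFiberEquiv f), Nat.card_sigma, NP, ← Fin.sum_univ_eq_sum_range]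
    refine Finset.sum_le_sum fun c _ => ?_
    have hiff : ∀ g, f g = c ↔ d g = 2 * c.val := fun g => by
      obtain ⟨r, hr⟩ : Even (d g) := (g.2 (Fin.last J)).2.1
      rw [Fin.ext_iff]
      constructor
      · intro (h : d g / 2 = c.val); omega
      · intro h; show d g / 2 = c.val; omega
    rw [Nat.card_congr (Equiv.subtypeEquivRight hiff)]
    split_ifs with hc
    · let φ : {g : PTup F (J + 1) (2 * k) // d g = 2 * c.val} →
          {P : SPal F (2 * c.val) // P.1.coeff 0 = 1} × PTup F J (2 * (k - (J + 1) * c.val)) := fun g =>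
        (⟨⟨g.1.1.1 (Fin.last J), (g.1.2 _).1, g.2⟩, (g.1.2 _).2.2⟩,
          ⟨⟨fun j => g.1.1.1 j.castSucc, fun j => g.1.1.2.1 _, by
              have := hdeg g.1
              rw [g.2, mul_left_comm] at this
              simp only
              omega⟩, fun j => g.1.2 j.castSucc⟩)
      refine (Nat.card_le_card_of_injective φ fun g g' h => ?_).trans ?_
      · have h1 := congrArg (fun x : _ × PTup F J (2 * (k - (J + 1) * c.val)) => (x.1.1.1, x.2.1.1)) h
        simp only [φ, Prod.mk.injEq] at h1
        refine Subtype.ext (Subtype.ext (Subtype.ext (funext fun j => ?_)))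
        refine Fin.lastCases ?_ (fun i => ?_) j
        exacts [h1.1, congrFun h1.2 i]
      · rw [Nat.card_prod]
        refine Nat.mul_le_mul ((card_fixed_const hq _ 1).trans (le_of_eq ?_)) (ih _ _ rfl)
        rw [if_pos rfl, Nat.mul_div_cancel_left _ two_pos]
    · have : IsEmpty {g : PTup F (J + 1) (2 * k) // d g = 2 * c.val} := ⟨fun g => hc (by
        have := hdeg g.1
        rw [g.2, mul_left_comm] at this
        omega)⟩
      rw [Nat.card_of_isEmpty]

end Cfsg.Lib.Linear.ClassSp
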