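import Cfsg.Agent.Lib.Linear.ClassSp.Forms

/-!
# The discriminant class of a bilinear form over a finite field
-/

set_option autoImplicit false

universe u

namespace Cfsg.Lib.Linear.ClassSp

open Matrix

variable {F : Type u} [Field F]
variable {V W : Type u} [AddCommGroup V] [Module F V] [AddCommGroup W] [Module F W]

open scoped Classical in
/-- The quadratic character. -/
noncomputable def qchi (a : F) : ℤ := if a = 0 then 0 else if IsSquare a then 1 else -1

theorem qchi_eq [Fintype F] [DecidableEq F] (a : F) : qchi a = quadraticChar F a := by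
  rw [qchi, quadraticChar_apply, quadraticCharFun]
  split_ifs <;> rfl

theorem qchi_mul [Finite F] (a b : F) : qchi (a * b) = qchi a * qchi b := by
  classical
  haveI := Fintype.ofFinite F
  rw [qchi_eq, qchi_eq, qchi_eq, map_mul]

theorem qchi_sq {a : F} (ha : a ≠ 0) : qchi (a * a) = 1 := by
  rw [qchi, if_neg (mul_ne_zero ha ha), if_pos ⟨a, rfl⟩]

theorem qchi_eq_one_or {a : F} (ha : a ≠ 0) : qchi a = 1 ∨ qchi a = -1 := by
  rw [qchi, if_neg ha]
  split_ifs <;> simp

theorem qchi_pow_odd [Finite F] {a : F} (ha : ¬ IsSquare a) {n : ℕ} (hn : Odd n) : qchi (a ^ n) = -1 := by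
  obtain ⟨k, rfl⟩ := hn
  have ha0 : a ≠ 0 := fun h => ha (h ▸ IsSquare.zero)
  rw [pow_succ, qchi_mul, two_mul, pow_add, qchi_sq (pow_ne_zero k ha0), one_mul, qchi, if_neg ha0, if_neg ha]

theorem isSquare_mul_of_qchi [Finite F] {a b : F} (ha : a ≠ 0) (hb : b ≠ 0) (h : qchi a = qchi b) :
    IsSquare (a * b) := by
  have h1 : qchi (a * b) = 1 := by
    rw [qchi_mul, h]
    rcases qchi_eq_one_or hb with e | e <;> rw [e] <;> norm_num
  by_contra hns
  rw [qchi, if_neg (mul_ne_zero ha hb), if_neg hns] at h1
  exact absurd h1 (by norm_num)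

variable [FiniteDimensional F V]

/-- The discriminant class. -/
noncomputable def dq (B : LinearMap.BilinForm F V) : ℤ :=
  qchi (LinearMap.BilinForm.toMatrix (Module.finBasis F V) B).det

variable [Finite F]

theorem dq_basis {ι : Type*} [Fintype ι] [DecidableEq ι] (b : Module.Basis ι F V) (B : LinearMap.BilinForm F V) :
    dq B = qchi (LinearMap.BilinForm.toMatrix b B).det := by
  classical
  set e : ι ≃ Fin (Module.finrank F V) := b.indexEquiv (Module.finBasis F V)
  have h1 : (LinearMap.BilinForm.toMatrix (b.reindex e) B).det = (LinearMap.BilinForm.toMatrix b B).det := by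
    rw [← Matrix.det_submatrix_equiv_self e.symm (LinearMap.BilinForm.toMatrix b B)]
    congr 1
    ext i j
    simp [LinearMap.BilinForm.toMatrix_apply]
  have h2 := LinearMap.BilinForm.toMatrix_mul_basis_toMatrix (Module.finBasis F V) (b.reindex e) B
  have hu : ((Module.finBasis F V).toMatrix (b.reindex e)).det ≠ 0 := fun h0 => by
    have := congrArg Matrix.det ((Module.finBasis F V).toMatrix_mul_toMatrix_flip (b.reindex e))
    rw [Matrix.det_mul, h0, zero_mul, Matrix.det_one] at this
    exact zero_ne_one this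
  rw [← h1, ← h2, Matrix.det_mul, Matrix.det_mul, Matrix.det_transpose, qchi_mul, qchi_mul, dq,
    mul_right_comm, ← qchi_mul, qchi_sq hu, one_mul]

theorem dq_congr [FiniteDimensional F W] {B : LinearMap.BilinForm F V} {B' : LinearMap.BilinForm F W} (θ : V ≃ₗ[F] W)
    (h : ∀ x y, B' (θ x) (θ y) = B x y) : dq B = dq B' := by
  classical
  rw [dq_basis ((Module.finBasis F V).map θ) B', dq]
  congr 2
  ext i j
  simp [LinearMap.BilinForm.toMatrix_apply, h]

theorem Eqv.dq_eq [FiniteDimensional F W] {g : Module.End F V} {B : LinearMap.BilinForm F V} {g' : Module.End F W}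
    {B' : LinearMap.BilinForm F W} (h : Eqv g B g' B') : dq B = dq B' := by
  obtain ⟨θ, -, hθ⟩ := h
  exact dq_congr θ hθ

theorem dq_prod [FiniteDimensional F W] (β : LinearMap.BilinForm F V) (γ : LinearMap.BilinForm F W) :
    dq (prodB β γ) = dq β * dq γ := by
  classical
  rw [dq_basis ((Module.finBasis F V).prod (Module.finBasis F W)), dq, dq, ← qchi_mul,
    show LinearMap.BilinForm.toMatrix ((Module.finBasis F V).prod (Module.finBasis F W)) (prodB β γ) =
      Matrix.fromBlocks (LinearMap.BilinForm.toMatrix (Module.finBasis F V) β) 0 0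
        (LinearMap.BilinForm.toMatrix (Module.finBasis F W) γ) from Matrix.ext fun i j => by
          rcases i with i | i <;> rcases j with j | j <;>
            simp [LinearMap.BilinForm.toMatrix_apply, prodB_apply, Module.Basis.prod_apply],
    Matrix.det_fromBlocks_zero₁₂]

omit [Finite F] in
theorem dq_ne_zero {B : LinearMap.BilinForm F V} (h : ∀ x, (∀ y, B x y = 0) → x = 0) : dq B ≠ 0 := by
  classical
  have hd : (LinearMap.BilinForm.toMatrix (Module.finBasis F V) B).det ≠ 0 :=
    Matrix.Nondegenerate.det_ne_zero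
      ((LinearMap.BilinForm.nondegenerate_toMatrix_iff _).2 (LinearMap.BilinForm.nondegenerate_iff_ker_eq_bot.2
        (LinearMap.ker_eq_bot'.2 fun x hx => h x fun y => by rw [hx, LinearMap.zero_apply])))
  rcases qchi_eq_one_or hd with e | e <;> rw [dq, e] <;> norm_num

theorem dq_smul_odd {δ : F} (hδ : ¬ IsSquare δ) (hodd : Odd (Module.finrank F V)) (B : LinearMap.BilinForm F V) :
    dq (δ • B) = -dq B := by
  rw [dq, dq, map_smul, Matrix.det_smul, Fintype.card_fin, qchi_mul, qchi_pow_odd hδ hodd, neg_one_mul]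

end Cfsg.Lib.Linear.ClassSp
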