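import Cfsg.Agent.Lib.Linear.ClassSp.Main
import Cfsg.Agent.Lib.Linear.ClassSp.Count
import Cfsg.Agent.Lib.Linear.ClassU.Fibre

/-!
# Classes of `Sp_{2m}(q)` and weighted tuples

The classes over one tuple inject into the congruence classes of invariant alternating forms.
-/

set_option autoImplicit false
set_option maxHeartbeats 1000000

universe u

namespace Cfsg.Lib.Linear.ClassSp

open Polynomial Matrix Cfsg.Lib Cfsg.Lib.Linear.ClassNumberGL Cfsg.Lib.Linear.ClassWeight Cfsg.Lib.Linear.ClassU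
open Cfsg.Lib.Linear.AbsorbPSU (ad)

variable {F : Type u} [Field F] {m : ℕ}

/-- Reindexing the symplectic coordinates. -/
noncomputable abbrev reI (F : Type u) [Field F] (m : ℕ) :
    Matrix (Fin m ⊕ Fin m) (Fin m ⊕ Fin m) F ≃ₐ[F] Matrix (Fin (m + m)) (Fin (m + m)) F :=
  Matrix.reindexAlgEquiv F F finSumFinEquiv

/-- The reindexed standard form. -/
noncomputable def jj (F : Type u) [Field F] (m : ℕ) : Matrix (Fin (m + m)) (Fin (m + m)) F :=
  reI F m (Matrix.J (Fin m) F)

theorem reI_transpose (M : Matrix (Fin m ⊕ Fin m) (Fin m ⊕ Fin m) F) : reI F m Mᵀ = (reI F m M)ᵀ := by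
  simp [reI, Matrix.transpose_reindex]

theorem jj_transpose : (jj F m)ᵀ = -jj F m := by
  rw [jj, ← reI_transpose, Matrix.J_transpose, map_neg]

theorem jj_sq : jj F m * jj F m = -1 := by
  rw [jj, ← map_mul, Matrix.J_squared, map_neg, map_one]

/-- The standard form as an invertible matrix. -/
noncomputable def ju (F : Type u) [Field F] (m : ℕ) : GL (Fin (m + m)) F :=
  ⟨jj F m, -jj F m, by rw [mul_neg, jj_sq, neg_neg], by rw [neg_mul, jj_sq, neg_neg]⟩

/-- The embedding in `GL`. -/
noncomputable def toGL (F : Type u) [Field F] (m : ℕ) : ↥(Matrix.symplecticGroup (Fin m) F) →* GL (Fin (m + m)) F :=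
  ((reI F m).toAlgHom.toRingHom.toMonoidHom.comp (Matrix.symplecticGroup (Fin m) F).subtype).toHomUnits

theorem toGL_val (g : ↥(Matrix.symplecticGroup (Fin m) F)) : (toGL F m g).1 = reI F m g.1 := rfl

theorem toGL_injective : Function.Injective (toGL F m) := fun g h hgh =>
  Subtype.ext ((reI F m).injective (congrArg Units.val hgh :))

theorem toGL_mem (g : ↥(Matrix.symplecticGroup (Fin m) F)) :
    (toGL F m g).1 * jj F m * (toGL F m g).1ᵀ = jj F m ∧ (toGL F m g).1ᵀ * jj F m * (toGL F m g).1 = jj F m := by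
  constructor
  · rw [toGL_val, jj, ← reI_transpose, ← map_mul, ← map_mul, SymplecticGroup.mem_iff.1 g.2]
  · rw [toGL_val, jj, ← reI_transpose, ← map_mul, ← map_mul, SymplecticGroup.mem_iff'.1 g.2]

theorem exists_toGL {z : GL (Fin (m + m)) F} (hz : z.1ᵀ * jj F m * z.1 = jj F m) :
    ∃ g, toGL F m g = z := by
  refine ⟨⟨(reI F m).symm z.1, SymplecticGroup.mem_iff'.2 ((reI F m).injective ?_)⟩,
    Units.ext ((reI F m).apply_symm_apply _)⟩
  rw [map_mul, map_mul, reI_transpose, AlgEquiv.apply_symm_apply]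
  exact hz

theorem mult_toLin {n : ℕ} [DecidableEq F] {A : Matrix (Fin n) (Fin n) F} {ι : Type u} [Fintype ι] {p : ι → F[X]}
    {e : ι → ℕ} (hp : ∀ i, (p i).Monic ∧ Irreducible (p i)) (h : CanonicalForm.HasForm A fun i => p i ^ e i)
    (s : F) {k : ℕ} (hk : 1 ≤ k) :
    mult (Matrix.toLinAlgEquiv' A) s k = ((Finset.univ.filter fun i => p i = X - C s ∧ e i = k).card : ℤ) := by
  have hrk : ∀ f, rk (Matrix.toLinAlgEquiv' A) f = (aeval A f).rank := fun f => by
    rw [rk, Matrix.rank, aeval_algHom_apply]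
    rfl
  obtain ⟨l, rfl⟩ : ∃ l, k = l + 1 := ⟨k - 1, by omega⟩
  rw [mult, hrk, hrk, hrk, Nat.add_sub_cancel, rank_step hp h (monic_X_sub_C s) (irreducible_X_sub_C s) l,
    rank_step hp h (monic_X_sub_C s) (irreducible_X_sub_C s) (l + 1), natDegree_X_sub_C]
  have hsplit : (Finset.univ.filter fun i => p i = X - C s ∧ l < e i).card =
      (Finset.univ.filter fun i => p i = X - C s ∧ e i = l + 1).card +
      (Finset.univ.filter fun i => p i = X - C s ∧ l + 1 < e i).card := by
    rw [Finset.card_filter, Finset.card_filter, Finset.card_filter, ← Finset.sum_add_distrib]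
    refine Finset.sum_congr rfl fun i _ => ?_
    by_cases hi : p i = X - C s <;> simp only [hi, true_and, false_and, if_false, add_zero] <;> split_ifs <;> omega
  rw [hsplit]
  push_cast
  ring

theorem rootMultiplicity_multiset [DecidableEq F] (s : F) {S : Multiset F[X]}
    (hS : ∀ x ∈ S, x.Monic ∧ Irreducible x) :
    rootMultiplicity s S.prod = Multiset.count (X - C s) S := by
  classical
  induction S using Multiset.induction_on with
  | empty => rw [Multiset.prod_zero, rootMultiplicity_eq_zero (by simp)]; simp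
  | cons a S ih =>
    have h0 : S.prod ≠ 0 := Multiset.prod_ne_zero fun h => (hS 0 (Multiset.mem_cons_of_mem h)).1.ne_zero rfl
    obtain ⟨ha, hai⟩ := hS a (Multiset.mem_cons_self a S)
    rw [Multiset.prod_cons, rootMultiplicity_mul (mul_ne_zero ha.ne_zero h0),
      ih fun x hx => hS x (Multiset.mem_cons_of_mem hx), Multiset.count_cons]
    by_cases h : a = X - C s
    · rw [if_pos h.symm, h, rootMultiplicity_X_sub_C_self, add_comm]
    · rw [if_neg (Ne.symm h), add_zero, rootMultiplicity_eq_zero (fun hr => h ?_), zero_add]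
      exact (eq_of_monic_of_associated (monic_X_sub_C s) ha
        ((irreducible_X_sub_C s).associated_of_dvd hai (dvd_iff_isRoot.2 hr))).symm

/-- The multiplicity of `(X - s, j + 1)` is a root multiplicity. -/
theorem mult_tuple {n : ℕ} {g : GL (Fin n) F} {t : Tup F n n} (h : IsTupleOf g t) (s : F) (j : Fin n) :
    mult (Matrix.toLinAlgEquiv' g.1) s (j.val + 1) = (rootMultiplicity s (t.1 j) : ℤ) := by
  classical
  obtain ⟨ι, hι, p, e, hp, he, hform, ht⟩ := h
  rw [mult_toLin hp hform s (Nat.succ_le_succ (Nat.zero_le _)), ht, rootMultiplicity_multiset s, Multiset.count_map,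
    Multiset.filter_filter, Finset.card_def, Finset.filter_val]
  · congr 2
    exact Multiset.filter_congr fun i _ => by rw [eq_comm (a := p i)]
  · intro x hx
    obtain ⟨i, -, rfl⟩ := Multiset.mem_map.1 hx
    exact hp i

variable [Fintype F]

theorem isSR_tuple (g : ↥(Matrix.symplecticGroup (Fin m) F)) {t : Tup F (m + m) (m + m)}
    (h : IsTupleOf (toGL F m g) t) (j : Fin (m + m)) : IsSR (σ₁ F) (t.1 j) := by
  classical
  obtain ⟨ι, hι, p, e, hp, he, hform, ht⟩ := h
  refine ⟨(t.2.1 j).1, (t.2.1 j).2, ?_⟩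
  set A := toGL F m g with hA
  set a : GL (Fin (m + m)) F := adU (σ₁ F) A with ha
  have hav : a.1 = A.1ᵀ := by
    show ad (σ₁ F) A.1 = _
    simp [ad]
  have h1 : A * ju F m * a = ju F m := Units.ext (by
    rw [Units.val_mul, Units.val_mul, hav]
    exact (toGL_mem g).1)
  have hB : (ju F m)⁻¹ * A * ju F m = a⁻¹ := by
    refine eq_inv_of_mul_eq_one_left ?_
    rw [mul_assoc, mul_assoc, ← mul_assoc A, h1, inv_mul_cancel]
  have hconj : IsConj A.1 ((ju F m)⁻¹ * A * ju F m).1 :=
    MonoidHom.map_isConj (Units.coeHom _) (show IsConj A ((ju F m)⁻¹ * A * ju F m) from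
      isConj_iff.2 ⟨(ju F m)⁻¹, by rw [inv_inv]⟩)
  have hsym := congrArg (fun S : Multiset (F[X] × ℕ) => (S.filter fun x => x.2 = j.val + 1).map Prod.fst)
    (pairs_tl (σ := σ₁ F) (B := (ju F m)⁻¹ * A * ju F m) (fun _ => rfl) (by rw [hB, inv_inv]) hp
      (fun i => (he i).1) hp (fun i => (he i).1) hform (hasForm_conj hform hconj))
  simp only [Multiset.filter_map, Multiset.map_map] at hsym
  rw [ht, tl_prod, Multiset.map_map]
  exact congrArg Multiset.prod hsym.symm

/-- The tuple of a class. -/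
noncomputable def tupS (C : ConjClasses ↥(Matrix.symplecticGroup (Fin m) F)) : Tup F (m + m) (m + m) :=
  (exists_isTupleOf (toGL F m C.out)).choose

theorem isTupleOf_tupS (C : ConjClasses ↥(Matrix.symplecticGroup (Fin m) F)) :
    IsTupleOf (toGL F m C.out) (tupS C) :=
  (exists_isTupleOf (toGL F m C.out)).choose_spec

/-- The classes over one tuple inject into the choices of signs. -/
theorem fibre_good (h2 : (2 : F) ≠ 0) (t : Tup F (m + m) (m + m)) :
    Nat.card {C : ConjClasses ↥(Matrix.symplecticGroup (Fin m) F) // tupS C = t} ≤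
      Nat.card {b : Fin (m + m) → Bool × Bool // Good t.1 b} := by
  classical
  rcases isEmpty_or_nonempty {C : ConjClasses ↥(Matrix.symplecticGroup (Fin m) F) // tupS C = t} with h | ⟨⟨C₀, h₀⟩⟩
  · rw [Nat.card_of_isEmpty]; exact Nat.zero_le _
  have hT₀ : IsTupleOf (toGL F m C₀.out) t := h₀ ▸ isTupleOf_tupS C₀
  set A₀ := toGL F m C₀.out with hA₀
  set g : Module.End F (Fin (m + m) → F) := Matrix.toLinAlgEquiv' A₀.1 with hg
  have hN : 1 ≤ orderOf A₀ := orderOf_pos A₀
  have hgN : g ^ orderOf A₀ = 1 := by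
    rw [hg, ← map_pow, ← Units.val_pow_eq_pow_val, pow_orderOf_eq_one, Units.val_one, map_one]
  have hx : ∀ C : {C : ConjClasses ↥(Matrix.symplecticGroup (Fin m) F) // tupS C = t},
      ∃ x : GL (Fin (m + m)) F, x * A₀ * x⁻¹ = toGL F m C.1.out := fun C => by
    have hC : IsTupleOf (toGL F m C.1.out) t := by
      have := isTupleOf_tupS C.1
      rwa [C.2] at this
    exact isConj_iff.1 (hT₀.isConj hC)
  choose x hx using hx
  let B : {C : ConjClasses ↥(Matrix.symplecticGroup (Fin m) F) // tupS C = t} →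
      LinearMap.BilinForm F (Fin (m + m) → F) := fun C => Matrix.toBilin' ((x C).1ᵀ * jj F m * (x C).1)
  have hB : ∀ C, IForm (-1 : F) g (B C) := fun C => by
    refine ⟨fun v hv => ?_, fun v w => ?_, fun v w => ?_⟩
    · have h1 : v ᵥ* ((x C).1ᵀ * jj F m * (x C).1) = 0 := funext fun i => by
        have := hv (Pi.single i 1)
        simp only [B, Matrix.toBilin'_apply', Matrix.dotProduct_mulVec, dotProduct_single, mul_one] at this
        exact this
      have hu : IsUnit (Matrix.transpose ((x C).1) * jj F m * (x C).1) :=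
        ((Matrix.isUnit_transpose _).2 (x C).isUnit |>.mul (ju F m).isUnit).mul (x C).isUnit
      exact Matrix.vecMul_injective_iff_isUnit.2 hu (h1.trans (Matrix.zero_vecMul _).symm)
    · simp only [B, Matrix.toBilin'_apply', neg_one_mul]
      rw [Matrix.dotProduct_mulVec, ← Matrix.mulVec_transpose, dotProduct_comm, Matrix.transpose_mul,
        Matrix.transpose_mul, Matrix.transpose_transpose, jj_transpose, neg_mul, mul_neg, ← mul_assoc,
        Matrix.neg_mulVec, dotProduct_neg]
    · simp only [B, hg, Matrix.toLinAlgEquiv'_apply, Matrix.toBilin'_apply']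
      have hxA : (x C).1 * A₀.1 = (toGL F m C.1.out).1 * (x C).1 := by
        rw [← Units.val_mul, ← Units.val_mul, ← hx C, inv_mul_cancel_right]
      rw [Matrix.mulVec_mulVec, Matrix.dotProduct_mulVec, ← Matrix.vecMul_transpose, Matrix.vecMul_vecMul,
        ← Matrix.dotProduct_mulVec]
      congr 2
      calc A₀.1ᵀ * ((x C).1ᵀ * jj F m * (x C).1 * A₀.1) = ((x C).1 * A₀.1)ᵀ * jj F m * ((x C).1 * A₀.1) := by
            rw [Matrix.transpose_mul]; simp only [mul_assoc]
        _ = (x C).1ᵀ * ((toGL F m C.1.out).1ᵀ * jj F m * (toGL F m C.1.out).1) * (x C).1 := by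
            rw [hxA, Matrix.transpose_mul]; simp only [mul_assoc]
        _ = _ := by rw [(toGL_mem _).2]
  obtain ⟨hpar, k, hk, γ, hγ, -⟩ := bound (ε := (-1 : F)) h2 (by ring) hN (m + m) (m + m) (Fin (m + m) → F) g
    (Module.finrank_fin_fun F) le_rfl hgN
  have hk' : k ≤ Nat.card {b : Fin (m + m) → Bool × Bool // Good t.1 b} := by
    have hpar' := hpar ⟨B ⟨C₀, h₀⟩, hB _⟩
    have hgood : ∀ T ⊆ types (-1 : F) (m + m) g,
        Good t.1 fun j => (decide (((1 : F), j.val + 1) ∈ T), decide (((-1 : F), j.val + 1) ∈ T)) := by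
      intro T hT j
      have hsr := isSR_tuple C₀.out hT₀ j
      have hnot : Even j.val → ∀ s : F, (s, j.val + 1) ∉ T := fun he s hs => by
        have h1 := (mem_types.1 (hT hs)).2.2.1
        rw [Nat.add_sub_cancel, he.neg_one_pow, mul_one] at h1
        exact h2 (by linear_combination -h1)
      have hroot : ∀ s : F, (s, j.val + 1) ∈ T → (t.1 j).IsRoot s := fun s hs => by
        have h1 := (mem_types.1 (hT hs)).2.2.2
        rw [mult_tuple hT₀ s j, Int.natCast_pos, rootMultiplicity_pos (t.2.1 j).1.ne_zero] at h1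
        exact h1
      refine ⟨hsr, fun he => ?_, fun hb => hroot 1 (by simpa using hb), fun hb => hroot (-1) (by simpa using hb)⟩
      have hev : ∀ s : F, s * s = 1 → Even (rootMultiplicity s (t.1 j)) := fun s hs => by
        have := hpar' s hs (j.val + 1) (Nat.succ_le_succ (Nat.zero_le _))
          (by rw [Nat.add_sub_cancel, he.neg_one_pow, mul_one])
        rwa [mult_tuple hT₀ s j, Int.even_coe_nat] at this
      obtain ⟨e1, e2⟩ := sr_parity h2 hsr (hev 1 (one_mul 1)) (hev (-1) (by ring))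
      exact ⟨e1, e2, by simp [hnot he]⟩
    refine hk.trans ?_
    rw [← Finset.card_powerset, ← Nat.card_eq_finsetCard]
    refine Nat.card_le_card_of_injective (fun T => ⟨_, hgood T.1 (Finset.mem_powerset.1 T.2)⟩) ?_
    intro T T' hTT
    have hb := fun j => congrFun (congrArg Subtype.val hTT) j
    simp only [Prod.mk.injEq, decide_eq_decide] at hb
    refine Subtype.ext (Finset.ext fun se => ?_)
    by_cases hse : se ∈ types (-1 : F) (m + m) g
    · obtain ⟨hs, ⟨he1, he2⟩, -, -⟩ := mem_types.1 hse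
      have := hb ⟨se.2 - 1, by omega⟩
      simp only [Nat.sub_add_cancel he1] at this
      rcases hs with hs | hs
      · rw [show se = (1, se.2) from Prod.ext hs rfl]; exact this.1
      · rw [show se = (-1, se.2) from Prod.ext hs rfl]; exact this.2
    · exact ⟨fun h => absurd (Finset.mem_powerset.1 T.2 h) hse, fun h => absurd (Finset.mem_powerset.1 T'.2 h) hse⟩
  refine le_trans ?_ hk'
  choose i hi using fun C => hγ (B C) (hB C)
  refine le_trans (Nat.card_le_card_of_injective i fun C D hCD => ?_) (le_of_eq (Nat.card_fin k))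
  obtain ⟨θ, hθ, hθB⟩ := (hi C).trans (hCD ▸ Eqv.symm (hi D))
  set Y : Matrix (Fin (m + m)) (Fin (m + m)) F := LinearMap.toMatrixAlgEquiv' θ.toLinearMap with hY
  set Y' : Matrix (Fin (m + m)) (Fin (m + m)) F := LinearMap.toMatrixAlgEquiv' θ.symm.toLinearMap with hY'
  let y : GL (Fin (m + m)) F := ⟨Y, Y', by
      rw [hY, hY', ← map_mul, ← map_one (LinearMap.toMatrixAlgEquiv' (R := F) (n := Fin (m + m)))]
      exact congrArg _ (LinearMap.ext fun v => θ.apply_symm_apply v), by
      rw [hY, hY', ← map_mul, ← map_one (LinearMap.toMatrixAlgEquiv' (R := F) (n := Fin (m + m)))]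
      exact congrArg _ (LinearMap.ext fun v => θ.symm_apply_apply v)⟩
  have hYv : ∀ v, Y *ᵥ v = θ v := fun v => by
    rw [← Matrix.toLinAlgEquiv'_apply, hY, Matrix.toLinAlgEquiv'_toMatrixAlgEquiv']
    rfl
  have hyA : y * A₀ = A₀ * y := Units.ext (Matrix.ext_of_mulVec_single fun a => by
    rw [Units.val_mul, Units.val_mul, ← Matrix.mulVec_mulVec, ← Matrix.mulVec_mulVec]
    show Y *ᵥ _ = _ *ᵥ (Y *ᵥ _)
    rw [hYv, hYv]
    exact hθ _)
  have hyJ : ((x D).1 * y.1)ᵀ * jj F m * ((x D).1 * y.1) = (x C).1ᵀ * jj F m * (x C).1 := by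
    apply Matrix.toBilin'.injective
    refine LinearMap.ext₂ fun v w => ?_
    have h1 := hθB v w
    simp only [B, Matrix.toBilin'_apply', ← hYv] at h1 ⊢
    rw [← h1, Matrix.transpose_mul, show y.1ᵀ * (x D).1ᵀ * jj F m * ((x D).1 * y.1) =
      Yᵀ * ((x D).1ᵀ * jj F m * (x D).1 * Y) by simp only [mul_assoc]; rfl, ← Matrix.mulVec_mulVec,
      ← Matrix.mulVec_mulVec, Matrix.dotProduct_mulVec, Matrix.vecMul_transpose]
  obtain ⟨z, hz⟩ := exists_toGL (z := x D * y * (x C)⁻¹) (by
    rw [Units.val_mul, Units.val_mul, Matrix.transpose_mul]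
    calc ((x C)⁻¹).1ᵀ * ((x D).1 * y.1)ᵀ * jj F m * ((x D).1 * y.1 * ((x C)⁻¹).1)
        = ((x C)⁻¹).1ᵀ * (((x D).1 * y.1)ᵀ * jj F m * ((x D).1 * y.1)) * ((x C)⁻¹).1 := by simp only [mul_assoc]
      _ = ((x C).1 * ((x C)⁻¹).1)ᵀ * jj F m * ((x C).1 * ((x C)⁻¹).1) := by
          rw [hyJ, Matrix.transpose_mul]; simp only [mul_assoc]
      _ = _ := by rw [Units.mul_inv, Matrix.transpose_one, one_mul, mul_one])
  apply Subtype.ext
  rw [← Quotient.out_eq C.1, ← Quotient.out_eq D.1]
  refine ConjClasses.mk_eq_mk_iff_isConj.2 (isConj_iff.2 ⟨z, toGL_injective ?_⟩)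
  rw [map_mul, map_mul, map_inv, hz, ← hx C, ← hx D]
  calc x D * y * (x C)⁻¹ * (x C * A₀ * (x C)⁻¹) * (x D * y * (x C)⁻¹)⁻¹
      = x D * (y * A₀) * y⁻¹ * (x D)⁻¹ := by group
    _ = x D * (A₀ * y) * y⁻¹ * (x D)⁻¹ := by rw [hyA]
    _ = _ := by group

theorem card_classes_le {q : ℕ} (hq : Fintype.card F = q) (h2 : (2 : F) ≠ 0) :
    Nat.card (ConjClasses ↥(Matrix.symplecticGroup (Fin m) F)) ≤ NS q (m + m) m := by
  classical
  refine le_trans ?_ (card_wtup hq h2 (m + m) m (m + m) (two_mul m).symm)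
  rw [Nat.card_congr (Equiv.subtypeProdEquivSigmaSubtype fun (t : Tup F (m + m) (m + m))
      (b : Fin (m + m) → Bool × Bool) => Good t.1 b), Nat.card_sigma,
    ← Nat.card_congr (Equiv.sigmaFiberEquiv (tupS (F := F) (m := m))), Nat.card_sigma]
  exact Finset.sum_le_sum fun t _ => fibre_good h2 t

end Cfsg.Lib.Linear.ClassSp
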