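import Cfsg.Agent.Lib.Linear.ClassSp.FibreOrth
import Cfsg.Agent.Lib.Linear.ClassSp.CountOmega

/-!
# Classes of an odd orthogonal group and weighted tuples
-/

set_option autoImplicit false

universe u

namespace Cfsg.Lib.Linear.ClassSp

open Polynomial Matrix Cfsg.Lib Cfsg.Lib.Linear.ClassNumberGL Cfsg.Lib.Linear.ClassWeight Cfsg.Lib.Linear.ClassU

variable {F : Type u} [Field F] {n : ℕ}

/-- Conjugate matrices have the same multiplicities. -/
theorem mult_units_conj (c A : GL (Fin n) F) (s : F) (e : ℕ) :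
    mult (Matrix.toLinAlgEquiv' (c * A * c⁻¹).1) s e = mult (Matrix.toLinAlgEquiv' A.1) s e := by
  refine (mult_equiv (LinearEquiv.ofLinear (Matrix.toLinAlgEquiv' c.1) (Matrix.toLinAlgEquiv' (c⁻¹).1) ?_ ?_)
    (fun v => ?_) s e).symm
  · rw [← Module.End.mul_eq_comp, ← map_mul, Units.mul_inv, map_one]; rfl
  · rw [← Module.End.mul_eq_comp, ← map_mul, Units.inv_mul, map_one]; rfl
  · show Matrix.toLinAlgEquiv' c.1 _ = Matrix.toLinAlgEquiv' (c * A * c⁻¹).1 (Matrix.toLinAlgEquiv' c.1 v)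
    rw [← Module.End.mul_apply, ← Module.End.mul_apply, ← map_mul, ← map_mul, ← Units.val_mul, ← Units.val_mul,
      inv_mul_cancel_right]

variable [Fintype F] {q : ℕ} {J : GL (Fin n) F}

theorem not_pure_of_odd (hn : Odd n) (t : Tup F n n) : ¬ Pure t.1 := fun h => by
  have := t.2.2
  rw [← Nat.not_even_iff_odd, ← this] at hn
  exact hn (Finset.even_sum _ fun j _ => (h j).2.1.mul_left _)

theorem two_mul_fibre_odd (h2 : (2 : F) ≠ 0) (hn : Odd n) (hJ : J.1ᵀ = J.1) (t : Tup F n n) :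
    2 * Nat.card {C : ConjClasses ↥(isoM J) // tupO C = t} ≤ Nat.card {b : Fin n → Bool × Bool // GoodO t.1 b} := by
  have : IsEmpty {_u : Unit // Pure t.1} := ⟨fun u => not_pure_of_odd hn t u.2⟩
  have h := fibre_goodO h2 hJ t
  rwa [Nat.card_of_isEmpty (α := {_u : Unit // Pure t.1}), add_zero] at h

theorem two_mul_classes_odd (hq : Fintype.card F = q) (h2 : (2 : F) ≠ 0) (hn : Odd n) (hJ : J.1ᵀ = J.1) :
    2 * Nat.card (ConjClasses ↥(isoM J)) ≤ NO q n n := by
  classical
  refine le_trans ?_ (card_wtupO hq h2 n n)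
  rw [← Nat.card_congr (Equiv.sigmaFiberEquiv (tupO (J := J))), Nat.card_sigma, Finset.mul_sum,
    Nat.card_congr (Equiv.subtypeProdEquivSigmaSubtype fun (t : Tup F n n) (b : Fin n → Bool × Bool) => GoodO t.1 b),
    Nat.card_sigma]
  exact Finset.sum_le_sum fun t _ => two_mul_fibre_odd h2 hn hJ t

/-- Some element of the class has at most one block of size one at each of `±1`. -/
def SimpleClass {J : GL (Fin n) F} (C : ConjClasses ↥(isoM J)) : Prop :=
  ∃ x, ConjClasses.mk x = C ∧ ∀ s : F, s * s = 1 → mult (Matrix.toLinAlgEquiv' (x : GL (Fin n) F).1) s 1 ≤ 1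

theorem two_mul_simple_classes (hq : Fintype.card F = q) (h2 : (2 : F) ≠ 0) (hn : Odd n) (hJ : J.1ᵀ = J.1) :
    2 * Nat.card {C : ConjClasses ↥(isoM J) // SimpleClass C} ≤ NOg q (bspR q) n n := by
  classical
  refine le_trans ?_ (card_wtupP hq h2 (P := Simple1) (fun D => card_marked_simple hq h2 D) n n)
  rw [← Nat.card_congr (Equiv.sigmaFiberEquiv fun C : {C : ConjClasses ↥(isoM J) // SimpleClass C} => tupO C.1),
    Nat.card_sigma, Finset.mul_sum,
    Nat.card_congr (Equiv.subtypeProdEquivSigmaSubtype fun (t : Tup F n n) (b : Fin n → Bool × Bool) =>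
      GoodP Simple1 t.1 b),
    Nat.card_sigma]
  refine Finset.sum_le_sum fun t _ => ?_
  rcases isEmpty_or_nonempty {C : {C : ConjClasses ↥(isoM J) // SimpleClass C} // tupO C.1 = t} with h | ⟨⟨C₀, h₀⟩⟩
  · rw [Nat.card_of_isEmpty]; exact Nat.zero_le _
  have hT : IsTupleOf (C₀.1.out : GL (Fin n) F) t := h₀ ▸ isTupleOf_tupO C₀.1
  have hsimple : ∀ j : Fin n, j.val = 0 → Simple1 (t.1 j) := fun j hj => by
    obtain ⟨x, hx, hm⟩ := C₀.2
    obtain ⟨c, hc⟩ := isConj_iff.1 (ConjClasses.mk_eq_mk_iff_isConj.1 (hx.trans (Quotient.out_eq C₀.1).symm))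
    have key : ∀ s : F, s * s = 1 → rootMultiplicity s (t.1 j) ≤ 1 := fun s hs => by
      have h1 := mult_tuple hT s j
      rw [hj, ← hc, Subgroup.coe_mul, Subgroup.coe_mul, InvMemClass.coe_inv, mult_units_conj] at h1
      have h3 := hm s hs
      rw [show (0 : ℕ) + 1 = 1 from rfl] at h1
      omega
    exact ⟨key 1 (one_mul 1), key (-1) (by ring)⟩
  refine le_trans ?_ (Nat.card_le_card_of_injective
    (fun b : {b : Fin n → Bool × Bool // GoodO t.1 b} => (⟨b.1, b.2, hsimple⟩ : {b // GoodP Simple1 t.1 b}))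
    fun b b' h => Subtype.ext (congrArg Subtype.val h :))
  refine le_trans (Nat.mul_le_mul_left 2 ?_) (two_mul_fibre_odd h2 hn hJ t)
  exact Nat.card_le_card_of_injective (fun C => ⟨C.1.1, C.2⟩)
    fun C D h => Subtype.ext (Subtype.ext (congrArg Subtype.val h :))

end Cfsg.Lib.Linear.ClassSp
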