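import Cfsg.Agent.Lib.Linear.ClassSp.Fibre
import Cfsg.Agent.Lib.Linear.ClassSp.CountOrth

/-!
# Classes of the isometry group of a symmetric matrix and weighted tuples
-/

set_option autoImplicit false
set_option maxHeartbeats 1000000

universe u

namespace Cfsg.Lib.Linear.ClassSp

open Polynomial Matrix Cfsg.Lib Cfsg.Lib.Linear.ClassNumberGL Cfsg.Lib.Linear.ClassWeight Cfsg.Lib.Linear.ClassU
open Cfsg.Lib.Linear.AbsorbPSU (ad)

variable {F : Type u} [Field F] {n : ℕ}

/-- The isometries of a bilinear form given by a matrix. -/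
def isoM (J : GL (Fin n) F) : Subgroup (GL (Fin n) F) where
  carrier := {A | A.1ᵀ * J.1 * A.1 = J.1}
  one_mem' := by simp
  mul_mem' {A B} hA hB := by
    show (A.1 * B.1)ᵀ * J.1 * (A.1 * B.1) = J.1
    calc (A.1 * B.1)ᵀ * J.1 * (A.1 * B.1) = B.1ᵀ * (A.1ᵀ * J.1 * A.1) * B.1 := by
          rw [Matrix.transpose_mul]; simp only [mul_assoc]
      _ = J.1 := by rw [show A.1ᵀ * J.1 * A.1 = J.1 from hA]; exact hB
  inv_mem' {A} hA := by
    show (A⁻¹).1ᵀ * J.1 * (A⁻¹).1 = J.1
    calc (A⁻¹).1ᵀ * J.1 * (A⁻¹).1 = (A⁻¹).1ᵀ * (A.1ᵀ * J.1 * A.1) * (A⁻¹).1 := by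
          rw [show A.1ᵀ * J.1 * A.1 = J.1 from hA]
      _ = (A.1 * (A⁻¹).1)ᵀ * J.1 * (A.1 * (A⁻¹).1) := by rw [Matrix.transpose_mul]; simp only [mul_assoc]
      _ = J.1 := by rw [Units.mul_inv, Matrix.transpose_one, one_mul, mul_one]

theorem mem_isoM {J A : GL (Fin n) F} : A ∈ isoM J ↔ A.1ᵀ * J.1 * A.1 = J.1 := Iff.rfl

variable [Fintype F]

theorem isSR_tupleO {J A : GL (Fin n) F} (hA : A ∈ isoM J) {t : Tup F n n} (h : IsTupleOf A t) (j : Fin n) :
    IsSR (σ₁ F) (t.1 j) := by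
  classical
  obtain ⟨ι, hι, p, e, hp, he, hform, ht⟩ := h
  refine ⟨(t.2.1 j).1, (t.2.1 j).2, ?_⟩
  set a : GL (Fin n) F := adU (σ₁ F) A with ha
  have hav : a.1 = A.1ᵀ := by
    show ad (σ₁ F) A.1 = _
    simp [ad]
  have h1 : a * J * A = J := Units.ext (by
    rw [Units.val_mul, Units.val_mul, hav]
    exact hA)
  have h2 : a * (J * A) = J := by rw [← mul_assoc]; exact h1
  have hB : J * A * J⁻¹ = a⁻¹ := eq_inv_of_mul_eq_one_right (by rw [← mul_assoc a, h2, mul_inv_cancel])
  have hconj : IsConj A.1 (J * A * J⁻¹).1 :=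
    MonoidHom.map_isConj (Units.coeHom _) (show IsConj A (J * A * J⁻¹) from isConj_iff.2 ⟨J, rfl⟩)
  have hsym := congrArg (fun S : Multiset (F[X] × ℕ) => (S.filter fun x => x.2 = j.val + 1).map Prod.fst)
    (pairs_tl (σ := σ₁ F) (B := J * A * J⁻¹) (fun _ => rfl) (by rw [hB, inv_inv]) hp
      (fun i => (he i).1) hp (fun i => (he i).1) hform (hasForm_conj hform hconj))
  simp only [Multiset.filter_map, Multiset.map_map] at hsym
  rw [ht, tl_prod, Multiset.map_map]
  exact congrArg Multiset.prod hsym.symm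

/-- The tuple of a class. -/
noncomputable def tupO {J : GL (Fin n) F} (C : ConjClasses ↥(isoM J)) : Tup F n n :=
  (exists_isTupleOf (C.out : GL (Fin n) F)).choose

theorem isTupleOf_tupO {J : GL (Fin n) F} (C : ConjClasses ↥(isoM J)) :
    IsTupleOf (C.out : GL (Fin n) F) (tupO C) :=
  (exists_isTupleOf (C.out : GL (Fin n) F)).choose_spec

/-- Twice the classes over one tuple. -/
theorem fibre_goodO (h2 : (2 : F) ≠ 0) {J : GL (Fin n) F} (hJ : J.1ᵀ = J.1) (t : Tup F n n) :
    2 * Nat.card {C : ConjClasses ↥(isoM J) // tupO C = t} ≤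
      Nat.card {b : Fin n → Bool × Bool // GoodO t.1 b} + Nat.card {_u : Unit // Pure t.1} := by
  classical
  rcases isEmpty_or_nonempty {C : ConjClasses ↥(isoM J) // tupO C = t} with h | ⟨⟨C₀, h₀⟩⟩
  · rw [Nat.card_of_isEmpty]; exact Nat.zero_le _
  have hT₀ : IsTupleOf (C₀.out : GL (Fin n) F) t := h₀ ▸ isTupleOf_tupO C₀
  set A₀ : GL (Fin n) F := (C₀.out : GL (Fin n) F) with hA₀
  set g : Module.End F (Fin n → F) := Matrix.toLinAlgEquiv' A₀.1 with hg
  have hN : 1 ≤ orderOf A₀ := orderOf_pos A₀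
  have hgN : g ^ orderOf A₀ = 1 := by
    rw [hg, ← map_pow, ← Units.val_pow_eq_pow_val, pow_orderOf_eq_one, Units.val_one, map_one]
  have hx : ∀ C : {C : ConjClasses ↥(isoM J) // tupO C = t},
      ∃ x : GL (Fin n) F, x * A₀ * x⁻¹ = (C.1.out : GL (Fin n) F) := fun C => by
    have hC : IsTupleOf (C.1.out : GL (Fin n) F) t := by
      have := isTupleOf_tupO C.1
      rwa [C.2] at this
    exact isConj_iff.1 (hT₀.isConj hC)
  choose x hx using hx
  let B : {C : ConjClasses ↥(isoM J) // tupO C = t} →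
      LinearMap.BilinForm F (Fin n → F) := fun C => Matrix.toBilin' ((x C).1ᵀ * J.1 * (x C).1)
  have hB : ∀ C, IForm (1 : F) g (B C) := fun C => by
    refine ⟨fun v hv => ?_, fun v w => ?_, fun v w => ?_⟩
    · have h1 : v ᵥ* ((x C).1ᵀ * J.1 * (x C).1) = 0 := funext fun i => by
        have := hv (Pi.single i 1)
        simp only [B, Matrix.toBilin'_apply', Matrix.dotProduct_mulVec, dotProduct_single, mul_one] at this
        exact this
      have hu : IsUnit (Matrix.transpose ((x C).1) * J.1 * (x C).1) :=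
        ((Matrix.isUnit_transpose _).2 (x C).isUnit |>.mul J.isUnit).mul (x C).isUnit
      exact Matrix.vecMul_injective_iff_isUnit.2 hu (h1.trans (Matrix.zero_vecMul _).symm)
    · simp only [B, Matrix.toBilin'_apply', one_mul]
      rw [Matrix.dotProduct_mulVec, ← Matrix.mulVec_transpose, dotProduct_comm, Matrix.transpose_mul,
        Matrix.transpose_mul, Matrix.transpose_transpose, hJ, ← mul_assoc]
    · simp only [B, hg, Matrix.toLinAlgEquiv'_apply, Matrix.toBilin'_apply']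
      have hxA : (x C).1 * A₀.1 = (C.1.out : GL (Fin n) F).1 * (x C).1 := by
        rw [← Units.val_mul, ← Units.val_mul, ← hx C, inv_mul_cancel_right]
      rw [Matrix.mulVec_mulVec, Matrix.dotProduct_mulVec, ← Matrix.vecMul_transpose, Matrix.vecMul_vecMul,
        ← Matrix.dotProduct_mulVec]
      congr 2
      calc A₀.1ᵀ * ((x C).1ᵀ * J.1 * (x C).1 * A₀.1) = ((x C).1 * A₀.1)ᵀ * J.1 * ((x C).1 * A₀.1) := by
            rw [Matrix.transpose_mul]; simp only [mul_assoc]
        _ = (x C).1ᵀ * ((C.1.out : GL (Fin n) F).1ᵀ * J.1 * (C.1.out : GL (Fin n) F).1) * (x C).1 := by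
            rw [hxA, Matrix.transpose_mul]; simp only [mul_assoc]
        _ = _ := by rw [mem_isoM.1 C.1.out.2]
  obtain ⟨hpar, k, hk, γ, hγ, hhalf⟩ := bound (ε := (1 : F)) h2 (one_mul 1) hN n n (Fin n → F) g
    (Module.finrank_fin_fun F) le_rfl hgN
  have hdq : ∀ C, dq (B C) = qchi J.1.det := fun C => by
    rw [dq_basis (Pi.basisFun F (Fin n))]
    have : LinearMap.BilinForm.toMatrix (Pi.basisFun F (Fin n)) (B C) = (x C).1ᵀ * J.1 * (x C).1 := by
      ext i j
      simp [B, LinearMap.BilinForm.toMatrix_apply]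
    rw [this, Matrix.det_mul, Matrix.det_mul, Matrix.det_transpose, mul_right_comm, qchi_mul,
      qchi_sq ((Matrix.isUnit_iff_isUnit_det _).1 (x C).isUnit).ne_zero, one_mul]
  have hJ0 : qchi J.1.det ≠ 0 := by
    rcases qchi_eq_one_or ((Matrix.isUnit_iff_isUnit_det _).1 J.isUnit).ne_zero with e | e <;> rw [e] <;> norm_num
  -- the classes inject into the forms of the given discriminant
  choose i hi using fun C => hγ (B C) (hB C)
  have hinj : Nat.card {C : ConjClasses ↥(isoM J) // tupO C = t} ≤ Nat.card {l // dq (γ l) = qchi J.1.det} := by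
    refine Nat.card_le_card_of_injective (fun C => (⟨i C, by rw [← (hi C).dq_eq, hdq]⟩ : {l // dq (γ l) = qchi J.1.det}))
      fun C D hCD => ?_
    have hCD : i C = i D := congrArg Subtype.val hCD
    obtain ⟨θ, hθ, hθB⟩ := (hi C).trans (hCD ▸ Eqv.symm (hi D))
    set Y : Matrix (Fin n) (Fin n) F := LinearMap.toMatrixAlgEquiv' θ.toLinearMap with hY
    set Y' : Matrix (Fin n) (Fin n) F := LinearMap.toMatrixAlgEquiv' θ.symm.toLinearMap with hY'
    let y : GL (Fin n) F := ⟨Y, Y', by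
        rw [hY, hY', ← map_mul, ← map_one (LinearMap.toMatrixAlgEquiv' (R := F) (n := Fin n))]
        exact congrArg _ (LinearMap.ext fun v => θ.apply_symm_apply v), by
        rw [hY, hY', ← map_mul, ← map_one (LinearMap.toMatrixAlgEquiv' (R := F) (n := Fin n))]
        exact congrArg _ (LinearMap.ext fun v => θ.symm_apply_apply v)⟩
    have hYv : ∀ v, Y *ᵥ v = θ v := fun v => by
      rw [← Matrix.toLinAlgEquiv'_apply, hY, Matrix.toLinAlgEquiv'_toMatrixAlgEquiv']
      rfl
    have hyA : y * A₀ = A₀ * y := Units.ext (Matrix.ext_of_mulVec_single fun a => by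
      rw [Units.val_mul, Units.val_mul, ← Matrix.mulVec_mulVec, ← Matrix.mulVec_mulVec]
      show Y *ᵥ _ = _ *ᵥ (Y *ᵥ _)
      rw [hYv, hYv]
      exact hθ _)
    have hyJ : ((x D).1 * y.1)ᵀ * J.1 * ((x D).1 * y.1) = (x C).1ᵀ * J.1 * (x C).1 := by
      apply Matrix.toBilin'.injective
      refine LinearMap.ext₂ fun v w => ?_
      have h1 := hθB v w
      simp only [B, Matrix.toBilin'_apply', ← hYv] at h1 ⊢
      rw [← h1, Matrix.transpose_mul, show y.1ᵀ * (x D).1ᵀ * J.1 * ((x D).1 * y.1) =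
        Yᵀ * ((x D).1ᵀ * J.1 * (x D).1 * Y) by simp only [mul_assoc]; rfl, ← Matrix.mulVec_mulVec,
        ← Matrix.mulVec_mulVec, Matrix.dotProduct_mulVec, Matrix.vecMul_transpose]
    have hz : x D * y * (x C)⁻¹ ∈ isoM J := by
      rw [mem_isoM, Units.val_mul, Units.val_mul, Matrix.transpose_mul]
      calc ((x C)⁻¹).1ᵀ * ((x D).1 * y.1)ᵀ * J.1 * ((x D).1 * y.1 * ((x C)⁻¹).1)
          = ((x C)⁻¹).1ᵀ * (((x D).1 * y.1)ᵀ * J.1 * ((x D).1 * y.1)) * ((x C)⁻¹).1 := by simp only [mul_assoc]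
        _ = ((x C).1 * ((x C)⁻¹).1)ᵀ * J.1 * ((x C).1 * ((x C)⁻¹).1) := by
            rw [hyJ, Matrix.transpose_mul]; simp only [mul_assoc]
        _ = _ := by rw [Units.mul_inv, Matrix.transpose_one, one_mul, mul_one]
    apply Subtype.ext
    rw [← Quotient.out_eq C.1, ← Quotient.out_eq D.1]
    refine ConjClasses.mk_eq_mk_iff_isConj.2 (isConj_iff.2 ⟨⟨_, hz⟩, Subtype.ext ?_⟩)
    show x D * y * (x C)⁻¹ * (C.1.out : GL (Fin n) F) * (x D * y * (x C)⁻¹)⁻¹ = _
    rw [← hx C, ← hx D]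
    calc x D * y * (x C)⁻¹ * (x C * A₀ * (x C)⁻¹) * (x D * y * (x C)⁻¹)⁻¹
        = x D * (y * A₀) * y⁻¹ * (x D)⁻¹ := by group
      _ = x D * (A₀ * y) * y⁻¹ * (x D)⁻¹ := by rw [hyA]
      _ = _ := by group
  refine (Nat.mul_le_mul_left 2 hinj).trans ((hhalf rfl _ hJ0).trans ?_)
  have hpar' := hpar ⟨B ⟨C₀, h₀⟩, hB _⟩
  have hev : ∀ j : Fin n, Odd j.val → ∀ s : F, s * s = 1 → Even (rootMultiplicity s (t.1 j)) := fun j he s hs => by
    have := hpar' s hs (j.val + 1) (Nat.succ_le_succ (Nat.zero_le _))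
      (by rw [Nat.add_sub_cancel, he.neg_one_pow, one_mul])
    rwa [mult_tuple hT₀ s j, Int.even_coe_nat] at this
  have hsr : ∀ j, IsSR (σ₁ F) (t.1 j) := isSR_tupleO C₀.out.2 hT₀
  refine Nat.add_le_add ?_ ?_
  · have hgood : ∀ T ⊆ types (1 : F) n g,
        GoodO t.1 fun j => (decide (((1 : F), j.val + 1) ∈ T), decide (((-1 : F), j.val + 1) ∈ T)) := by
      intro T hT j
      have hnot : Odd j.val → ∀ s : F, (s, j.val + 1) ∉ T := fun he s hs => by
        have h1 := (mem_types.1 (hT hs)).2.2.1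
        rw [Nat.add_sub_cancel, he.neg_one_pow, one_mul] at h1
        exact h2 (by linear_combination -h1)
      have hroot : ∀ s : F, (s, j.val + 1) ∈ T → (t.1 j).IsRoot s := fun s hs => by
        have h1 := (mem_types.1 (hT hs)).2.2.2
        rw [mult_tuple hT₀ s j, Int.natCast_pos, rootMultiplicity_pos (t.2.1 j).1.ne_zero] at h1
        exact h1
      refine ⟨hsr j, fun he => ?_, fun hb => hroot 1 (by simpa using hb), fun hb => hroot (-1) (by simpa using hb)⟩
      obtain ⟨e1, e2⟩ := sr_parity h2 (hsr j) (hev j he 1 (one_mul 1)) (hev j he (-1) (by ring))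
      exact ⟨e1, e2, by simp [hnot he]⟩
    rw [← Finset.card_powerset, ← Nat.card_eq_finsetCard]
    refine Nat.card_le_card_of_injective (fun T => ⟨_, hgood T.1 (Finset.mem_powerset.1 T.2)⟩) ?_
    intro T T' hTT
    have hb := fun j => congrFun (congrArg Subtype.val hTT) j
    simp only [Prod.mk.injEq, decide_eq_decide] at hb
    refine Subtype.ext (Finset.ext fun se => ?_)
    by_cases hse : se ∈ types (1 : F) n g
    · obtain ⟨hs, ⟨he1, he2⟩, -, -⟩ := mem_types.1 hse
      have := hb ⟨se.2 - 1, by omega⟩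
      simp only [Nat.sub_add_cancel he1] at this
      rcases hs with hs | hs
      · rw [show se = (1, se.2) from Prod.ext hs rfl]; exact this.1
      · rw [show se = (-1, se.2) from Prod.ext hs rfl]; exact this.2
    · exact ⟨fun h => absurd (Finset.mem_powerset.1 T.2 h) hse, fun h => absurd (Finset.mem_powerset.1 T'.2 h) hse⟩
  · split_ifs with h0
    · have hpure : Pure t.1 := fun j => by
        refine ⟨hsr j, ?_⟩
        rcases Nat.even_or_odd j.val with he | ho
        · have hz : ∀ s : F, (s = 1 ∨ s = -1) → rootMultiplicity s (t.1 j) = 0 := fun s hs => by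
            by_contra hne
            have hmem : (s, j.val + 1) ∈ types (1 : F) n g := mem_types.2 ⟨hs, ⟨Nat.succ_le_succ (Nat.zero_le _), j.2⟩,
              by rw [Nat.add_sub_cancel, he.neg_one_pow, one_mul],
              by rw [mult_tuple hT₀ s j]; exact_mod_cast Nat.pos_of_ne_zero hne⟩
            rw [Finset.card_eq_zero.1 h0] at hmem
            exact Finset.notMem_empty _ hmem
          exact sr_parity h2 (hsr j) (by rw [hz 1 (Or.inl rfl)]; exact Even.zero)
            (by rw [hz (-1) (Or.inr rfl)]; exact Even.zero)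
        · exact sr_parity h2 (hsr j) (hev j ho 1 (one_mul 1)) (hev j ho (-1) (by ring))
      haveI : Nonempty {_u : Unit // Pure t.1} := ⟨⟨(), hpure⟩⟩
      exact Nat.card_pos
    · exact Nat.zero_le _

theorem two_mul_card_classes_le {q k : ℕ} (hq : Fintype.card F = q) (h2 : (2 : F) ≠ 0) (hn : n = 2 * k)
    {J : GL (Fin n) F} (hJ : J.1ᵀ = J.1) :
    2 * Nat.card (ConjClasses ↥(isoM J)) ≤ NO q n n + NP q n k := by
  classical
  refine le_trans ?_ (Nat.add_le_add (card_wtupO hq h2 n n) (card_ptup hq n k n hn))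
  rw [← Nat.card_congr (Equiv.sigmaFiberEquiv (tupO (J := J))), Nat.card_sigma, Finset.mul_sum,
    Nat.card_congr (Equiv.subtypeProdEquivSigmaSubtype fun (t : Tup F n n) (b : Fin n → Bool × Bool) => GoodO t.1 b),
    Nat.card_sigma, Nat.card_congr (show PTup F n n ≃ Σ t : Tup F n n, {_u : Unit // Pure t.1} from
      { toFun := fun p => ⟨p.1, ⟨(), p.2⟩⟩
        invFun := fun p => ⟨p.1, p.2.2⟩
        left_inv := fun _ => rfl
        right_inv := fun _ => rfl }), Nat.card_sigma, ← Finset.sum_add_distrib]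
  exact Finset.sum_le_sum fun t _ => fibre_goodO h2 hJ t

end Cfsg.Lib.Linear.ClassSp
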