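import Cfsg.Agent.Lib.Linear.ClassTuples

/-!
# Modules with an invariant form

Forms on a module over `F[X]` that is homogeneous for `π` are congruent as soon as they agree on the
bottom layer; nondegenerate invariant submodules split off; the ranks of `aeval g` determine the module.
-/

set_option autoImplicit false

universe u

namespace Cfsg.Lib.Linear.ClassSp

open Polynomial Cfsg.Lib

variable {F : Type u} [Field F]
variable {V W : Type u} [AddCommGroup V] [Module F V] [AddCommGroup W] [Module F W]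

/-- A nondegenerate `g`-invariant form with `B y x = ε * B x y`. -/
structure IForm (ε : F) (g : Module.End F V) (B : LinearMap.BilinForm F V) : Prop where
  sep : ∀ x, (∀ y, B x y = 0) → x = 0
  sym : ∀ x y, B y x = ε * B x y
  inv : ∀ x y, B (g x) (g y) = B x y

/-- Equivariant isometry. -/
def Eqv (g : Module.End F V) (B : LinearMap.BilinForm F V) (g' : Module.End F W) (B' : LinearMap.BilinForm F W) : Prop :=
  ∃ θ : V ≃ₗ[F] W, (∀ x, θ (g x) = g' (θ x)) ∧ ∀ x y, B' (θ x) (θ y) = B x y

theorem Eqv.refl (g : Module.End F V) (B : LinearMap.BilinForm F V) : Eqv g B g B :=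
  ⟨LinearEquiv.refl F V, fun _ => rfl, fun _ _ => rfl⟩

theorem Eqv.trans {U : Type u} [AddCommGroup U] [Module F U] {g : Module.End F V} {B : LinearMap.BilinForm F V}
    {g' : Module.End F W} {B' : LinearMap.BilinForm F W} {g'' : Module.End F U} {B'' : LinearMap.BilinForm F U}
    (h : Eqv g B g' B') (h' : Eqv g' B' g'' B'') : Eqv g B g'' B'' := by
  obtain ⟨θ, h1, h2⟩ := h
  obtain ⟨η, k1, k2⟩ := h'
  exact ⟨θ.trans η, fun x => by simp [h1, k1], fun x y => by simp [k2, h2]⟩

theorem Eqv.symm {g : Module.End F V} {B : LinearMap.BilinForm F V} {g' : Module.End F W} {B' : LinearMap.BilinForm F W}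
    (h : Eqv g B g' B') : Eqv g' B' g B := by
  obtain ⟨θ, h1, h2⟩ := h
  refine ⟨θ.symm, fun x => θ.injective (by rw [θ.apply_symm_apply, h1, θ.apply_symm_apply]), fun x y => ?_⟩
  rw [← h2, θ.apply_symm_apply, θ.apply_symm_apply]

theorem IForm.map {ε : F} {g : Module.End F V} {B : LinearMap.BilinForm F V} (hB : IForm ε g B)
    {g' : Module.End F W} {B' : LinearMap.BilinForm F W} (h : Eqv g B g' B') : IForm ε g' B' := by
  obtain ⟨θ, h1, h2⟩ := h.symm
  refine ⟨fun x hx => θ.injective ?_, fun x y => ?_, fun x y => ?_⟩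
  · rw [map_zero]
    refine hB.sep _ fun y => ?_
    rw [← θ.apply_symm_apply y, h2]
    exact hx _
  · rw [← h2, ← h2, hB.sym]
  · rw [← h2, h1, h1, hB.inv, h2]

theorem aeval_comm (g : Module.End F V) (h : F[X]) (x : V) : aeval g h (g x) = g (aeval g h x) := by
  have : Commute (aeval g h) g := by
    induction h using Polynomial.induction_on' with
    | add P Q hP hQ => rw [map_add]; exact hP.add_left hQ
    | monomial k c => rw [aeval_monomial]; exact (Algebra.commute_algebraMap_left c g).mul_left (Commute.pow_self g k)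
  exact LinearMap.congr_fun this.eq x

theorem aeval_mul_apply (g : Module.End F V) (h k : F[X]) (x : V) :
    aeval g (h * k) x = aeval g h (aeval g k x) := by
  rw [map_mul]; rfl

theorem aeval_equiv {g : Module.End F V} {g' : Module.End F W} (θ : V →ₗ[F] W)
    (hθ : ∀ x, θ (g x) = g' (θ x)) (h : F[X]) (x : V) : θ (aeval g h x) = aeval g' h (θ x) := by
  induction h using Polynomial.induction_on generalizing x with
  | C c => simp
  | add P Q hP hQ => simp [hP, hQ]
  | monomial k c hk =>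
    rw [pow_succ, ← mul_assoc, aeval_mul_apply g, aeval_X, hk, hθ, aeval_mul_apply g' _ X, aeval_X]

/-- The substitute for the reciprocal: `X ↦ X ^ (N - 1)`. -/
noncomputable def bar (N : ℕ) (h : F[X]) : F[X] := h.comp (X ^ (N - 1))

theorem bar_mul (N : ℕ) (h k : F[X]) : bar N (h * k) = bar N h * bar N k := mul_comp _ _ _
theorem bar_pow (N : ℕ) (h : F[X]) (e : ℕ) : bar N (h ^ e) = bar N h ^ e := pow_comp _ _ _

variable {N : ℕ} {ε : F} {g : Module.End F V} {B : LinearMap.BilinForm F V}

theorem pow_sub_one_apply (hN : 1 ≤ N) (hg : g ^ N = 1) (x : V) : g ((g ^ (N - 1)) x) = x := by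
  rw [← Module.End.mul_apply, ← pow_succ', Nat.sub_add_cancel hN, hg, Module.End.one_apply]

theorem IForm.inv_pow (hB : IForm ε g B) (k : ℕ) (x y : V) : B ((g ^ k) x) ((g ^ k) y) = B x y := by
  induction k with
  | zero => simp
  | succ k ih => rw [pow_succ', Module.End.mul_apply, Module.End.mul_apply, hB.inv, ih]

/-- The adjoint of `aeval g h` is `aeval g (bar N h)`. -/
theorem IForm.adj (hB : IForm ε g B) (hN : 1 ≤ N) (hg : g ^ N = 1) (h : F[X]) (x y : V) :
    B (aeval g h x) y = B x (aeval g (bar N h) y) := by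
  induction h using Polynomial.induction_on' with
  | add P Q hP hQ => simp [bar, add_comp] at *; rw [hP, hQ]
  | monomial k c =>
    have h1 : (g ^ k) ((g ^ ((N - 1) * k)) y) = y := by
      rw [← Module.End.mul_apply, ← pow_add, show k + (N - 1) * k = N * k by
        obtain ⟨M, rfl⟩ : ∃ M, N = M + 1 := ⟨N - 1, by omega⟩
        rw [Nat.add_sub_cancel, add_mul, one_mul, add_comm],
        pow_mul, hg, one_pow, Module.End.one_apply]
    simp only [bar, ← C_mul_X_pow_eq_monomial, mul_comp, C_comp, pow_comp, X_comp, ← pow_mul, map_mul, aeval_C,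
      map_pow, aeval_X, Module.End.mul_apply, Module.algebraMap_end_apply, map_smul, LinearMap.smul_apply]
    congr 1
    conv_lhs => rw [← h1, hB.inv_pow k]

section Congr

variable [FiniteDimensional F V]

/-- Two invariant forms differ by a self-adjoint operator commuting with `g`. -/
theorem exists_op (hε : ε ≠ 0) (hN : 1 ≤ N) (hg : g ^ N = 1) {B' : LinearMap.BilinForm F V}
    (hB : IForm ε g B) (hB' : IForm ε g B') : ∃ c : Module.End F V, (∀ x y, B' x y = B (c x) y) ∧
      (∀ x y, B (c x) y = B x (c y)) ∧ (∀ x, c (g x) = g (c x)) ∧ Function.Injective c := by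
  have hinj : Function.Injective (B : V →ₗ[F] Module.Dual F V) := by
    refine LinearMap.ker_eq_bot.1 (LinearMap.ker_eq_bot'.2 fun x hx => hB.sep x fun y => ?_)
    rw [show B x = 0 from hx]; rfl
  let E : V ≃ₗ[F] Module.Dual F V := LinearMap.linearEquivOfInjective B hinj Subspace.dual_finrank_eq.symm
  let c : Module.End F V := E.symm.toLinearMap ∘ₗ B'
  have hc : ∀ x y, B (c x) y = B' x y := fun x y => LinearMap.congr_fun (E.apply_symm_apply (B' x)) y
  refine ⟨c, fun x y => (hc x y).symm, fun x y => ?_, fun x => ?_, fun x y hxy => ?_⟩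
  · apply mul_left_cancel₀ hε
    rw [hc, ← hB'.sym, ← hB.sym, hc]
  · refine sub_eq_zero.1 (hB.sep _ fun y => ?_)
    rw [map_sub, LinearMap.sub_apply, sub_eq_zero]
    conv_lhs => rw [← pow_sub_one_apply hN hg y, hc, hB'.inv, ← hc]
    conv_rhs => rw [← pow_sub_one_apply hN hg y, hB.inv]
  · refine sub_eq_zero.1 (hB'.sep _ fun z => ?_)
    rw [← hc, map_sub, hxy, sub_self, map_zero, LinearMap.zero_apply]

variable [Finite F]

/-- Forms on a `π`-homogeneous module agreeing on the bottom layer are congruent. -/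
theorem congr_of_top (h2 : (2 : F) ≠ 0) (hε : ε ≠ 0) (hN : 1 ≤ N) (hg : g ^ N = 1) {B' : LinearMap.BilinForm F V}
    (hB : IForm ε g B) (hB' : IForm ε g B') (π : F[X]) (e : ℕ) (he : aeval g (π ^ e) = 0)
    (hom : ∀ x, aeval g (π ^ (e - 1)) x = 0 → ∃ z, aeval g π z = x)
    (htop : ∀ x y, B' (aeval g (π ^ (e - 1)) x) y = B (aeval g (π ^ (e - 1)) x) y) : Eqv g B' g B := by
  obtain ⟨p, hpF⟩ := CharP.exists F
  haveI := Fintype.ofFinite F
  obtain ⟨nF, hp, -⟩ := FiniteField.card F p
  haveI := Fact.mk hp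
  have hp2 : p ≠ 2 := by
    rintro rfl
    exact h2 (CharP.cast_eq_zero F 2)
  obtain ⟨c, hc', hsa, hcg, -⟩ := exists_op hε hN hg hB hB'
  have hc : ∀ x y, B (c x) y = B' x y := fun x y => (hc' x y).symm
  set j : Module.End F V := c - 1 with hj
  have hjg : ∀ h x, j (aeval g h x) = aeval g h (j x) := fun h x =>
    aeval_equiv (g' := g) j (fun z => by simp [hj, hcg]) h x
  have hjtop : ∀ x, aeval g (π ^ (e - 1)) (j x) = 0 := fun x => by
    rw [← hjg]
    refine hB.sep _ fun y => ?_
    rw [hj, LinearMap.sub_apply, Module.End.one_apply, map_sub, LinearMap.sub_apply, hc, htop, sub_self]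
  have hjpow : ∀ k x, ∃ z, (j ^ k) x = aeval g (π ^ k) z := fun k => by
    induction k with
    | zero => exact fun x => ⟨x, by simp⟩
    | succ k ih =>
      intro x
      obtain ⟨z, hz⟩ := ih x
      obtain ⟨w, hw⟩ := hom (j z) (hjtop z)
      exact ⟨w, by rw [pow_succ', Module.End.mul_apply, hz, hjg, ← hw, ← aeval_mul_apply, ← pow_succ]⟩
  have hje : j ^ p ^ e = 0 := by
    refine pow_eq_zero_of_le (e.lt_pow_self hp.one_lt).le (LinearMap.ext fun x => ?_)
    obtain ⟨z, hz⟩ := hjpow e x
    rw [hz, he]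
    rfl
  have hcp : c ^ p ^ e = 1 := by
    rw [show c = j + 1 by rw [hj, sub_add_cancel]]
    rcases subsingleton_or_nontrivial V with hV | hV
    · exact LinearMap.ext fun x => Subsingleton.elim _ _
    haveI : CharP (Module.End F V) p := charP_of_injective_algebraMap (algebraMap F (Module.End F V)).injective p
    rw [add_pow_char_pow_of_commute (p := p) (n := e) (Commute.one_right j), hje, one_pow, zero_add]
  obtain ⟨m, hm⟩ : Odd (p ^ e) := (hp.odd_of_ne_two hp2).pow
  set s : Module.End F V := c ^ (m + 1) with hs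
  have hss : s * s = c := by
    rw [hs, ← pow_add, show m + 1 + (m + 1) = p ^ e + 1 by omega, pow_succ, hcp, one_mul]
  have hpow : ∀ k x y, B ((c ^ k) x) y = B x ((c ^ k) y) := fun k => by
    induction k with
    | zero => simp
    | succ k ih =>
      intro x y
      rw [pow_succ', Module.End.mul_apply, hsa, ih, ← Module.End.mul_apply, ← pow_succ, pow_succ']
  have hsinj : Function.Injective s := fun x y hxy => by
    have h1 : c x = c y := by
      rw [← hss, Module.End.mul_apply, Module.End.mul_apply, hxy]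
    refine sub_eq_zero.1 (hB'.sep _ fun z => ?_)
    rw [← hc, map_sub, h1, sub_self, map_zero, LinearMap.zero_apply]
  let θ : V ≃ₗ[F] V := LinearEquiv.ofInjectiveEndo s hsinj
  have hsg : ∀ x, s (g x) = g (s x) := fun x => by
    rw [hs]
    generalize m + 1 = k
    induction k with
    | zero => simp
    | succ k ih => rw [pow_succ', Module.End.mul_apply, Module.End.mul_apply, ih, hcg]
  refine ⟨θ, hsg, fun x y => ?_⟩
  show B (s x) (s y) = B' x y
  rw [← hc, ← hss, Module.End.mul_apply, hs, hpow (m + 1) ((c ^ (m + 1)) x) y]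

end Congr

section Rank

/-- The rank of `aeval g h`. -/
noncomputable def rk (g : Module.End F V) (h : F[X]) : ℕ := Module.finrank F (LinearMap.range (aeval g h))

theorem rk_equiv {g : Module.End F V} {g' : Module.End F W} (θ : V ≃ₗ[F] W) (hθ : ∀ x, θ (g x) = g' (θ x))
    (h : F[X]) : rk g h = rk g' h := by
  rw [rk, rk, ← LinearEquiv.finrank_map_eq θ]
  suffices h1 : (LinearMap.range (aeval g h)).map θ.toLinearMap = LinearMap.range (aeval g' h) by
    exact congrArg (fun S : Submodule F W => Module.finrank F S) h1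
  ext y
  constructor
  · rintro ⟨-, ⟨x, rfl⟩, rfl⟩
    exact ⟨θ x, (aeval_equiv θ.toLinearMap hθ h x).symm⟩
  · rintro ⟨x, rfl⟩
    exact ⟨_, ⟨θ.symm x, rfl⟩, (aeval_equiv θ.toLinearMap hθ h _).trans (by simp)⟩

theorem aeval_prodMap (g : Module.End F V) (g' : Module.End F W) (h : F[X]) (x : V × W) :
    aeval (g.prodMap g') h x = (aeval g h x.1, aeval g' h x.2) :=
  Prod.ext (aeval_equiv (g' := g) (LinearMap.fst F V W) (fun _ => rfl) h x)
    (aeval_equiv (g' := g') (LinearMap.snd F V W) (fun _ => rfl) h x)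

theorem rk_prod [FiniteDimensional F V] [FiniteDimensional F W] (g : Module.End F V) (g' : Module.End F W)
    (h : F[X]) : rk (g.prodMap g') h = rk g h + rk g' h := by
  rw [rk, rk, rk, ← Module.finrank_prod]
  refine LinearEquiv.finrank_eq
    { toFun := fun z => (⟨z.1.1, ?_⟩, ⟨z.1.2, ?_⟩)
      invFun := fun z => ⟨(z.1.1, z.2.1), ?_⟩
      left_inv := fun z => rfl
      right_inv := fun z => rfl
      map_add' := fun _ _ => rfl
      map_smul' := fun _ _ => rfl }
  · obtain ⟨x, hx⟩ := z.2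
    exact ⟨x.1, by rw [← hx, aeval_prodMap]⟩
  · obtain ⟨x, hx⟩ := z.2
    exact ⟨x.2, by rw [← hx, aeval_prodMap]⟩
  · obtain ⟨x, hx⟩ := z.1.2
    obtain ⟨y, hy⟩ := z.2.2
    exact ⟨(x, y), by rw [aeval_prodMap, hx, hy]⟩

theorem exists_equiv_of_rk [FiniteDimensional F V] [FiniteDimensional F W] {g : Module.End F V}
    {g' : Module.End F W} (hfr : Module.finrank F V = Module.finrank F W)
    (hrk : ∀ Y : F[X], Y.Monic → Irreducible Y → ∀ k, rk g (Y ^ k) = rk g' (Y ^ k)) :
    ∃ θ : V ≃ₗ[F] W, ∀ x, θ (g x) = g' (θ x) := by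
  classical
  set n := Module.finrank F V
  let bV : (Fin n → F) ≃ₗ[F] V := (Module.finBasis F V).equivFun.symm
  let bW : (Fin n → F) ≃ₗ[F] W := (Module.finBasisOfFinrankEq F W hfr.symm).equivFun.symm
  have key : ∀ {U : Type u} [AddCommGroup U] [Module F U] (b : (Fin n → F) ≃ₗ[F] U) (u : Module.End F U),
      ∃ (ι : Type u) (_ : Fintype ι) (p : ι → F[X]) (e : ι → ℕ) (Θ : U ≃ₗ[F] ∀ i, AdjoinRoot (p i ^ e i)),
        (∀ i, (p i).Monic ∧ Irreducible (p i)) ∧ (∀ i, 1 ≤ e i) ∧
        (∀ x i, Θ (u x) i = AdjoinRoot.root _ * Θ x i) ∧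
        ∀ h, rk u h = ∑ i, Module.finrank F (LinearMap.range (LinearMap.mulLeft F (AdjoinRoot.mk (p i ^ e i) h))) := by
    intro U _ _ b u
    set A := LinearMap.toMatrix' (b.symm.toLinearMap ∘ₗ u ∘ₗ b.toLinearMap) with hA
    obtain ⟨ι, hι, p, e, hp, hi, he, hform⟩ := CanonicalForm.exists_form A
    obtain ⟨Ψ, hΨ⟩ := hform
    have hbu : ∀ x, b.symm (u x) = Matrix.toLin' A (b.symm x) := fun x => by simp [hA]
    refine ⟨ι, hι, p, e, b.symm.trans Ψ, fun i => ⟨hp i, hi i⟩, he, fun x i => ?_, fun h => ?_⟩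
    · show Ψ (b.symm (u x)) i = _
      rw [hbu, Matrix.toLin'_apply, hΨ]
      rfl
    · rw [rk_equiv b.symm (g' := Matrix.toLin' A) hbu, rk,
        ← ClassTuples.finrank_range_aeval (fun i => (hp i).pow (e i)) ⟨Ψ, hΨ⟩ h]
      have e1 : aeval (Matrix.toLin' A) h = (aeval A h).mulVecLin :=
        Polynomial.aeval_algHom_apply (Matrix.toLinAlgEquiv' (R := F) (n := Fin n)).toAlgHom A h
      rw [e1]
  obtain ⟨ι, hι, p, e, Θ, hp, he, hΘ, hr⟩ := key bV g
  obtain ⟨κ, hκ, p', e', Θ', hp', he', hΘ', hr'⟩ := key bW g'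
  have hstep : ∀ {τ : Type u} [Fintype τ] (p : τ → F[X]) (e : τ → ℕ), (∀ i, (p i).Monic ∧ Irreducible (p i)) →
      ∀ (Y : F[X]), Y.Monic → Irreducible Y → ∀ k,
      ∑ i, Module.finrank F (LinearMap.range (LinearMap.mulLeft F (AdjoinRoot.mk (p i ^ e i) (Y ^ k)))) =
        (∑ i, Module.finrank F (LinearMap.range (LinearMap.mulLeft F (AdjoinRoot.mk (p i ^ e i) (Y ^ (k + 1)))))) +
          Y.natDegree * (Finset.univ.filter fun i => p i = Y ∧ k < e i).card := by
    intro τ _ p e hp Y hY hYi k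
    rw [Finset.card_filter, Finset.mul_sum, ← Finset.sum_add_distrib]
    refine Finset.sum_congr rfl fun i _ => ?_
    by_cases hi : p i = Y
    · rw [hi, ClassTuples.finrank_range_same Y hY, ClassTuples.finrank_range_same Y hY]
      by_cases hk : k < e i
      · rw [if_pos ⟨rfl, hk⟩, mul_one, ← Nat.succ_mul]
        congr 1
        omega
      · rw [if_neg (fun h => hk h.2), mul_zero, add_zero, Nat.sub_eq_zero_of_le (by omega : e i ≤ k),
          Nat.sub_eq_zero_of_le (by omega : e i ≤ k + 1)]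
    · have hco : IsCoprime Y (p i) := by
        refine hYi.coprime_iff_not_dvd.2 fun hd => hi ?_
        exact (eq_of_monic_of_associated hY (hp i).1 (hYi.associated_of_dvd (hp i).2 hd)).symm
      rw [ClassTuples.finrank_range_other _ _ ((hp i).1.pow _) hco.pow,
        ClassTuples.finrank_range_other _ _ ((hp i).1.pow _) hco.pow, if_neg (fun h => hi h.1), mul_zero, add_zero]
  have hmap : ((Finset.univ : Finset ι).val.map fun i => (p i, e i)) =
      (Finset.univ : Finset κ).val.map fun i => (p' i, e' i) := by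
    refine Multiset.ext.2 fun ⟨Y, l⟩ => ?_
    by_cases hY : (Y.Monic ∧ Irreducible Y) ∧ 1 ≤ l
    · obtain ⟨⟨hYm, hYi⟩, hl⟩ := hY
      obtain ⟨k, rfl⟩ : ∃ k, l = k + 1 := ⟨l - 1, by omega⟩
      have split : ∀ {τ : Type u} [Fintype τ] (p : τ → F[X]) (e : τ → ℕ),
          (Finset.univ.filter fun i => p i = Y ∧ k < e i).card =
          Multiset.count (Y, k + 1) ((Finset.univ : Finset τ).val.map fun i => (p i, e i)) +
            (Finset.univ.filter fun i => p i = Y ∧ k + 1 < e i).card := by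
        intro τ _ p e
        rw [Multiset.count_map, ← Finset.filter_val, ← Finset.card_def, Finset.card_filter, Finset.card_filter,
          Finset.card_filter, ← Finset.sum_add_distrib]
        refine Finset.sum_congr rfl fun i _ => ?_
        by_cases hi : p i = Y
        · simp only [hi, true_and, Prod.mk.injEq]
          split_ifs <;> omega
        · simp [hi, Prod.mk.injEq, Ne.symm hi]
      have heq : ∀ m, (Finset.univ.filter fun i => p i = Y ∧ m < e i).card =
          (Finset.univ.filter fun i => p' i = Y ∧ m < e' i).card := fun m => by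
        have e1 := hstep p e hp Y hYm hYi m
        have e2 := hstep p' e' hp' Y hYm hYi m
        rw [← hr, ← hr, hrk Y hYm hYi, hrk Y hYm hYi, hr', hr'] at e1
        exact Nat.eq_of_mul_eq_mul_left hYi.natDegree_pos (Nat.add_left_cancel (e1.symm.trans e2))
      have h1 := split p e
      have h2 := split p' e'
      rw [heq k, heq (k + 1)] at h1
      omega
    · rw [Multiset.count_eq_zero.2, Multiset.count_eq_zero.2]
      · intro hmem
        obtain ⟨i, -, hi⟩ := Multiset.mem_map.1 hmem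
        rw [Prod.mk.injEq] at hi
        exact hY ⟨hi.1 ▸ hp' i, hi.2 ▸ he' i⟩
      · intro hmem
        obtain ⟨i, -, hi⟩ := Multiset.mem_map.1 hmem
        rw [Prod.mk.injEq] at hi
        exact hY ⟨hi.1 ▸ hp i, hi.2 ▸ he i⟩
  obtain ⟨σ, hσ⟩ := CanonicalForm.exists_equiv_of_map_eq (fun i => (p i, e i)) (fun i => (p' i, e' i)) hmap
  obtain rfl : p' = p ∘ σ := funext fun i => congrArg Prod.fst (congrFun hσ i)
  obtain rfl : e' = e ∘ σ := funext fun i => congrArg Prod.snd (congrFun hσ i)
  let Ξ : V ≃ₗ[F] ∀ i : κ, AdjoinRoot (p (σ i) ^ e (σ i)) :=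
    Θ.trans (LinearEquiv.piCongrLeft F (fun i => AdjoinRoot (p i ^ e i)) σ).symm
  refine ⟨Ξ.trans Θ'.symm, fun x => Θ'.injective (funext fun i => ?_)⟩
  rw [hΘ']
  simp only [LinearEquiv.trans_apply, LinearEquiv.apply_symm_apply]
  show Θ (g x) (σ i) = AdjoinRoot.root (p (σ i) ^ e (σ i)) * Θ x (σ i)
  exact hΘ x (σ i)

end Rank

section Split

variable [FiniteDimensional F V] [FiniteDimensional F W]

/-- The orthogonal sum of two forms. -/
noncomputable def prodB (β : LinearMap.BilinForm F W) {U : Type u} [AddCommGroup U] [Module F U] (γ : LinearMap.BilinForm F U) : LinearMap.BilinForm F (W × U) :=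
  β.compl₁₂ (LinearMap.fst F W U) (LinearMap.fst F W U) + γ.compl₁₂ (LinearMap.snd F W U) (LinearMap.snd F W U)

omit [FiniteDimensional F W] in
theorem prodB_apply (β : LinearMap.BilinForm F W) {U : Type u} [AddCommGroup U] [Module F U] (γ : LinearMap.BilinForm F U) (x y : W × U) :
    prodB β γ x y = β x.1 y.1 + γ x.2 y.2 := rfl

omit [FiniteDimensional F V] [FiniteDimensional F W] in
theorem Eqv.prod {W' U U' : Type u} [AddCommGroup W'] [Module F W'] [AddCommGroup U] [Module F U]
    [AddCommGroup U'] [Module F U'] {G : Module.End F W} {β : LinearMap.BilinForm F W} {G' : Module.End F W'} {β' : LinearMap.BilinForm F W'}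
    {K : Module.End F U} {γ : LinearMap.BilinForm F U} {K' : Module.End F U'} {γ' : LinearMap.BilinForm F U'} (h : Eqv G β G' β')
    (k : Eqv K γ K' γ') : Eqv (G.prodMap K) (prodB β γ) (G'.prodMap K') (prodB β' γ') := by
  obtain ⟨θ, h1, h2⟩ := h
  obtain ⟨η, k1, k2⟩ := k
  exact ⟨θ.prodCongr η, fun x => Prod.ext (h1 x.1) (k1 x.2),
    fun x y => by rw [prodB_apply, prodB_apply]; exact congrArg₂ (· + ·) (h2 x.1 y.1) (k2 x.2 y.2)⟩

/-- A nondegenerate invariant image splits off. -/
theorem exists_split (hε : ε ≠ 0) (hN : 1 ≤ N) (hg : g ^ N = 1) (hB : IForm ε g B) (G : Module.End F W)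
    (Φ : W →ₗ[F] V) (hΦ : ∀ x, Φ (G x) = g (Φ x)) (hsep : ∀ x, (∀ y, B (Φ x) (Φ y) = 0) → x = 0) :
    G ^ N = 1 ∧ IForm ε G (B.compl₁₂ Φ Φ) ∧ ∃ (U : Submodule F V) (g₀ : Module.End F U) (B₀ : LinearMap.BilinForm F U),
      g₀ ^ N = 1 ∧ IForm ε g₀ B₀ ∧ Eqv g B (G.prodMap g₀) (prodB (B.compl₁₂ Φ Φ) B₀) := by
  have hinj : Function.Injective Φ := LinearMap.ker_eq_bot.1 (LinearMap.ker_eq_bot'.2 fun x hx =>
    hsep x fun y => by rw [hx, map_zero, LinearMap.zero_apply])
  have hpow : ∀ k x, Φ ((G ^ k) x) = (g ^ k) (Φ x) := fun k => by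
    induction k with
    | zero => simp
    | succ k ih => intro x; rw [pow_succ', Module.End.mul_apply, hΦ, ih, pow_succ', Module.End.mul_apply]
  have hG : G ^ N = 1 := LinearMap.ext fun x => hinj (by rw [hpow, hg, Module.End.one_apply, Module.End.one_apply])
  have hβ : IForm ε G (B.compl₁₂ Φ Φ) := ⟨hsep, fun x y => hB.sym _ _, fun x y => by
    show B (Φ (G x)) (Φ (G y)) = B (Φ x) (Φ y)
    rw [hΦ, hΦ, hB.inv]⟩
  let E : W ≃ₗ[F] Module.Dual F W := LinearMap.linearEquivOfInjective (B.compl₁₂ Φ Φ) (LinearMap.ker_eq_bot.1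
    (LinearMap.ker_eq_bot'.2 fun x hx => hsep x fun y => LinearMap.congr_fun hx y)) Subspace.dual_finrank_eq.symm
  let U : Submodule F V := LinearMap.ker (((LinearMap.lcomp F F Φ).comp B) : V →ₗ[F] Module.Dual F W)
  have hU : ∀ v, v ∈ U ↔ ∀ w, B v (Φ w) = 0 := fun v => by
    rw [LinearMap.mem_ker, LinearMap.ext_iff]
    rfl
  let π : V →ₗ[F] W := E.symm.toLinearMap ∘ₗ ((LinearMap.lcomp F F Φ).comp B)
  have hπ : ∀ v w, B (Φ (π v)) (Φ w) = B v (Φ w) := fun v w =>
    LinearMap.congr_fun (E.apply_symm_apply ((LinearMap.lcomp F F Φ).comp B v)) w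
  have hrest : ∀ v, v - Φ (π v) ∈ U := fun v => (hU _).2 fun w => by
    rw [map_sub, LinearMap.sub_apply, hπ, sub_self]
  have hUg : ∀ v ∈ U, g v ∈ U := fun v hv => (hU _).2 fun w => by
    have h1 : G ((G ^ (N - 1)) w) = w := pow_sub_one_apply hN hG w
    rw [← h1, hΦ, hB.inv]
    exact (hU v).1 hv _
  let g₀ : Module.End F U := g.restrict hUg
  have hpow₀ : ∀ k (x : U), (((g₀ ^ k) x : U) : V) = (g ^ k) (x : V) := fun k => by
    induction k with
    | zero => simp
    | succ k ih =>
      intro x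
      rw [pow_succ', Module.End.mul_apply, pow_succ', Module.End.mul_apply, ← ih]
      rfl
  refine ⟨hG, hβ, U, g₀, B.compl₁₂ U.subtype U.subtype,
    LinearMap.ext fun x => Subtype.ext (by rw [hpow₀, hg]; rfl),
    ⟨fun x hx => Subtype.ext (hB.sep _ fun y => ?_), fun x y => hB.sym _ _, fun x y => hB.inv _ _⟩, ?_⟩
  · have := hx ⟨_, hrest y⟩
    simp only [LinearMap.compl₁₂_apply, Submodule.subtype_apply, map_sub] at this
    rw [(hU _).1 x.2, sub_zero] at this
    exact this
  · have hπU : ∀ u ∈ U, π u = 0 := fun u hu => hsep _ fun y => by rw [hπ]; exact (hU u).1 hu y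
    have hπΦ : ∀ w, π (Φ w) = w := fun w => sub_eq_zero.1 (hsep _ fun y => by
      rw [map_sub, map_sub, LinearMap.sub_apply, hπ, sub_self])
    let θ : (W × U) ≃ₗ[F] V :=
      { toFun := fun x => Φ x.1 + x.2
        invFun := fun v => (π v, ⟨_, hrest v⟩)
        map_add' := fun x y => by simp [add_add_add_comm]
        map_smul' := fun c x => by simp
        left_inv := fun x => by
          refine Prod.ext ?_ (Subtype.ext ?_)
          · show π (Φ x.1 + x.2) = x.1
            rw [map_add, hπΦ, hπU _ x.2.2, add_zero]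
          · show Φ x.1 + x.2 - Φ (π (Φ x.1 + x.2)) = x.2
            rw [map_add, hπΦ, hπU _ x.2.2, add_zero, add_sub_cancel_left]
        right_inv := fun v => add_sub_cancel _ _ }
    refine (show Eqv (G.prodMap g₀) (prodB (B.compl₁₂ Φ Φ) (B.compl₁₂ U.subtype U.subtype)) g B from
      ⟨θ, fun x => ?_, fun x y => ?_⟩).symm
    · show Φ (G x.1) + g (x.2 : V) = g (Φ x.1 + x.2)
      rw [map_add, hΦ]
    · show B (Φ x.1 + x.2) (Φ y.1 + y.2) = B (Φ x.1) (Φ y.1) + B (x.2 : V) y.2
      rw [map_add, map_add, LinearMap.add_apply, LinearMap.add_apply, (hU _).1 x.2.2,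
        hB.sym (y.2 : V) (Φ x.1), (hU _).1 y.2.2, mul_zero]
      ring

end Split

end Cfsg.Lib.Linear.ClassSp
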