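import Mathlib

/-!
# Classes of a subgroup of index two
-/

set_option autoImplicit false

universe u v

namespace Cfsg.Lib.Linear.ClassSp.IndexTwo

open Finset

variable {G : Type u} [Group G]

/-- Elements of the subgroup whose centralizer stays inside it. -/
def Stuck (M : Subgroup G) (x : G) : Prop := x ∈ M ∧ ∀ y, Commute x y → y ∈ M

theorem stuck_conj {M : Subgroup G} (hM : M.index = 2) {x : G} (h : Stuck M x) (g : G) :
    Stuck M (g * x * g⁻¹) := by
  haveI := Subgroup.normal_of_index_eq_two hM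
  refine ⟨Subgroup.Normal.conj_mem inferInstance x h.1 g, fun y hy => ?_⟩
  have h1 := h.2 (g⁻¹ * y * g) (by
    have := hy.eq
    show x * (g⁻¹ * y * g) = g⁻¹ * y * g * x
    calc x * (g⁻¹ * y * g) = g⁻¹ * (g * x * g⁻¹ * y) * g := by group
      _ = g⁻¹ * (y * (g * x * g⁻¹)) * g := by rw [this]
      _ = g⁻¹ * y * g * x := by group)
  have h2 := Subgroup.Normal.conj_mem inferInstance _ h1 g
  rwa [show g * (g⁻¹ * y * g) * g⁻¹ = y by group] at h2

/-- The classes of a subgroup of index two. -/
theorem two_mul_classes [Finite G] (M : Subgroup G) (hM : M.index = 2) :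
    2 * Nat.card (ConjClasses M) =
      Nat.card (ConjClasses G) + 3 * Nat.card {C : ConjClasses G // Stuck M C.out} := by
  classical
  haveI := Fintype.ofFinite G
  let N : (G → Prop) → (G → Prop) → ℕ := fun A B => Nat.card {p : G × G // A p.1 ∧ B p.2 ∧ Commute p.1 p.2}
  have hsum : ∀ A B, N A B = ∑ x ∈ univ.filter A, Nat.card {y : G // B y ∧ Commute x y} := fun A B => by
    rw [← Finset.sum_coe_sort, ← Nat.card_sigma]
    exact Nat.card_congr
      { toFun := fun p => ⟨⟨p.1.1, by simp [p.2.1]⟩, p.1.2, p.2.2⟩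
        invFun := fun p => ⟨(p.1.1, p.2.1), (mem_filter.1 p.1.2).2, p.2.2⟩
        left_inv := fun _ => rfl
        right_inv := fun _ => rfl }
  set I : G → Prop := fun x => x ∈ M
  set O : G → Prop := fun x => x ∉ M
  have hall : Nat.card (ConjClasses G) * Nat.card G = N I I + N I O + (N O I + N O O) := by
    rw [← card_comm_eq_card_conjClasses_mul_card, hsum, hsum, hsum, hsum, ← sum_add_distrib, ← sum_add_distrib]
    have hsplit : ∀ x : G, Nat.card {y : G // Commute x y} =
        Nat.card {y : G // I y ∧ Commute x y} + Nat.card {y : G // O y ∧ Commute x y} := fun x => by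
      simp only [Nat.card_eq_fintype_card, Fintype.card_subtype]
      rw [← card_filter_add_card_filter_not (fun y => y ∈ M), filter_filter, filter_filter]
      simp only [I, O, and_comm]
    simp only [← hsplit]
    rw [show O = fun x => ¬ I x from rfl, sum_filter_add_sum_filter_not, ← Nat.card_sigma]
    exact Nat.card_congr
      { toFun := fun p => ⟨p.1.1, p.1.2, p.2⟩
        invFun := fun p => ⟨(p.1, p.2.1), p.2.2⟩
        left_inv := fun _ => rfl
        right_inv := fun _ => rfl }
  have hII : N I I = Nat.card (ConjClasses M) * Nat.card M := by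
    rw [← card_comm_eq_card_conjClasses_mul_card]
    exact Nat.card_congr
      { toFun := fun p => ⟨(⟨p.1.1, p.2.1⟩, ⟨p.1.2, p.2.2.1⟩), Subtype.ext p.2.2.2.eq⟩
        invFun := fun p => ⟨(p.1.1.1, p.1.2.1), p.1.1.2, p.1.2.2, congrArg Subtype.val p.2.eq⟩
        left_inv := fun _ => rfl
        right_inv := fun _ => rfl }
  have hsym : N O I = N I O := Nat.card_congr
    { toFun := fun p => ⟨(p.1.2, p.1.1), p.2.2.1, p.2.1, p.2.2.2.symm⟩
      invFun := fun p => ⟨(p.1.2, p.1.1), p.2.2.1, p.2.1, p.2.2.2.symm⟩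
      left_inv := fun _ => rfl
      right_inv := fun _ => rfl }
  have hmem := fun {a b : G} => Subgroup.mul_mem_iff_of_index_two hM (a := a) (b := b)
  have hOO : N O O = N O I := Nat.card_congr
    { toFun := fun p => ⟨(p.1.1, p.1.1 * p.1.2), p.2.1, by
        show _ ∈ M
        rw [hmem]
        exact iff_of_false p.2.1 p.2.2.1, (Commute.refl _).mul_right p.2.2.2⟩
      invFun := fun p => ⟨(p.1.1, p.1.1⁻¹ * p.1.2), p.2.1, fun h => p.2.1 (by
        rw [hmem, inv_mem_iff] at h
        exact h.2 p.2.2.1), (Commute.refl _).inv_right.mul_right p.2.2.2⟩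
      left_inv := fun p => Subtype.ext (Prod.ext rfl (inv_mul_cancel_left _ _))
      right_inv := fun p => Subtype.ext (Prod.ext rfl (mul_inv_cancel_left _ _)) }
  -- the centralizer meets both cosets equally unless it is inside
  have hcent : ∀ x ∈ univ.filter I, Nat.card {y : G // I y ∧ Commute x y} =
      Nat.card {y : G // O y ∧ Commute x y} + (if Stuck M x then Nat.card {y : G // Commute x y} else 0) := by
    intro x hx
    split_ifs with hs
    · have : IsEmpty {y : G // O y ∧ Commute x y} := ⟨fun y => y.2.1 (hs.2 _ y.2.2)⟩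
      rw [Nat.card_of_isEmpty (α := {y : G // O y ∧ Commute x y}), zero_add]
      exact Nat.card_congr (Equiv.subtypeEquivRight fun y => ⟨fun h => h.2, fun h => ⟨hs.2 y h, h⟩⟩)
    · obtain ⟨z, hz, hzM⟩ : ∃ z, Commute x z ∧ z ∉ M := by
        by_contra h
        push_neg at h
        exact hs ⟨(mem_filter.1 hx).2, h⟩
      rw [add_zero]
      exact Nat.card_congr
        { toFun := fun y => ⟨z * y.1, fun h => hzM (by rw [hmem] at h; exact h.2 y.2.1), hz.mul_right y.2.2⟩
          invFun := fun y => ⟨z⁻¹ * y.1, by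
            show _ ∈ M
            rw [hmem, inv_mem_iff]
            exact iff_of_false hzM y.2.1, hz.inv_right.mul_right y.2.2⟩
          left_inv := fun y => Subtype.ext (inv_mul_cancel_left _ _)
          right_inv := fun y => Subtype.ext (mul_inv_cancel_left _ _) }
  -- the class equation
  have hclass : ∀ a : G, ∑ x ∈ univ.filter (fun x => ConjClasses.mk x = ConjClasses.mk a),
      Nat.card {y : G // Commute x y} = Nat.card G := fun a => by
    rw [Nat.card_congr (Equiv.sigmaFiberEquiv fun g : G => g * a * g⁻¹).symm, Nat.card_sigma, sum_filter]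
    refine sum_congr rfl fun x _ => ?_
    split_ifs with h
    · obtain ⟨g₀, hg₀⟩ := isConj_iff.1 (ConjClasses.mk_eq_mk_iff_isConj.1 h.symm)
      refine Nat.card_congr
        { toFun := fun y => ⟨y.1 * g₀, ?_⟩
          invFun := fun g => ⟨g.1 * g₀⁻¹, ?_⟩
          left_inv := fun y => Subtype.ext (mul_inv_cancel_right _ _)
          right_inv := fun g => Subtype.ext (inv_mul_cancel_right _ _) }
      · calc y.1 * g₀ * a * (y.1 * g₀)⁻¹ = y.1 * (g₀ * a * g₀⁻¹) * y.1⁻¹ := by group
          _ = x := by rw [hg₀, ← y.2.eq, mul_inv_cancel_right]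
      · show x * (g.1 * g₀⁻¹) = g.1 * g₀⁻¹ * x
        calc x * (g.1 * g₀⁻¹) = g.1 * a * g.1⁻¹ * (g.1 * g₀⁻¹) := by rw [g.2]
          _ = g.1 * g₀⁻¹ * (g₀ * a * g₀⁻¹) := by group
          _ = _ := by rw [hg₀]
    · have : IsEmpty {g : G // g * a * g⁻¹ = x} := ⟨fun g => h
        (ConjClasses.mk_eq_mk_iff_isConj.2 (isConj_iff.2 ⟨g.1, g.2⟩)).symm⟩
      rw [Nat.card_of_isEmpty]
  have hstuck : ∀ x, Stuck M x ↔ Stuck M (ConjClasses.mk x).out := fun x => by
    obtain ⟨g, hg⟩ := isConj_iff.1 (ConjClasses.mk_eq_mk_iff_isConj.1 (Quotient.out_eq (ConjClasses.mk x)))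
    refine ⟨fun h => ?_, fun h => hg ▸ stuck_conj hM h g⟩
    have := stuck_conj hM h g⁻¹
    rwa [← hg, inv_inv, show g⁻¹ * (g * (ConjClasses.mk x).out * g⁻¹) * g = (ConjClasses.mk x).out by group] at this
  have hS : ∑ x ∈ univ.filter I, (if Stuck M x then Nat.card {y : G // Commute x y} else 0) =
      Nat.card {C : ConjClasses G // Stuck M C.out} * Nat.card G := by
    haveI := Fintype.ofFinite (ConjClasses G)
    rw [← sum_filter, filter_filter, Nat.card_eq_fintype_card (α := {C : ConjClasses G // Stuck M C.out}),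
      Fintype.card_subtype]
    rw [← sum_fiberwise_of_maps_to (t := univ.filter fun C : ConjClasses G => Stuck M C.out) (g := ConjClasses.mk)
      (fun x hx => by simpa using (hstuck x).1 (mem_filter.1 hx).2.2)]
    rw [sum_const_nat]
    intro C hC
    rw [filter_filter, ← hclass C.out]
    refine sum_congr (filter_congr fun x _ => ⟨fun h => h.2.trans (Quotient.out_eq C).symm, fun h => ?_⟩) fun _ _ => rfl
    have h' : ConjClasses.mk x = C := h.trans (Quotient.out_eq C)
    have hs := (hstuck x).2 (by rw [h']; exact (mem_filter.1 hC).2)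
    exact ⟨⟨hs.1, hs⟩, h'⟩
  have hIO : N I I = N I O + Nat.card {C : ConjClasses G // Stuck M C.out} * Nat.card G := by
    rw [hsum, hsum, ← hS, ← sum_add_distrib]
    exact sum_congr rfl hcent
  have hcard : Nat.card M * 2 = Nat.card G := by rw [← hM]; exact M.card_mul_index
  refine Nat.eq_of_mul_eq_mul_right (show 0 < Nat.card G from Nat.card_pos) ?_
  calc 2 * Nat.card (ConjClasses M) * Nat.card G = 4 * N I I := by rw [hII, ← hcard]; ring
    _ = _ := by rw [add_mul, hall, hOO, hsym, mul_assoc]; omega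

/-- The homomorphism from `ℤˣ` given by an involution. -/
def powHom (z : G) (hz : z * z = 1) : ℤˣ →* G where
  toFun e := if e = 1 then 1 else z
  map_one' := if_pos rfl
  map_mul' a b := by
    rcases Int.units_eq_one_or a with rfl | rfl <;> rcases Int.units_eq_one_or b with rfl | rfl <;> simp [hz]

@[simp] theorem powHom_neg_one (z : G) (hz : z * z = 1) : powHom z hz (-1) = z := by
  simp [powHom]

/-- Classes of a product. -/
theorem card_classes_prod {H : Type v} [Group H] :
    Nat.card (ConjClasses (G × H)) = Nat.card (ConjClasses G) * Nat.card (ConjClasses H) := by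
  rw [← Nat.card_prod]
  refine Nat.card_congr (Equiv.ofBijective
    (fun C => (ConjClasses.map (MonoidHom.fst G H) C, ConjClasses.map (MonoidHom.snd G H) C)) ⟨?_, ?_⟩)
  · intro a b h
    obtain ⟨⟨a₁, a₂⟩, rfl⟩ := ConjClasses.mk_surjective a
    obtain ⟨⟨b₁, b₂⟩, rfl⟩ := ConjClasses.mk_surjective b
    obtain ⟨c, hc⟩ := isConj_iff.1 (ConjClasses.mk_eq_mk_iff_isConj.1 (congrArg Prod.fst h :))
    obtain ⟨d, hd⟩ := isConj_iff.1 (ConjClasses.mk_eq_mk_iff_isConj.1 (congrArg Prod.snd h :))
    exact ConjClasses.mk_eq_mk_iff_isConj.2 (isConj_iff.2 ⟨(c, d), Prod.ext hc hd⟩)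
  · rintro ⟨a, b⟩
    obtain ⟨a, rfl⟩ := ConjClasses.mk_surjective a
    obtain ⟨b, rfl⟩ := ConjClasses.mk_surjective b
    exact ⟨ConjClasses.mk (a, b), rfl⟩

theorem card_classes_units_int : Nat.card (ConjClasses ℤˣ) = 2 := by
  rw [← Nat.card_congr (Equiv.ofBijective _ ConjClasses.mk_bijective), Nat.card_eq_fintype_card,
    Fintype.card_units_int]

end Cfsg.Lib.Linear.ClassSp.IndexTwo
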