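import Cfsg.Agent.Lib.Linear.ClassSp.LowerOrth

/-!
# Isometries with prescribed characteristic polynomial in odd dimension
-/

set_option autoImplicit false

universe u

namespace Cfsg.Lib.Linear.ClassSp

open Polynomial Matrix

variable {F : Type u} [Field F] [Fintype F]

/-- Transport of an isometry to a form of the same discriminant. -/
theorem exists_isoM_charpoly (h2 : (2 : F) ≠ 0) {n : ℕ} {J : GL (Fin n) F} (hJ : J.1ᵀ = J.1) {ι : Type} [Fintype ι]
    [DecidableEq ι] (hcard : Fintype.card ι = n) {J₁ A₁ : Matrix ι ι F} (hJ₁ : J₁ᵀ = J₁) (hJ₁d : J₁.det ≠ 0)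
    (hδ : qchi J₁.det = qchi J.1.det) (hA₁ : A₁ᵀ * J₁ * A₁ = J₁) :
    ∃ g : ↥(isoM J), (g : GL (Fin n) F).1.charpoly = A₁.charpoly := by
  classical
  have hJd : J.1.det ≠ 0 := ((Matrix.isUnit_iff_isUnit_det _).1 J.isUnit).ne_zero
  let e : ι ≃ Fin n := Fintype.equivFinOfCardEq hcard
  set M := Matrix.reindexAlgEquiv F F e J₁ with hM
  have hMT : Mᵀ = M := by rw [hM, Matrix.coe_reindexAlgEquiv, Matrix.transpose_reindex, hJ₁]
  have hMd : M.det = J₁.det := Matrix.det_reindex_self e J₁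
  obtain ⟨C₁, hC₁⟩ := Cfsg.Lib.Linear.AutPSL.GForms.congr_of_det h2 hMT hJ (hMd ▸ hJ₁d) hJd
    (isSquare_mul_of_qchi (hMd ▸ hJ₁d) hJd (by rw [hMd, hδ]))
  set a := Matrix.reindexAlgEquiv F F e A₁ with ha
  have haT : aᵀ * M * a = M := by
    rw [ha, hM, Matrix.coe_reindexAlgEquiv, Matrix.transpose_reindex, ← Matrix.coe_reindexAlgEquiv F F, ← map_mul,
      ← map_mul, hA₁]
  have had : a.det ≠ 0 := fun h => (hMd ▸ hJ₁d) (by rw [← haT, Matrix.det_mul, h, mul_zero])
  set a' : GL (Fin n) F := C₁⁻¹ * GeneralLinearGroup.mkOfDetNeZero a had * C₁ with ha'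
  have hmem : a' ∈ isoM J := by
    rw [mem_isoM, ha', Units.val_mul, Units.val_mul]
    show ((C₁⁻¹).1 * a * C₁.1)ᵀ * J.1 * ((C₁⁻¹).1 * a * C₁.1) = J.1
    rw [← hC₁]
    calc ((C₁⁻¹).1 * a * C₁.1)ᵀ * (C₁.1ᵀ * M * C₁.1) * ((C₁⁻¹).1 * a * C₁.1)
        = C₁.1ᵀ * aᵀ * ((C₁.1 * (C₁⁻¹).1)ᵀ * M * (C₁.1 * (C₁⁻¹).1)) * a * C₁.1 := by
          simp only [Matrix.transpose_mul, mul_assoc]
      _ = C₁.1ᵀ * (aᵀ * M * a) * C₁.1 := by rw [Units.mul_inv, Matrix.transpose_one, one_mul, mul_one]; simp only [mul_assoc]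
      _ = _ := by rw [haT]
  refine ⟨⟨a', hmem⟩, ?_⟩
  show a'.1.charpoly = _
  rw [ha', Units.val_mul, Units.val_mul, Matrix.coe_units_inv, Matrix.charpoly_units_conj']
  show a.charpoly = _
  rw [ha, Matrix.coe_reindexAlgEquiv, Matrix.charpoly_reindex]

/-- The lower bound. -/
theorem two_mul_pow_le {n k : ℕ} (hn : n = 2 * k + 1) (h2 : (2 : F) ≠ 0) {J : GL (Fin n) F} (hJ : J.1ᵀ = J.1) :
    2 * Fintype.card F ^ k ≤ Nat.card (ConjClasses ↥(isoM J)) := by
  classical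
  have hJd : J.1.det ≠ 0 := ((Matrix.isUnit_iff_isUnit_det _).1 J.isUnit).ne_zero
  obtain ⟨ν, hν⟩ := FiniteField.exists_nonsquare (F := F) (fun h => h2 (by
    haveI : CharP F 2 := ringChar.of_eq h
    exact CharTwo.two_eq_zero))
  have hν0 : ν ≠ 0 := fun h => hν (h ▸ IsSquare.zero)
  set P := {Q : F[X] // Q.Monic ∧ Q.natDegree = k}
  have hP : Nat.card P = Fintype.card F ^ k := card_monic
  set sv : Bool → F := fun b => if b then 1 else -1 with hsv
  have hsv1 : ∀ b, sv b * sv b = 1 := fun b => by cases b <;> simp [sv]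
  set K := AlgebraicClosure F
  set φ := algebraMap F K
  have hex : ∀ p : P × Bool, ∃ g : ↥(isoM J), ∀ x y : K, x * y = x ^ 2 + 1 →
      aeval x (g : GL (Fin n) F).1.charpoly = x ^ k * aeval y p.1.1 * (x - φ (sv p.2)) := fun ⟨Q, b⟩ => by
    obtain ⟨δ, hδ, hgood⟩ : ∃ δ : ℤ, (δ = 1 ∨ δ = -1) ∧
        (Q.1.eval 2 * Q.1.eval (-2) = 0 ∨ qchi ((-1) ^ Q.1.natDegree * Q.1.eval 2 * Q.1.eval (-2)) = δ) := by
      by_cases h0 : Q.1.eval 2 * Q.1.eval (-2) = 0
      · exact ⟨1, Or.inl rfl, Or.inl h0⟩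
      · refine ⟨_, qchi_eq_one_or ?_, Or.inr rfl⟩
        rw [mul_assoc]
        exact mul_ne_zero (pow_ne_zero _ (neg_ne_zero.2 one_ne_zero)) h0
    obtain ⟨ι, _, _, J₁, A₁, hcard, hJ₁, hJ₁d, hδ₁, hA₁, hch⟩ := realised h2 Q.1 Q.2.1 δ hδ hgood
    rw [Q.2.2] at hcard hch
    set c : F := if qchi J.1.det = δ then 1 else ν with hc
    have hc0 : c ≠ 0 := by rw [hc]; split_ifs; exacts [one_ne_zero, hν0]
    have hcd : δ * qchi c = qchi J.1.det := by
      rw [hc]
      split_ifs with h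
      · rw [qchi, if_neg one_ne_zero, if_pos IsSquare.one, mul_one, h]
      · rw [qchi, if_neg hν0, if_neg hν]
        rcases qchi_eq_one_or hJd with e | e <;> rw [e] at h ⊢ <;> omega
    obtain ⟨g, hg⟩ := exists_isoM_charpoly h2 hJ (ι := ι ⊕ Fin 1)
      (by rw [Fintype.card_sum, hcard, Fintype.card_fin, hn])
      (J₁ := Matrix.fromBlocks J₁ 0 0 (Matrix.diagonal fun _ => c)) (A₁ := Matrix.fromBlocks A₁ 0 0 (sv b • 1))
      (by simp [Matrix.fromBlocks_transpose, hJ₁])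
      (by rw [Matrix.det_fromBlocks_zero₂₁, Matrix.det_diagonal, Fin.prod_univ_one]; exact mul_ne_zero hJ₁d hc0)
      (by rw [Matrix.det_fromBlocks_zero₂₁, Matrix.det_diagonal, Fin.prod_univ_one, qchi_mul, hδ₁, hcd])
      (by
        rw [Matrix.fromBlocks_transpose, Matrix.fromBlocks_multiply, Matrix.fromBlocks_multiply]
        simp [hA₁, smul_smul, hsv1])
    refine ⟨g, fun x y hxy => ?_⟩
    rw [hg, Matrix.charpoly_fromBlocks_zero₂₁, map_mul, hch x y hxy, Matrix.smul_one_eq_diagonal,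
      Matrix.charpoly_diagonal, Fin.prod_univ_one, map_sub, aeval_X, aeval_C]
  choose g hg using hex
  rw [← hP, show 2 * Nat.card P = Nat.card (P × Bool) by
    rw [Nat.card_prod, Nat.card_eq_fintype_card (α := Bool), Fintype.card_bool, mul_comm]]
  refine Nat.card_le_card_of_injective (fun p => ConjClasses.mk (g p)) fun p r h => ?_
  obtain ⟨c, hc⟩ := isConj_iff.1 (ConjClasses.mk_eq_mk_iff_isConj.1 h)
  have hcp : (g p : GL (Fin n) F).1.charpoly = (g r : GL (Fin n) F).1.charpoly := by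
    rw [← hc, Subgroup.coe_mul, Subgroup.coe_mul, InvMemClass.coe_inv, Units.val_mul, Units.val_mul,
      Matrix.coe_units_inv, Matrix.charpoly_units_conj]
  -- compare the values at `x` and at `x⁻¹`
  have key : ∀ y : K, ∃ x : K, x ≠ 0 ∧ (y ≠ 2 → y ≠ -2 → x ≠ x⁻¹) ∧
      aeval y p.1.1 * (x - φ (sv p.2)) = aeval y r.1.1 * (x - φ (sv r.2)) ∧
      aeval y p.1.1 * (x⁻¹ - φ (sv p.2)) = aeval y r.1.1 * (x⁻¹ - φ (sv r.2)) := fun y => by
    obtain ⟨x, hx⟩ := IsAlgClosed.exists_root (X ^ 2 - Polynomial.C y * X + 1 : K[X]) (by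
      intro h0
      have h3 : (X ^ 2 - Polynomial.C y * X + 1 : K[X]).natDegree = 2 := by compute_degree!
      rw [natDegree_eq_zero_iff_degree_le_zero.2 h0.le] at h3
      exact absurd h3 (by norm_num))
    have hx' : x ^ 2 - y * x + 1 = 0 := by simpa [Polynomial.IsRoot.def] using hx
    have hx0 : x ≠ 0 := fun h => by rw [h] at hx'; simp at hx'
    have hxy : x * y = x ^ 2 + 1 := by linear_combination -hx'
    have hxy' : x⁻¹ * y = x⁻¹ ^ 2 + 1 := by
      have hxi := mul_inv_cancel₀ hx0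
      linear_combination (x⁻¹ * x⁻¹) * hxy - (x⁻¹ * y - x * x⁻¹ - 1) * hxi
    have main : ∀ x : K, x ≠ 0 → x * y = x ^ 2 + 1 →
        aeval y p.1.1 * (x - φ (sv p.2)) = aeval y r.1.1 * (x - φ (sv r.2)) := fun x hx0 hxy =>
      mul_left_cancel₀ (pow_ne_zero k hx0) (by
        rw [← mul_assoc, ← mul_assoc]; exact (hg p x y hxy).symm.trans (hcp ▸ hg r x y hxy))
    refine ⟨x, hx0, fun h21 h22 he => ?_, main x hx0 hxy, main _ (inv_ne_zero hx0) hxy'⟩
    have hsq : x * x = 1 := by nth_rewrite 2 [he]; exact mul_inv_cancel₀ hx0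
    rcases mul_self_eq_one_iff.1 hsq with rfl | rfl
    · exact h21 (by linear_combination hxy)
    · exact h22 (by linear_combination -hxy)
  have hinf : (({2, -2} : Set K)ᶜ).Infinite := (Set.toFinite _).infinite_compl
  have hQ : p.1.1 = r.1.1 := by
    apply Polynomial.map_injective φ (RingHom.injective _)
    refine Polynomial.eq_of_infinite_eval_eq _ _ (hinf.mono fun y hy => ?_)
    simp only [Set.mem_compl_iff, Set.mem_insert_iff, Set.mem_singleton_iff, not_or] at hy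
    obtain ⟨x, -, hne, e1, e2⟩ := key y
    show (p.1.1.map φ).eval y = (r.1.1.map φ).eval y
    rw [eval_map_algebraMap, eval_map_algebraMap]
    exact mul_right_cancel₀ (sub_ne_zero.2 (hne hy.1 hy.2)) (by linear_combination e1 - e2)
  refine Prod.ext (Subtype.ext hQ) ?_
  by_contra hb
  have hne : φ (sv p.2) - φ (sv r.2) ≠ 0 := sub_ne_zero.2 fun e => hb (by
    have e' := φ.injective e
    revert e'
    cases p.2 <;> cases r.2 <;> intro e' <;> first | rfl | (exfalso; simp [sv] at e'; exact h2 (by linear_combination e')) |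
      (exfalso; simp [sv] at e'; exact h2 (by linear_combination -e')))
  refine p.1.2.1.ne_zero (Polynomial.map_injective φ (RingHom.injective _) ?_)
  rw [Polynomial.map_zero]
  refine Polynomial.eq_zero_of_infinite_isRoot _ (Set.infinite_univ.mono fun y _ => ?_)
  obtain ⟨x, -, -, e1, -⟩ := key y
  show (p.1.1.map φ).eval y = 0
  rw [eval_map_algebraMap]
  rw [← hQ] at e1
  exact (mul_eq_zero.1 (show aeval y p.1.1 * (φ (sv p.2) - φ (sv r.2)) = 0 by linear_combination -e1)).resolve_right hne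

end Cfsg.Lib.Linear.ClassSp
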