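import Cfsg.Agent.Lib.Linear.ClassSp.FibreOrth
import Cfsg.Agent.Lib.Linear.AutPSL.GraphForms
import Cfsg.Agent.S2385

/-!
# Isometries with prescribed characteristic polynomial

For a monic `Q` of degree `k` an isometry of a symmetric form in dimension `2 k` has characteristic polynomial
`x ^ k * Q (x + 1 / x)`; the discriminant is arbitrary when `Q` vanishes at `2` or `-2` and is that of
`(-1) ^ k * Q 2 * Q (-2)` otherwise.
-/

set_option autoImplicit false

universe u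

namespace Cfsg.Lib.Linear.ClassSp

open Polynomial Matrix

variable {F : Type u} [Field F]

/-- An isometry of a symmetric form of discriminant `δ` belonging to `Q`. -/
def Realised (Q : F[X]) (δ : ℤ) : Prop :=
  ∃ (ι : Type) (_ : Fintype ι) (_ : DecidableEq ι) (J A : Matrix ι ι F), Fintype.card ι = 2 * Q.natDegree ∧
    Jᵀ = J ∧ J.det ≠ 0 ∧ qchi J.det = δ ∧ Aᵀ * J * A = J ∧
    ∀ x y : AlgebraicClosure F, x * y = x ^ 2 + 1 → aeval x A.charpoly = x ^ Q.natDegree * aeval y Q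

theorem aeval_charpoly {ι : Type} [Fintype ι] [DecidableEq ι] (A : Matrix ι ι F) (x : AlgebraicClosure F) :
    aeval x A.charpoly = (Matrix.scalar ι x - A.map (algebraMap F (AlgebraicClosure F))).det := by
  rw [← eval_map_algebraMap, ← Matrix.charpoly_map, Matrix.eval_charpoly]

theorem realised_block {k : ℕ} (Q : F[X]) (hQ : Q.Monic) (hk : Q.natDegree = k) (h2 : (2 : F) ≠ 0)
    (hne : Q.eval 2 * Q.eval (-2) ≠ 0) : ∃ δ, δ = qchi ((-1) ^ k * Q.eval 2 * Q.eval (-2)) ∧ ∀ [Finite F], Realised Q δ := by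
  refine ⟨_, rfl, ?_⟩
  intro _
  classical
  obtain ⟨C₀, S, hC, hS, hSd, hSC⟩ := Cfsg.Agent.S2385.exists_sym Q hQ hk
  have hR : (S * C₀)ᵀ = S * C₀ := by rw [Matrix.transpose_mul, hS, ← hSC]
  set J : Matrix (Fin k ⊕ Fin k) (Fin k ⊕ Fin k) F := Matrix.fromBlocks (S + S) (S * C₀) (S * C₀) (S + S) with hJdef
  set A : Matrix (Fin k ⊕ Fin k) (Fin k ⊕ Fin k) F := Matrix.fromBlocks 0 (-1) 1 C₀ with hAdef
  have hdet : J.det = S.det ^ 2 * ((-1) ^ k * Q.eval 2 * Q.eval (-2)) := by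
    have h1 : Matrix.fromBlocks 1 0 (-1) 1 * J * Matrix.fromBlocks 1 0 1 1 =
        Matrix.fromBlocks (S + S + S * C₀) (S * C₀) 0 (S + S - S * C₀) := by
      rw [hJdef, Matrix.fromBlocks_multiply, Matrix.fromBlocks_multiply]
      simp
      abel_nf
    have h3 := congrArg Matrix.det h1
    rw [Matrix.det_mul, Matrix.det_mul, Matrix.det_fromBlocks_zero₁₂, Matrix.det_fromBlocks_zero₁₂,
      Matrix.det_fromBlocks_zero₂₁, Matrix.det_one, one_mul, one_mul, mul_one] at h3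
    have e1 : S + S + S * C₀ = S * (-(Matrix.scalar (Fin k) (-2 : F) - C₀)) := by
      rw [neg_sub, mul_sub, map_neg, Matrix.scalar_apply, ← Matrix.smul_one_eq_diagonal, mul_neg, Matrix.mul_smul,
        mul_one, two_smul, sub_neg_eq_add]
      abel
    have e2 : S + S - S * C₀ = S * (Matrix.scalar (Fin k) (2 : F) - C₀) := by
      rw [mul_sub, Matrix.scalar_apply, ← Matrix.smul_one_eq_diagonal, Matrix.mul_smul, mul_one, two_smul]
    rw [h3, e1, e2, Matrix.det_mul, Matrix.det_mul, Matrix.det_neg, ← Matrix.eval_charpoly, ← Matrix.eval_charpoly,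
      hC, Fintype.card_fin]
    ring
  have hJ0 : J.det ≠ 0 := by
    rw [hdet, mul_assoc ((-1 : F) ^ k)]
    exact mul_ne_zero (pow_ne_zero 2 (isUnit_iff_ne_zero.1 hSd)) (mul_ne_zero (pow_ne_zero _ (neg_ne_zero.2 one_ne_zero)) hne)
  refine ⟨Fin k ⊕ Fin k, inferInstance, inferInstance, J, A, by simp [hk]; omega, ?_, hJ0, ?_, ?_, ?_⟩
  · rw [hJdef, Matrix.fromBlocks_transpose, hR, Matrix.transpose_add, hS]
  · rw [hdet, qchi_mul, pow_two, qchi_sq (isUnit_iff_ne_zero.1 hSd), one_mul]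
  · have h4 : C₀ᵀ * (S * C₀) = S * C₀ * C₀ := by rw [← mul_assoc, ← hSC]
    rw [hAdef, hJdef, Matrix.fromBlocks_transpose, Matrix.fromBlocks_multiply, Matrix.fromBlocks_multiply]
    congr 1 <;> simp [mul_add, add_mul, ← hSC, h4] <;> abel
  · intro x y hxy
    have hx : x ≠ 0 := fun h => by rw [h] at hxy; simp at hxy
    rw [hk, aeval_charpoly, hAdef, Matrix.fromBlocks_map]
    set φ := algebraMap F (AlgebraicClosure F)
    set C' : Matrix (Fin k) (Fin k) (AlgebraicClosure F) := C₀.map φ with hC'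
    have hb : Matrix.scalar (Fin k ⊕ Fin k) x - Matrix.fromBlocks ((0 : Matrix (Fin k) (Fin k) F).map φ)
        ((-1 : Matrix (Fin k) (Fin k) F).map φ) ((1 : Matrix (Fin k) (Fin k) F).map φ) C' =
        Matrix.fromBlocks (Matrix.scalar (Fin k) x) 1 (-1) (Matrix.scalar (Fin k) x - C') := by
      ext i j
      rcases i with i | i <;> rcases j with j | j <;>
        simp [Matrix.scalar_apply, Matrix.diagonal, Matrix.one_apply, φ] <;> split_ifs <;> simp
    rw [hb]
    letI : Invertible (Matrix.scalar (Fin k) x) :=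
      { invOf := Matrix.scalar (Fin k) x⁻¹
        invOf_mul_self := by rw [← map_mul, inv_mul_cancel₀ hx, map_one]
        mul_invOf_self := by rw [← map_mul, mul_inv_cancel₀ hx, map_one] }
    rw [Matrix.det_fromBlocks₁₁, show (⅟(Matrix.scalar (Fin k) x)) = Matrix.scalar (Fin k) x⁻¹ from rfl, neg_mul,
      one_mul, mul_one, sub_neg_eq_add, ← add_sub_right_comm, ← map_add,
      show x + x⁻¹ = y by field_simp; linear_combination -hxy, Matrix.scalar_apply, Matrix.det_diagonal,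
      Finset.prod_const, Finset.card_univ, Fintype.card_fin, ← Matrix.eval_charpoly, hC',
      Matrix.charpoly_map, hC, eval_map_algebraMap]

variable [Finite F]

theorem realised_step (h2 : (2 : F) ≠ 0) {Q₁ : F[X]} (hQ₁ : Q₁.Monic) {δ₁ : ℤ} (h : Realised Q₁ δ₁) {s : F}
    (hs : s * s = 1) {δ : ℤ} (hδ : δ = 1 ∨ δ = -1) : Realised ((X - Polynomial.C (2 * s)) * Q₁) δ := by
  classical
  obtain ⟨ι, _, _, J, A, hcard, hJ, hJd, hδ₁, hA, hchar⟩ := h
  haveI := Fintype.ofFinite F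
  obtain ⟨ν, hν⟩ := FiniteField.exists_nonsquare (F := F) (fun h => h2 (by
    haveI : CharP F 2 := ringChar.of_eq h
    exact CharTwo.two_eq_zero))
  have hν0 : ν ≠ 0 := fun h => hν (h ▸ IsSquare.zero)
  have h1 : δ₁ = 1 ∨ δ₁ = -1 := hδ₁ ▸ qchi_eq_one_or hJd
  set c : F := if δ = δ₁ then 1 else ν with hc
  have hc0 : c ≠ 0 := by rw [hc]; split_ifs; exacts [one_ne_zero, hν0]
  have hcd : δ₁ * qchi c = δ := by
    rw [hc]
    split_ifs with h
    · rw [qchi, if_neg one_ne_zero, if_pos IsSquare.one, mul_one, h]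
    · rw [qchi, if_neg hν0, if_neg hν]; omega
  have hdeg : ((X - Polynomial.C (2 * s)) * Q₁).natDegree = Q₁.natDegree + 1 := by
    rw [(monic_X_sub_C _).natDegree_mul hQ₁, natDegree_X_sub_C, add_comm]
  refine ⟨ι ⊕ Fin 2, inferInstance, inferInstance, Matrix.fromBlocks J 0 0 (Matrix.diagonal ![1, c]),
    Matrix.fromBlocks A 0 0 (s • 1), by rw [Fintype.card_sum, hcard, Fintype.card_fin, hdeg, mul_add, mul_one], ?_, ?_, ?_, ?_, ?_⟩
  · simp [Matrix.fromBlocks_transpose, hJ]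
  · rw [Matrix.det_fromBlocks_zero₂₁, Matrix.det_diagonal, Fin.prod_univ_two]
    simp [hJd, hc0]
  · rw [Matrix.det_fromBlocks_zero₂₁, Matrix.det_diagonal, Fin.prod_univ_two, qchi_mul, hδ₁]
    simpa using hcd
  · rw [Matrix.fromBlocks_transpose, Matrix.fromBlocks_multiply, Matrix.fromBlocks_multiply]
    simp [hA, smul_smul, hs]
  · intro x y hxy
    rw [Matrix.charpoly_fromBlocks_zero₂₁, map_mul, hchar x y hxy, hdeg, map_mul, map_sub, aeval_X, aeval_C,
      show ((s • 1 : Matrix (Fin 2) (Fin 2) F)).charpoly = (X - Polynomial.C s) ^ 2 by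
        rw [Matrix.smul_one_eq_diagonal, Matrix.charpoly_diagonal, Finset.prod_const, Finset.card_univ, Fintype.card_fin],
      map_pow, map_sub, aeval_X, aeval_C, map_mul, map_ofNat, pow_succ x Q₁.natDegree]
    have hs' : algebraMap F (AlgebraicClosure F) s * algebraMap F (AlgebraicClosure F) s = 1 := by
      rw [← map_mul, hs, map_one]
    linear_combination (x ^ Q₁.natDegree * aeval y Q₁) * hs' - (x ^ Q₁.natDegree * aeval y Q₁) * hxy

theorem realised (h2 : (2 : F) ≠ 0) (Q : F[X]) (hQ : Q.Monic) (δ : ℤ) (hδ : δ = 1 ∨ δ = -1)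
    (h : Q.eval 2 * Q.eval (-2) = 0 ∨ qchi ((-1) ^ Q.natDegree * Q.eval 2 * Q.eval (-2)) = δ) : Realised Q δ := by
  induction hn : Q.natDegree using Nat.strong_induction_on generalizing Q δ with
  | _ n ih =>
    by_cases h0 : Q.eval 2 * Q.eval (-2) = 0
    · obtain ⟨s, hs, hroot⟩ : ∃ s : F, s * s = 1 ∧ Q.IsRoot (2 * s) := by
        rcases mul_eq_zero.1 h0 with h1 | h1
        · exact ⟨1, one_mul 1, by rw [mul_one]; exact h1⟩
        · exact ⟨-1, by ring, by rw [mul_neg, mul_one]; exact h1⟩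
      obtain ⟨Q₁, rfl⟩ := dvd_iff_isRoot.2 hroot
      have hQ₁ : Q₁.Monic := (monic_X_sub_C _).of_mul_monic_left hQ
      have hlt : Q₁.natDegree < n := by
        rw [← hn, (monic_X_sub_C _).natDegree_mul hQ₁, natDegree_X_sub_C]; omega
      obtain ⟨δ₁, hδ₁, h1⟩ : ∃ δ₁ : ℤ, (δ₁ = 1 ∨ δ₁ = -1) ∧
          (Q₁.eval 2 * Q₁.eval (-2) = 0 ∨ qchi ((-1) ^ Q₁.natDegree * Q₁.eval 2 * Q₁.eval (-2)) = δ₁) := by
        by_cases h2 : Q₁.eval 2 * Q₁.eval (-2) = 0
        · exact ⟨1, Or.inl rfl, Or.inl h2⟩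
        · refine ⟨_, qchi_eq_one_or ?_, Or.inr rfl⟩
          rw [mul_assoc]
          exact mul_ne_zero (pow_ne_zero _ (neg_ne_zero.2 one_ne_zero)) h2
      exact realised_step h2 hQ₁ (ih _ hlt Q₁ hQ₁ δ₁ hδ₁ h1 rfl) hs hδ
    · obtain ⟨δ', hδ', hR⟩ := realised_block Q hQ rfl h2 h0
      rw [← h.resolve_left h0, ← hδ']
      exact hR

variable [Fintype F]

omit [Finite F] in
theorem card_monic {k : ℕ} : Nat.card {Q : F[X] // Q.Monic ∧ Q.natDegree = k} = Fintype.card F ^ k := by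
  rw [Nat.card_congr ((monicEquivDegreeLT k).trans (degreeLTEquiv F k).toEquiv), Nat.card_fun, Nat.card_fin,
    Nat.card_eq_fintype_card]

/-- The lower bound. -/
theorem card_pow_le {n k : ℕ} (hn : n = 2 * k) (hk : 2 ≤ k) (h2 : (2 : F) ≠ 0) {J : GL (Fin n) F} (hJ : J.1ᵀ = J.1) :
    Fintype.card F ^ k ≤ 2 * Nat.card (ConjClasses ↥(isoM J)) := by
  classical
  have hJd : J.1.det ≠ 0 := ((Matrix.isUnit_iff_isUnit_det _).1 J.isUnit).ne_zero
  set P := {Q : F[X] // Q.Monic ∧ Q.natDegree = k}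
  have hP : Nat.card P = Fintype.card F ^ k := card_monic
  haveI : Finite P := Nat.finite_of_card_ne_zero (by rw [hP]; exact pow_ne_zero _ Fintype.card_pos.ne')
  set good : P → Prop := fun Q => Q.1.eval 2 * Q.1.eval (-2) = 0 ∨
    qchi ((-1) ^ k * Q.1.eval 2 * Q.1.eval (-2)) = qchi J.1.det with hgood
  -- half of the polynomials are good
  have hhalf : Fintype.card F ^ k ≤ 2 * Nat.card {Q : P // good Q} := by
    obtain ⟨ν, hν⟩ := FiniteField.exists_nonsquare (F := F) (fun h => h2 (by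
      haveI : CharP F 2 := ringChar.of_eq h
      exact CharTwo.two_eq_zero))
    have hν0 : ν ≠ 0 := fun h => hν (h ▸ IsSquare.zero)
    have h4 : (4 : F) ≠ 0 := by rw [show (4 : F) = 2 * 2 by norm_num]; exact mul_ne_zero h2 h2
    have hdeg : ∀ Q : P, (Q.1 + Polynomial.C ((ν - 1) * Q.1.eval 2 / 4) * (X + Polynomial.C 2)).Monic ∧
        (Q.1 + Polynomial.C ((ν - 1) * Q.1.eval 2 / 4) * (X + Polynomial.C 2)).natDegree = k := fun Q => by
      have hlt : (Polynomial.C ((ν - 1) * Q.1.eval 2 / 4) * (X + Polynomial.C 2)).degree < Q.1.degree := by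
        rw [degree_eq_natDegree Q.2.1.ne_zero, Q.2.2]
        refine lt_of_le_of_lt ((degree_mul_le _ _).trans (add_le_add degree_C_le (degree_X_add_C (2 : F)).le)) ?_
        rw [zero_add]
        exact_mod_cast (by omega : 1 < k)
      exact ⟨Q.2.1.add_of_left hlt, by rw [natDegree_eq_of_degree_eq (degree_add_eq_left_of_degree_lt hlt), Q.2.2]⟩
    let φ : P → P := fun Q => ⟨_, hdeg Q⟩
    have he2 : ∀ Q, (φ Q).1.eval 2 = ν * Q.1.eval 2 := fun Q => by
      simp only [φ, eval_add, eval_mul, eval_C, eval_X]; field_simp; ring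
    have hem : ∀ Q, (φ Q).1.eval (-2) = Q.1.eval (-2) := fun Q => by
      simp [φ]
    have hφ : Function.Injective φ := fun Q R h => by
      have h5 : Q.1.eval 2 = R.1.eval 2 := mul_left_cancel₀ hν0 (by rw [← he2, ← he2, h])
      have h6 := congrArg Subtype.val h
      simp only [φ, h5, add_left_inj] at h6
      exact Subtype.ext h6
    have hflip : ∀ Q, ¬ good Q → good (φ Q) := fun Q hQ => by
      simp only [hgood, not_or] at hQ ⊢
      refine Or.inr ?_
      rw [he2, hem, show (-1 : F) ^ k * (ν * Q.1.eval 2) * Q.1.eval (-2) = ν * ((-1) ^ k * Q.1.eval 2 * Q.1.eval (-2)) by ring,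
        qchi_mul, qchi, if_neg hν0, if_neg hν]
      have h7 : (-1 : F) ^ k * Q.1.eval 2 * Q.1.eval (-2) ≠ 0 := by
        rw [mul_assoc]; exact mul_ne_zero (pow_ne_zero _ (neg_ne_zero.2 one_ne_zero)) hQ.1
      rcases qchi_eq_one_or h7 with e | e <;> rcases qchi_eq_one_or hJd with e' | e' <;>
        rw [e, e'] at hQ <;> rw [e, e'] <;> omega
    have h8 := Nat.card_le_card_of_injective (fun Q : {Q : P // ¬ good Q} => (⟨φ Q.1, hflip _ Q.2⟩ : {Q : P // good Q}))
      fun Q R h => Subtype.ext (hφ (congrArg Subtype.val h))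
    rw [← hP, ← Nat.card_congr (Equiv.sumCompl good), Nat.card_sum]
    omega
  refine hhalf.trans (Nat.mul_le_mul_left 2 ?_)
  have hex : ∀ Q : {Q : P // good Q}, ∃ g : ↥(isoM J), ∀ x y : AlgebraicClosure F, x * y = x ^ 2 + 1 →
      aeval x (g : GL (Fin n) F).1.charpoly = x ^ k * aeval y Q.1.1 := fun Q => by
    obtain ⟨ι, _, _, J₁, A₁, hcard, hJ₁, hJ₁d, hδ₁, hA₁, hch⟩ :=
      realised h2 Q.1.1 Q.1.2.1 (qchi J.1.det) (qchi_eq_one_or hJd) (by rw [Q.1.2.2]; exact Q.2)
    rw [Q.1.2.2] at hcard hch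
    let e : ι ≃ Fin n := Fintype.equivFinOfCardEq (hcard.trans hn.symm)
    set M := Matrix.reindexAlgEquiv F F e J₁ with hM
    have hMT : Mᵀ = M := by rw [hM, Matrix.coe_reindexAlgEquiv, Matrix.transpose_reindex, hJ₁]
    have hMd : M.det = J₁.det := Matrix.det_reindex_self e J₁
    obtain ⟨C₁, hC₁⟩ := Cfsg.Lib.Linear.AutPSL.GForms.congr_of_det h2 hMT hJ (hMd ▸ hJ₁d) hJd
      (isSquare_mul_of_qchi (hMd ▸ hJ₁d) hJd (by rw [hMd, hδ₁]))
    set a := Matrix.reindexAlgEquiv F F e A₁ with ha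
    have haT : aᵀ * M * a = M := by
      rw [ha, hM, Matrix.coe_reindexAlgEquiv, Matrix.transpose_reindex, ← Matrix.coe_reindexAlgEquiv F F, ← map_mul,
        ← map_mul, hA₁]
    have had : a.det ≠ 0 := fun h => (hMd ▸ hJ₁d) (by rw [← haT, Matrix.det_mul, h, mul_zero])
    set a' : GL (Fin n) F := C₁⁻¹ * GeneralLinearGroup.mkOfDetNeZero a had * C₁ with ha'
    have hmem : a' ∈ isoM J := by
      rw [mem_isoM, ha', Units.val_mul, Units.val_mul]
      show ((C₁⁻¹).1 * a * C₁.1)ᵀ * J.1 * ((C₁⁻¹).1 * a * C₁.1) = J.1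
      rw [← hC₁]
      calc ((C₁⁻¹).1 * a * C₁.1)ᵀ * (C₁.1ᵀ * M * C₁.1) * ((C₁⁻¹).1 * a * C₁.1)
          = C₁.1ᵀ * aᵀ * ((C₁.1 * (C₁⁻¹).1)ᵀ * M * (C₁.1 * (C₁⁻¹).1)) * a * C₁.1 := by
            simp only [Matrix.transpose_mul, mul_assoc]
        _ = C₁.1ᵀ * (aᵀ * M * a) * C₁.1 := by rw [Units.mul_inv, Matrix.transpose_one, one_mul, mul_one]; simp only [mul_assoc]
        _ = _ := by rw [haT]
    refine ⟨⟨a', hmem⟩, fun x y hxy => ?_⟩
    show aeval x a'.1.charpoly = _
    rw [ha', Units.val_mul, Units.val_mul, Matrix.coe_units_inv, Matrix.charpoly_units_conj']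
    show aeval x a.charpoly = _
    rw [ha, Matrix.coe_reindexAlgEquiv, Matrix.charpoly_reindex, hch x y hxy]
  choose g hg using hex
  refine Nat.card_le_card_of_injective (fun Q => ConjClasses.mk (g Q)) fun Q R h => ?_
  obtain ⟨c, hc⟩ := isConj_iff.1 (ConjClasses.mk_eq_mk_iff_isConj.1 h)
  have hcp : (g Q : GL (Fin n) F).1.charpoly = (g R : GL (Fin n) F).1.charpoly := by
    rw [← hc, Subgroup.coe_mul, Subgroup.coe_mul, InvMemClass.coe_inv, Units.val_mul, Units.val_mul,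
      Matrix.coe_units_inv, Matrix.charpoly_units_conj]
  refine Subtype.ext (Subtype.ext ?_)
  apply Polynomial.map_injective (algebraMap F (AlgebraicClosure F)) (RingHom.injective _)
  refine Polynomial.funext fun y => ?_
  obtain ⟨x, hx⟩ := IsAlgClosed.exists_root (X ^ 2 - Polynomial.C y * X + 1 : (AlgebraicClosure F)[X]) (by
    intro h0
    have h3 : (X ^ 2 - Polynomial.C y * X + 1 : (AlgebraicClosure F)[X]).natDegree = 2 := by compute_degree!
    rw [natDegree_eq_zero_iff_degree_le_zero.2 h0.le] at h3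
    exact absurd h3 (by norm_num))
  have hx' : x ^ 2 - y * x + 1 = 0 := by simpa [Polynomial.IsRoot.def] using hx
  have hx0 : x ≠ 0 := fun h => by rw [h] at hx'; simp at hx'
  have hxy : x * y = x ^ 2 + 1 := by linear_combination -hx'
  rw [Polynomial.eval_map_algebraMap, Polynomial.eval_map_algebraMap]
  exact mul_left_cancel₀ (pow_ne_zero k hx0) ((hg Q x y hxy).symm.trans (hcp ▸ hg R x y hxy))

end Cfsg.Lib.Linear.ClassSp
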