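import Cfsg.Agent.Lib.Linear.ClassSp.Orbits

/-!
# The bound on congruence classes of invariant forms
-/

set_option autoImplicit false
set_option maxHeartbeats 1000000

universe u

namespace Cfsg.Lib.Linear.ClassSp

open Polynomial Cfsg.Lib

variable {F : Type u} [Field F]
variable {V : Type u} [AddCommGroup V] [Module F V]
variable {N : ℕ} {ε : F} {g : Module.End F V} {B : LinearMap.BilinForm F V}

theorem top_pull {p : F[X]} {e : ℕ} {v : V} (hv : aeval g (p ^ e) v = 0) (B' : LinearMap.BilinForm F V) :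
    top (mulRoot (p ^ e)) (B'.compl₁₂ (cyc g _ v hv) (cyc g _ v hv)) p e 1 1 1 = top g B' p e 1 v v := by
  simp only [top, LinearMap.compl₁₂_apply]
  rw [aeval_equiv (cyc g _ v hv) (cyc_root g _ v hv), ← map_one (AdjoinRoot.mk (p ^ e)), cyc_mk, map_one (aeval g),
    Module.End.one_apply]

variable [FiniteDimensional F V]

theorem mult_layer {s : F} {e : ℕ} (hst : ∀ x, aeval g ((X - C s) ^ (e + 1)) x = 0 → aeval g ((X - C s) ^ e) x = 0) :
    mult g s e = (rk g ((X - C s) ^ (e - 1)) : ℤ) - rk g ((X - C s) ^ e) := by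
  rw [mult, rk_of_stable hst]
  ring

/-- With two copies there is a vector of value one. -/
theorem exists_vector_one [Finite F] (h2 : (2 : F) ≠ 0) (hεε : ε * ε = 1) (hN : 1 ≤ N) (hg : g ^ N = 1)
    (hB : IForm ε g B) {s : F} (hs : s * s = 1) {e : ℕ} (he : 1 ≤ e) (hsym : ε * (-1) ^ (e - 1) = 1)
    (hst : ∀ x, aeval g ((X - C s) ^ (e + 1)) x = 0 → aeval g ((X - C s) ^ e) x = 0)
    (hne : ∃ v, aeval g ((X - C s) ^ e) v = 0 ∧ aeval g ((X - C s) ^ (e - 1)) v ≠ 0)
    (hpN : X - C s ∣ X ^ N - 1) (hm : 2 ≤ mult g s e) :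
    ∃ v, aeval g ((X - C s) ^ e) v = 0 ∧ top g B (X - C s) e 1 v v = 1 := by
  classical
  haveI := Fintype.ofFinite F
  have hε : ε ≠ 0 := left_ne_zero_of_mul_eq_one hεε
  obtain ⟨v₁, hv₁, ht₁⟩ := exists_vector_sign h2 hN hg hB hs he hsym hst hne hpN
  haveI := ((monic_X_sub_C s).pow e).finite_adjoinRoot
  obtain ⟨hG, hβ, U, g₀, B₀, hg₀, hB₀, θ, hθ, hθB⟩ := exists_split hε hN hg hB (mulRoot ((X - C s) ^ e))
    (cyc g _ v₁ hv₁) (cyc_root g _ v₁ hv₁) (cyc_sep hN hg hB (irreducible_X_sub_C s) hv₁ ⟨1, ht₁⟩)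
  have hrk : ∀ h, rk g h = rk (mulRoot ((X - C s) ^ e)) h + rk g₀ h := fun h => by rw [rk_equiv θ hθ, rk_prod]
  have hm₀ : mult g₀ s e = mult g s e - 1 := by
    rw [mult_equiv θ hθ, mult_prod, mult_mulRoot (irreducible_X_sub_C s) (monic_X_sub_C s) s he he, if_pos ⟨rfl, rfl⟩]
    ring
  have hst₀ : ∀ x, aeval g₀ ((X - C s) ^ (e + 1)) x = 0 → aeval g₀ ((X - C s) ^ e) x = 0 := stable_of_rk (by
    have h1 := rk_of_stable hst
    rw [hrk, hrk, rk_mulRoot, rk_mulRoot, ClassTuples.finrank_range_same _ (monic_X_sub_C s),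
      ClassTuples.finrank_range_same _ (monic_X_sub_C s), natDegree_X_sub_C] at h1
    omega)
  have hne₀ := exists_of_rk_lt (g := g₀) (p := X - C s) he (by
    have := mult_layer hst₀
    omega)
  obtain ⟨v₂, hv₂, ht₂⟩ := exists_vector_sign h2 hN hg₀ hB₀ hs he hsym hst₀ hne₀ hpN
  set t₁ := top g B (X - C s) e 1 v₁ v₁
  set t₂ := top g₀ B₀ (X - C s) e 1 v₂ v₂
  have hodd : Fintype.card F % 2 = 1 := FiniteField.odd_card_of_char_ne_two fun h => h2 (by
    haveI : CharP F 2 := ringChar.of_eq h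
    exact CharTwo.two_eq_zero)
  obtain ⟨a, b, hab⟩ := FiniteField.exists_root_sum_quadratic (f := C t₁ * X ^ 2) (g := C t₂ * X ^ 2 - 1)
    (degree_C_mul_X_pow 2 ht₁) (by
      rw [degree_sub_eq_left_of_degree_lt (by rw [degree_C_mul_X_pow 2 ht₂, degree_one]; exact_mod_cast Nat.zero_lt_two),
        degree_C_mul_X_pow 2 ht₂]
      rfl) hodd
  simp only [eval_mul, eval_C, eval_pow, eval_X, eval_sub, eval_one] at hab
  set z : AdjoinRoot ((X - C s) ^ e) × U := (a • 1, b • v₂) with hz
  refine ⟨θ.symm z, θ.injective ?_, ?_⟩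
  · rw [← LinearEquiv.coe_coe, aeval_equiv θ.toLinearMap hθ, LinearEquiv.coe_coe, θ.apply_symm_apply, map_zero,
      aeval_prodMap, hz,
      aeval_mulRoot, AdjoinRoot.mk_self, zero_mul, map_smul, hv₂, smul_zero]
    rfl
  · have h0 : top g B (X - C s) e 1 (θ.symm z) (θ.symm z) =
        top ((mulRoot ((X - C s) ^ e)).prodMap g₀) (prodB (B.compl₁₂ (cyc g _ v₁ hv₁) (cyc g _ v₁ hv₁)) B₀)
          (X - C s) e 1 z z := by
      rw [top, top, ← hθB, ← LinearEquiv.coe_coe, aeval_equiv θ.toLinearMap hθ, LinearEquiv.coe_coe,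
        θ.apply_symm_apply]
    rw [h0, top, aeval_prodMap, prodB_apply, hz]
    simp only [map_smul, LinearMap.smul_apply, smul_eq_mul]
    have e1 : (B.compl₁₂ (cyc g _ v₁ hv₁) (cyc g _ v₁ hv₁))
        (aeval (mulRoot ((X - C s) ^ e)) (1 * (X - C s) ^ (e - 1)) 1) 1 = t₁ := top_pull hv₁ B
    rw [e1, show B₀ (aeval g₀ (1 * (X - C s) ^ (e - 1)) v₂) v₂ = t₂ from rfl]
    linear_combination hab

/-- The bound. -/
theorem bound [Finite F] (h2 : (2 : F) ≠ 0) (hεε : ε * ε = 1) (hN : 1 ≤ N) (D : ℕ) :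
    ∀ (n : ℕ) (V : Type u) [AddCommGroup V] [Module F V] [FiniteDimensional F V] (g : Module.End F V),
      Module.finrank F V = n → n ≤ D → g ^ N = 1 → Bound ε N D g := by
  classical
  have hε : ε ≠ 0 := left_ne_zero_of_mul_eq_one hεε
  intro n
  induction n using Nat.strong_induction_on with
  | _ n ih =>
    intro V _ _ _ g hn hnD hg
    by_cases hex : ∃ B, IForm ε g B
    swap
    · exact ⟨fun h => absurd h hex, 0, Nat.zero_le _, Fin.elim0, fun B hB => absurd ⟨B, hB⟩ hex,
        fun _ d _ => by rw [Nat.card_of_isEmpty]; exact Nat.zero_le _⟩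
    obtain ⟨B, hB⟩ := hex
    rcases subsingleton_or_nontrivial V with hV | hV
    · refine ⟨fun _ s _ e _ _ => ?_, 1, Nat.one_le_pow _ _ two_pos, fun _ => B, fun B' _ =>
        ⟨0, LinearEquiv.refl F V, fun _ => rfl, fun x y => by simp [Subsingleton.elim x 0]⟩,
        halfDisc_le_one _ le_rfl (Finset.eq_empty_of_forall_notMem fun se hse => ?_)⟩
      · simp [mult, rk, Module.finrank_zero_of_subsingleton]
      · have := (mem_types.1 hse).2.2.2
        simp [mult, rk, Module.finrank_zero_of_subsingleton] at this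
    obtain ⟨p, e, hpm, hp, hpN, he, hen, hst, hne⟩ := exists_layer hN hg (V := V)
    obtain ⟨v₀, hv₀, hv₁⟩ := id hne
    have IH : ∀ (U : Submodule F V) (g₀ : Module.End F U), g₀ ^ N = 1 → Module.finrank F U < Module.finrank F V →
        Bound ε N D g₀ := fun U g₀ hg₀ hlt => ih _ (by omega) U g₀ rfl (by omega) hg₀
    haveI := (hpm.pow e).finite_adjoinRoot
    have hpos : ∀ {f : F[X]}, f.Monic → Irreducible f → 0 < Module.finrank F (AdjoinRoot (f ^ e)) := fun {f} hf hfi => by
      rw [(AdjoinRoot.powerBasis' (hf.pow e)).finrank, AdjoinRoot.powerBasis'_dim, natDegree_pow]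
      exact Nat.mul_pos (by omega) hfi.natDegree_pos
    by_cases hself : p ∣ bar N p
    swap
    · -- two exchanged components
      obtain ⟨q, hqm, hq, hqp, hpq⟩ := exists_partner_poly hpm hp hN hpN
      have hco : ¬ p ∣ q := fun hd => hself ((eq_of_monic_of_associated hpm hqm (hp.associated_of_dvd hq hd)).symm ▸ hqp)
      have hnq : ¬ q ∣ bar N q := fun hd => by
        obtain ⟨a, b, hab⟩ := hp.coprime_iff_not_dvd.2 hco
        refine hq.not_isUnit (isUnit_of_dvd_one ?_)
        rw [← show bar N (1 : F[X]) = 1 from one_comp, ← hab, show bar N (a * p + b * q) = bar N a * bar N p + bar N b * bar N q by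
          simp [bar, add_comp, mul_comp]]
        exact dvd_add (hpq.mul_left _) (hd.mul_left _)
      have hnsign : ∀ s : F, s * s = 1 → p ≠ X - C s ∧ q ≠ X - C s := fun s hs => ⟨fun h => by
          subst h; exact hself (self_dual_sign hs hN hpN), fun h => by
        subst h
        have h1 : p ∣ (1 : F[X]) - C s * X := by
          have h3 := dvd_sub (hqp.mul_left X) hpN
          rwa [bar, sub_comp, X_comp, C_comp, mul_sub, ← pow_succ', Nat.sub_add_cancel hN,
            show X ^ N - X * C s - (X ^ N - 1) = (1 : F[X]) - C s * X by ring] at h3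
        refine hco ?_
        have h3 := h1.mul_left (-C s)
        rwa [show -C s * (1 - C s * X) = C s * C s * X - C s by ring, ← map_mul C, hs, map_one, one_mul] at h3⟩
      haveI := (hqm.pow e).finite_adjoinRoot
      have hfind : ∀ B', IForm ε g B' → ∃ Φ : AdjoinRoot (p ^ e) × AdjoinRoot (q ^ e) →ₗ[F] V,
          (∀ x, Φ ((mulRoot (p ^ e)).prodMap (mulRoot (q ^ e)) x) = g (Φ x)) ∧
          ∀ x, (∀ y, B' (Φ x) (Φ y) = 0) → x = 0 := fun B' hB' => by
        obtain ⟨w, hw, htop⟩ := (exists_partner hN hg hB' he hst hqp hpq).2 v₀ hv₀ hv₁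
        exact ⟨(cyc g _ v₀ hv₀).coprod (cyc g _ w hw), fun x => by
            simp [LinearMap.coprod_apply, cyc_root, map_add],
          pair_sep_ne hN hg hB' hε hp hq hco hpq hv₀ hw ⟨1, htop⟩⟩
      obtain ⟨Φ₀, hΦ₀, hsep₀⟩ := hfind B hB
      obtain ⟨hG, hβ₀, -⟩ := exists_split hε hN hg hB _ Φ₀ hΦ₀ hsep₀
      have hmG : ∀ s : F, s * s = 1 → ∀ k, 1 ≤ k → mult ((mulRoot (p ^ e)).prodMap (mulRoot (q ^ e))) s k = 0 :=
        fun s hs k hk => by
          rw [mult_prod, mult_mulRoot hp hpm s he hk, mult_mulRoot hq hqm s he hk,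
            if_neg (fun h => (hnsign s hs).1 h.1), if_neg (fun h => (hnsign s hs).2 h.1), add_zero]
      refine bound_step hε hN hg hB ((mulRoot (p ^ e)).prodMap (mulRoot (q ^ e)))
        (by rw [Module.finrank_prod]; exact Nat.add_pos_left (hpos hpm hp) _) (m₁ := 1)
        (fun _ => B.compl₁₂ Φ₀ Φ₀) (fun B' hB' => ?_) IH (fun U g₀ hm => ?_)
        ⟨le_rfl, one_le_two⟩ (fun _ i j _ => Subsingleton.elim i j)
        (fun s hs k hk _ => by rw [hmG s hs k hk]; exact Even.zero)
      · obtain ⟨Φ, hΦ, hsep⟩ := hfind B' hB'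
        obtain ⟨-, hβ, -⟩ := exists_split hε hN hg hB' _ Φ hΦ hsep
        exact ⟨Φ, hΦ, hsep, 0, pair_eqv_ne hε hN hp hq hpm hqm hco hself hnq hG hβ₀ hβ⟩
      · rw [one_mul, show types ε D g₀ = types ε D g from Finset.ext fun se => ?_]
        · exact ⟨le_rfl, fun _ h => h⟩
        rw [mem_types, mem_types]
        refine and_congr_right fun h1 => and_congr_right fun h3 => and_congr_right fun _ => ?_
        rw [hm, hmG _ (by rcases h1 with h | h <;> simp [h]) _ h3.1, zero_add]
    by_cases hroot : p ∣ X ^ 2 - 1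
    swap
    · -- a self-dual component away from the roots `±1`
      have hfind : ∀ B', IForm ε g B' → ∃ Φ : AdjoinRoot (p ^ e) →ₗ[F] V,
          (∀ x, Φ (mulRoot (p ^ e) x) = g (Φ x)) ∧ ∀ x, (∀ y, B' (Φ x) (Φ y) = 0) → x = 0 := fun B' hB' => by
        obtain ⟨v, hv, htop⟩ := exists_vector h2 hN hg hB' hεε hp hst hne hself hroot
        exact ⟨cyc g _ v hv, cyc_root g _ v hv, cyc_sep hN hg hB' hp hv htop⟩
      obtain ⟨Φ₀, hΦ₀, hsep₀⟩ := hfind B hB
      obtain ⟨hG, hβ₀, -⟩ := exists_split hε hN hg hB _ Φ₀ hΦ₀ hsep₀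
      have hmG : ∀ s : F, s * s = 1 → ∀ k, 1 ≤ k → mult (mulRoot (p ^ e)) s k = 0 := fun s hs k hk => by
        rw [mult_mulRoot hp hpm s he hk, if_neg]
        rintro ⟨rfl, -⟩
        exact hroot (by rw [dvd_iff_isRoot, IsRoot, eval_sub, eval_pow, eval_X, eval_one, pow_two, hs, sub_self])
      refine bound_step hε hN hg hB (mulRoot (p ^ e)) (hpos hpm hp) (m₁ := 1) (fun _ => B.compl₁₂ Φ₀ Φ₀)
        (fun B' hB' => ?_) IH (fun U g₀ hm => ?_) ⟨le_rfl, one_le_two⟩ (fun _ i j _ => Subsingleton.elim i j)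
        (fun s hs k hk _ => by rw [hmG s hs k hk]; exact Even.zero)
      · obtain ⟨Φ, hΦ, hsep⟩ := hfind B' hB'
        obtain ⟨-, hβ, -⟩ := exists_split hε hN hg hB' _ Φ hΦ hsep
        exact ⟨Φ, hΦ, hsep, 0, cyc_eqv_of_not_root h2 hε hN hp hpm he hG hβ₀ hβ hself hroot⟩
      · rw [one_mul, show types ε D g₀ = types ε D g from Finset.ext fun se => ?_]
        · exact ⟨le_rfl, fun _ h => h⟩
        rw [mem_types, mem_types]
        refine and_congr_right fun h1 => and_congr_right fun h3 => and_congr_right fun _ => ?_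
        rw [hm, hmG _ (by rcases h1 with h | h <;> simp [h]) _ h3.1, zero_add]
    obtain ⟨s, hs, rfl⟩ := eq_X_sub_C_of_dvd_sq hpm hp hroot
    have hs' : s = 1 ∨ s = -1 := mul_self_eq_one_iff.1 hs
    have htype : ε * (-1) ^ (e - 1) = 1 ∨ ε * (-1) ^ (e - 1) = -1 := mul_self_eq_one_iff.1 (by
      rw [mul_mul_mul_comm, hεε, ← mul_pow, neg_one_mul, neg_neg, one_pow, one_mul])
    rcases htype with hsym | halt
    swap
    · -- an alternating pair
      have hfind : ∀ B', IForm ε g B' → ∃ Φ : AdjoinRoot ((X - C s) ^ e) × AdjoinRoot ((X - C s) ^ e) →ₗ[F] V,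
          (∀ x, Φ ((mulRoot ((X - C s) ^ e)).prodMap (mulRoot ((X - C s) ^ e)) x) = g (Φ x)) ∧
          ∀ x, (∀ y, B' (Φ x) (Φ y) = 0) → x = 0 := fun B' hB' => by
        obtain ⟨w, hw, htop⟩ := (exists_partner hN hg hB' he hst hself hself).2 v₀ hv₀ hv₁
        refine ⟨(cyc g _ v₀ hv₀).coprod (cyc g _ w hw), fun x => by simp [LinearMap.coprod_apply, cyc_root, map_add],
          pair_sep_alt hN hg hB' hε he hv₀ hw (top_self_eq_zero h2 hN hg hB' hs he halt hv₀)
            (top_self_eq_zero h2 hN hg hB' hs he halt hw) htop ?_⟩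
        rw [top_symm hN hg hB' hs he (x := v₀) hw, halt]
        exact mul_ne_zero (neg_ne_zero.2 one_ne_zero) htop
      obtain ⟨Φ₀, hΦ₀, hsep₀⟩ := hfind B hB
      obtain ⟨hG, hβ₀, -⟩ := exists_split hε hN hg hB _ Φ₀ hΦ₀ hsep₀
      have hmG : ∀ (t : F) k, 1 ≤ k → mult ((mulRoot ((X - C s) ^ e)).prodMap (mulRoot ((X - C s) ^ e))) t k =
          if t = s ∧ k = e then 2 else 0 := fun t k hk => by
        rw [mult_prod, mult_mulRoot hp hpm t he hk]
        have hiff : X - C s = X - C t ↔ t = s := by rw [sub_right_inj, C_inj, eq_comm]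
        simp only [hiff]
        split_ifs <;> rfl
      refine bound_step hε hN hg hB ((mulRoot ((X - C s) ^ e)).prodMap (mulRoot ((X - C s) ^ e)))
        (by rw [Module.finrank_prod]; exact Nat.add_pos_left (hpos hpm hp) _) (m₁ := 1)
        (fun _ => B.compl₁₂ Φ₀ Φ₀) (fun B' hB' => ?_) IH (fun U g₀ hm => ?_)
        ⟨le_rfl, one_le_two⟩ (fun _ i j _ => Subsingleton.elim i j)
        (fun t _ k hk _ => by rw [hmG t k hk]; split_ifs <;> decide)
      · obtain ⟨Φ, hΦ, hsep⟩ := hfind B' hB'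
        obtain ⟨-, hβ, -⟩ := exists_split hε hN hg hB' _ Φ hΦ hsep
        exact ⟨Φ, hΦ, hsep, 0, pair_eqv_alt h2 hε hN hs he halt hG hβ₀ hβ⟩
      · rw [one_mul, show types ε D g₀ = types ε D g from Finset.ext fun se => ?_]
        · exact ⟨le_rfl, fun _ h => h⟩
        rw [mem_types, mem_types]
        refine and_congr_right fun _ => and_congr_right fun h3 => and_congr_right fun h4 => ?_
        have h6 := hm se.1 se.2
        rw [hmG _ _ h3.1] at h6
        split_ifs at h6 with hse
        · have h8 := hm s e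
          rw [hmG _ _ he, if_pos ⟨rfl, rfl⟩] at h8
          first
            | (rw [hse.2, halt] at h4; exact absurd (show (2 : F) = 0 by linear_combination -h4) h2)
            | (rw [hse.1, hse.2]; omega)
        · omega
    -- a cyclic piece at `±1`
    have hM : 1 ≤ mult g s e := by
      have := mult_layer hst
      have := rk_lt_of_exists he hne
      omega
    have hmG : ∀ (t : F) k, 1 ≤ k → mult (mulRoot ((X - C s) ^ e)) t k = if t = s ∧ k = e then 1 else 0 := fun t k hk => by
      rw [mult_mulRoot hp hpm t he hk]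
      have hiff : X - C s = X - C t ↔ t = s := by rw [sub_right_inj, C_inj, eq_comm]
      simp only [hiff]
    have hpar : ∀ t : F, t * t = 1 → ∀ k, 1 ≤ k → ε * (-1) ^ (k - 1) = -1 → Even (mult (mulRoot ((X - C s) ^ e)) t k) := by
      intro t _ k hk halt
      rw [hmG t k hk, if_neg]
      · exact Even.zero
      · rintro ⟨-, rfl⟩
        rw [hsym] at halt
        exact h2 (by linear_combination halt)
    have hfind : ∀ B', IForm ε g B' → ∀ v (hv : aeval g ((X - C s) ^ e) v = 0),
        top g B' (X - C s) e 1 v v ≠ 0 → (∀ x, (∀ y, B' (cyc g _ v hv x) (cyc g _ v hv y) = 0) → x = 0) :=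
      fun B' hB' v hv ht => cyc_sep hN hg hB' hp hv ⟨1, ht⟩
    rcases lt_or_ge (mult g s e) 2 with hlt | hge
    · -- a single copy: two classes
      haveI := Fintype.ofFinite F
      have hchar : ringChar F ≠ 2 := fun h => h2 (by
        haveI : CharP F 2 := ringChar.of_eq h
        exact CharTwo.two_eq_zero)
      obtain ⟨δ, hδ⟩ := FiniteField.exists_nonsquare hchar
      have hδ0 : δ ≠ 0 := fun h => hδ (h ▸ IsSquare.zero)
      obtain ⟨u, hu, htu⟩ := exists_vector_sign h2 hN hg hB hs he hsym hst hne hpN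
      obtain ⟨hG, hβ₀, -⟩ := exists_split hε hN hg hB _ _ (cyc_root g _ u hu) (hfind B hB u hu htu)
      set β₀ := B.compl₁₂ (cyc g _ u hu) (cyc g _ u hu)
      have hβ₁ : IForm ε (mulRoot ((X - C s) ^ e)) (δ • β₀) := ⟨fun x hx => hβ₀.sep x fun y =>
          (mul_eq_zero.1 (hx y : δ * β₀ x y = 0)).resolve_left hδ0,
        fun x y => by simp only [LinearMap.smul_apply, smul_eq_mul, hβ₀.sym x y]; ring,
        fun x y => by simp only [LinearMap.smul_apply, hβ₀.inv]⟩
      refine bound_step hε hN hg hB (mulRoot ((X - C s) ^ e)) (hpos hpm hp) (m₁ := 2) ![β₀, δ • β₀]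
        (fun B' hB' => ?_) IH (fun U g₀ hm => ?_) ⟨one_le_two, le_rfl⟩ (fun hε1 i j hij => ?_) hpar
      · obtain ⟨v, hv, ht⟩ := exists_vector_sign h2 hN hg hB' hs he hsym hst hne hpN
        obtain ⟨-, hβ, -⟩ := exists_split hε hN hg hB' _ _ (cyc_root g _ v hv) (hfind B' hB' v hv ht)
        refine ⟨cyc g _ v hv, cyc_root g _ v hv, hfind B' hB' v hv ht, ?_⟩
        set r := top g B' (X - C s) e 1 v v / top g B (X - C s) e 1 u u with hr
        have hr0 : r ≠ 0 := div_ne_zero ht htu
        by_cases hsq : IsSquare r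
        · obtain ⟨a, ha⟩ := hsq
          refine ⟨0, cyc_eqv_of_sq h2 hε hN rfl he hG hβ₀ hβ (a := a) ?_⟩
          rw [Matrix.cons_val_zero, top_pull, top_pull hu, pow_two, ← ha, hr, div_mul_cancel₀ _ htu]
        · obtain ⟨a, ha⟩ : IsSquare (r / δ) := by
            rw [FiniteField.isSquare_iff hchar (div_ne_zero hr0 hδ0), div_pow]
            have h1 := (FiniteField.pow_dichotomy hchar hr0).resolve_left
              (fun h => hsq ((FiniteField.isSquare_iff hchar hr0).2 h))
            have h3 := (FiniteField.pow_dichotomy hchar hδ0).resolve_left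
              (fun h => hδ ((FiniteField.isSquare_iff hchar hδ0).2 h))
            rw [h1, h3, div_self (neg_ne_zero.2 one_ne_zero)]
          refine ⟨1, cyc_eqv_of_sq h2 hε hN rfl he hG hβ₁ hβ (a := a) ?_⟩
          have h1 : top (mulRoot ((X - C s) ^ e)) (δ • β₀) (X - C s) e 1 1 1 =
              δ * top (mulRoot ((X - C s) ^ e)) β₀ (X - C s) e 1 1 1 := rfl
          rw [Matrix.cons_val_one, Matrix.cons_val_fin_one, h1, top_pull, top_pull hu, pow_two, ← ha, hr]
          field_simp
      · have hmem : (s, e) ∈ types ε D g := mem_types.2 ⟨hs', ⟨he, le_trans hen (hn ▸ hnD)⟩, hsym, (by show 0 < mult g s e; omega)⟩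
        have hsub : types ε D g₀ ⊆ (types ε D g).erase (s, e) := fun se hse => by
          rw [mem_types] at hse
          obtain ⟨h1, h3, h4, h5⟩ := hse
          have h6 := hm se.1 se.2
          rw [hmG _ _ h3.1] at h6
          refine Finset.mem_erase.2 ⟨fun h => ?_, mem_types.2 ⟨h1, h3, h4, by split_ifs at h6 <;> omega⟩⟩
          subst h
          dsimp only at h5 h6
          simp only [and_self, if_true] at h6
          omega
        have hc := Finset.card_le_card hsub
        rw [Finset.card_erase_of_mem hmem] at hc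
        have := Finset.card_pos.2 ⟨_, hmem⟩
        refine ⟨?_, fun h => absurd h (by norm_num)⟩
        rw [mul_comm, ← pow_succ]
        exact Nat.pow_le_pow_right two_pos (by omega)
      · have hodd : Odd (Module.finrank F (AdjoinRoot ((X - C s) ^ e))) := by
          rw [(AdjoinRoot.powerBasis' (hpm.pow e)).finrank, AdjoinRoot.powerBasis'_dim, natDegree_pow,
            natDegree_X_sub_C, mul_one]
          rcases Nat.even_or_odd (e - 1) with ⟨k, hk⟩ | ho
          · exact ⟨k, by omega⟩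
          · rw [hε1, one_mul, ho.neg_one_pow] at hsym
            exact absurd (show (2 : F) = 0 by linear_combination -hsym) h2
        have h0 := dq_ne_zero hβ₀.sep
        have hflip := dq_smul_odd hδ hodd β₀
        revert hij
        fin_cases i <;> fin_cases j
        · exact fun _ => rfl
        · show dq β₀ = dq (δ • β₀) → _
          omega
        · show dq (δ • β₀) = dq β₀ → _
          omega
        · exact fun _ => rfl
    · -- several copies: one class
      obtain ⟨u, hu, htu⟩ := exists_vector_one h2 hεε hN hg hB hs he hsym hst hne hpN hge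
      obtain ⟨hG, hβ₀, -⟩ := exists_split hε hN hg hB _ _ (cyc_root g _ u hu) (hfind B hB u hu (by rw [htu]; exact one_ne_zero))
      refine bound_step hε hN hg hB (mulRoot ((X - C s) ^ e)) (hpos hpm hp) (m₁ := 1)
        (fun _ => B.compl₁₂ (cyc g _ u hu) (cyc g _ u hu)) (fun B' hB' => ?_) IH (fun U g₀ hm => ?_) ⟨le_rfl, one_le_two⟩ (fun _ i j _ => Subsingleton.elim i j) hpar
      · obtain ⟨v, hv, ht⟩ := exists_vector_one h2 hεε hN hg hB' hs he hsym hst hne hpN hge
        have hsep := hfind B' hB' v hv (by rw [ht]; exact one_ne_zero)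
        obtain ⟨-, hβ, -⟩ := exists_split hε hN hg hB' _ _ (cyc_root g _ v hv) hsep
        refine ⟨cyc g _ v hv, cyc_root g _ v hv, hsep, 0, cyc_eqv_of_sq h2 hε hN rfl he hG hβ₀ hβ (a := 1) ?_⟩
        rw [top_pull, top_pull, ht, htu, one_pow, one_mul]
      · rw [one_mul, show types ε D g₀ = types ε D g from Finset.ext fun se => ?_]
        · exact ⟨le_rfl, fun _ h => h⟩
        rw [mem_types, mem_types]
        refine and_congr_right fun _ => and_congr_right fun h3 => and_congr_right fun h4 => ?_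
        have h6 := hm se.1 se.2
        rw [hmG _ _ h3.1] at h6
        split_ifs at h6 with hse
        · have h8 := hm s e
          rw [hmG _ _ he, if_pos ⟨rfl, rfl⟩] at h8
          first
            | (rw [hse.2, halt] at h4; exact absurd (show (2 : F) = 0 by linear_combination -h4) h2)
            | (rw [hse.1, hse.2]; omega)
        · omega

end Cfsg.Lib.Linear.ClassSp
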