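import Mathlib

/-!
# The numerical bound for the class number of `Sp_{2n}(q)`, `q` odd
-/

set_option autoImplicit false

namespace Cfsg.Lib.Linear.ClassSp

/-- Monic palindromic polynomials of degree `D` with no root `±1`, in the generating function. -/
def hh (q D : ℕ) : ℕ := if Even D then q ^ (D / 2) else 0

/-- The weighted count of entries at even block size. -/
def bsp (q D : ℕ) : ℕ := ∑ r ∈ Finset.range 5, if r ≤ D then Nat.choose 4 r * hh q (D - r) else 0

/-- The bound on the number of classes with blocks of size at most `J`, in dimension `2 k`. -/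
def NS (q : ℕ) : ℕ → ℕ → ℕ
  | 0, k => if k = 0 then 1 else 0
  | J + 1, k =>
    if Even J then ∑ c ∈ Finset.range (k + 1), if (J + 1) * c ≤ k then q ^ c * NS q J (k - (J + 1) * c) else 0
    else ∑ D ∈ Finset.range (2 * k + 1),
      if (J + 1) / 2 * D ≤ k then bsp q D * NS q J (k - (J + 1) / 2 * D) else 0

/-- The factor of the block size `2 a`. -/
def facEven (q : ℚ) (a : ℕ) : ℚ := (1 + (q ^ a)⁻¹) ^ 4 * (1 - q / q ^ (2 * a))⁻¹

/-- The factor of the block size `J + 1`. -/
def facS (q : ℚ) (J : ℕ) : ℚ :=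
  if J = 0 then 1 else if Even J then (1 - (q ^ J)⁻¹)⁻¹ else facEven q ((J + 1) / 2)

/-- The product of the factors. -/
def CS (q : ℚ) : ℕ → ℚ
  | 0 => 1
  | J + 1 => CS q J * facS q J

theorem div_pow_lt_one {q : ℚ} (hq : 1 < q) {a : ℕ} (ha : 1 ≤ a) : q / q ^ (2 * a) < 1 := by
  rw [div_lt_one (by positivity)]
  exact lt_self_pow₀ hq (by omega)

theorem one_le_facS {q : ℚ} (hq : 1 < q) (J : ℕ) : 1 ≤ facS q J := by
  have hq0 : 0 < q := by linarith
  unfold facS
  split_ifs with h0 h1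
  · exact le_rfl
  · have : (q ^ J)⁻¹ < 1 := inv_lt_one_of_one_lt₀ (one_lt_pow₀ hq h0)
    exact one_le_inv₀ (by linarith) |>.2 (by have : (0 : ℚ) < (q ^ J)⁻¹ := (by positivity); linarith)
  · have ha : 1 ≤ (J + 1) / 2 := by omega
    have h2 := div_pow_lt_one hq ha
    refine one_le_mul_of_one_le_of_one_le (one_le_pow₀ (le_add_of_nonneg_right (by positivity))) ?_
    exact one_le_inv₀ (by linarith) |>.2 (by have : (0 : ℚ) < q / q ^ (2 * ((J + 1) / 2)) := (by positivity); linarith)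

theorem facS_antitone {q r : ℚ} (hr : 1 < r) (hq : r ≤ q) (J : ℕ) : facS q J ≤ facS r J := by
  have hq1 : 1 < q := lt_of_lt_of_le hr hq
  have hr0 : 0 < r := by linarith
  have hinv : ∀ k : ℕ, (q ^ k)⁻¹ ≤ (r ^ k)⁻¹ := fun k =>
    inv_anti₀ (pow_pos hr0 k) (pow_le_pow_left₀ hr0.le hq k)
  unfold facS
  split_ifs with h0 h1
  · exact le_rfl
  · have : (r ^ J)⁻¹ < 1 := inv_lt_one_of_one_lt₀ (one_lt_pow₀ hr h0)
    exact inv_anti₀ (by linarith) (by have := hinv J; linarith)
  · have ha : 1 ≤ (J + 1) / 2 := by omega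
    set a := (J + 1) / 2
    have h1 := div_pow_lt_one hr ha
    have h2 : q / q ^ (2 * a) ≤ r / r ^ (2 * a) := by
      obtain ⟨b, hb⟩ : ∃ b, 2 * a = b + 1 := ⟨2 * a - 1, by omega⟩
      rw [hb, pow_succ, pow_succ, div_mul_cancel_right₀ (by positivity : q ≠ 0),
        div_mul_cancel_right₀ (by positivity : r ≠ 0)]
      exact hinv b
    have hq0 : 0 < q := by linarith
    refine mul_le_mul (pow_le_pow_left₀ (by positivity) (by have := hinv a; linarith) 4)
      (inv_anti₀ (by linarith) (by linarith)) (inv_nonneg.2 ?_) (by positivity)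
    have := div_pow_lt_one hq1 ha
    linarith

theorem CS_nonneg {q : ℚ} (hq : 1 < q) : ∀ J, 0 ≤ CS q J
  | 0 => zero_le_one
  | J + 1 => mul_nonneg (CS_nonneg hq J) (zero_le_one.trans (one_le_facS hq J))

theorem CS_antitone {q r : ℚ} (hr : 1 < r) (hq : r ≤ q) : ∀ J, CS q J ≤ CS r J
  | 0 => le_rfl
  | J + 1 => mul_le_mul (CS_antitone hr hq J) (facS_antitone hr hq J)
      (zero_le_one.trans (one_le_facS (lt_of_lt_of_le hr hq) J)) (CS_nonneg hr J)

theorem CS_mono {q : ℚ} (hq : 1 < q) {J K : ℕ} (h : J ≤ K) : CS q J ≤ CS q K := by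
  induction h with
  | refl => exact le_rfl
  | step h ih => exact ih.trans (le_mul_of_one_le_right (CS_nonneg hq _) (one_le_facS hq _))

theorem CS_three_le (J : ℕ) : CS 3 J ≤ 54 / 5 := by
  have h : ∀ a, 5 ≤ a → CS 3 (2 * a + 1) * (1 + 3 / 3 ^ a) ≤ 54 / 5 := by
    intro a ha
    induction a, ha using Nat.le_induction with
    | base => norm_num [CS, facS, facEven, Nat.even_iff]
    | succ a ha ih =>
      refine le_trans ?_ ih
      show CS 3 (2 * a + 1) * facS 3 (2 * a + 1) * facS 3 (2 * a + 2) * _ ≤ _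
      rw [mul_assoc, mul_assoc]
      refine mul_le_mul_of_nonneg_left ?_ (CS_nonneg (by norm_num) _)
      have e1 : facS 3 (2 * a + 1) = facEven 3 (a + 1) := by
        rw [facS, if_neg (by omega), if_neg (by rw [Nat.even_iff]; omega), show (2 * a + 1 + 1) / 2 = a + 1 by omega]
      have e2 : facS 3 (2 * a + 2) = (1 - ((3 : ℚ) ^ (2 * a + 2))⁻¹)⁻¹ := by
        rw [facS, if_neg (by omega), if_pos (by rw [Nat.even_iff]; omega)]
      rw [e1, e2, facEven, show 2 * (a + 1) = 2 * a + 2 by ring, pow_add (3 : ℚ) (2 * a) 2, pow_succ (3 : ℚ) a,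
        pow_mul' (3 : ℚ) 2 a]
      have hy : (243 : ℚ) ≤ 3 ^ a := le_trans (by norm_num) (pow_le_pow_right₀ (by norm_num : (1 : ℚ) ≤ 3) ha)
      generalize (3 : ℚ) ^ a = y at hy ⊢
      have hy0 : 0 < y := by linarith
      set u : ℚ := (3 * y)⁻¹ with hu
      have hu0 : 0 < u := by positivity
      have hu1 : u ≤ 1 / 729 := by
        rw [hu, one_div]; exact inv_anti₀ (by norm_num) (by linarith)
      have e3 : (y * 3)⁻¹ = u := by rw [hu, mul_comm]
      have e4 : (3 : ℚ) / (y ^ 2 * 3 ^ 2) = 3 * u ^ 2 := by rw [hu]; field_simp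
      have e5 : (y ^ 2 * 3 ^ 2)⁻¹ = u ^ 2 := by rw [hu]; field_simp
      have e6 : (3 : ℚ) / (y * 3) = 3 * u := by rw [hu]; field_simp
      have e7 : (3 : ℚ) / y = 9 * u := by rw [hu]; field_simp; ring
      rw [e3, e4, e5, e6, e7]
      have hu2 : u ^ 2 ≤ u / 729 := by rw [pow_two]; nlinarith
      have h3 : 0 < 1 - 3 * u ^ 2 := by nlinarith
      have h4 : 0 < 1 - u ^ 2 := by nlinarith
      rw [← mul_assoc, inv_eq_one_div, inv_eq_one_div, mul_one_div, mul_one_div]
      rw [div_div, div_mul_eq_mul_div, div_le_iff₀ (mul_pos h3 h4)]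
      nlinarith [mul_pos hu0 hu0, pow_pos hu0 3, pow_pos hu0 4, mul_nonneg (sub_nonneg.2 hu1) (sq_nonneg u)]
  rcases le_or_gt 5 J with hJ | hJ
  · have h1 := CS_mono (q := 3) (by norm_num) (show J ≤ 2 * J + 1 by omega)
    have h2 : 0 ≤ CS 3 (2 * J + 1) * (3 / 3 ^ J) := mul_nonneg (CS_nonneg (by norm_num) _) (by positivity)
    have := h J hJ
    linarith
  · have h1 := CS_mono (q := 3) (by norm_num) (show J ≤ 2 * 5 + 1 by omega)
    have h2 : 0 ≤ CS 3 (2 * 5 + 1) * (3 / 3 ^ 5) := mul_nonneg (CS_nonneg (by norm_num) _) (by norm_num)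
    have := h 5 le_rfl
    linarith

theorem sum_hh_le {q : ℕ} {x : ℚ} (hx : 0 ≤ x) (hx1 : (q : ℚ) * x ^ 2 < 1) (M : ℕ) :
    ∑ D ∈ Finset.range M, (hh q D : ℚ) * x ^ D ≤ (1 - (q : ℚ) * x ^ 2)⁻¹ := by
  have hy : 0 ≤ (q : ℚ) * x ^ 2 := by positivity
  calc ∑ D ∈ Finset.range M, (hh q D : ℚ) * x ^ D
      = ∑ D ∈ (Finset.range M).filter Even, ((q : ℚ) * x ^ 2) ^ (D / 2) := by
        rw [Finset.sum_filter]
        refine Finset.sum_congr rfl fun D _ => ?_
        simp only [hh]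
        split_ifs with h
        · rw [mul_pow, ← pow_mul, Nat.mul_div_cancel' h.two_dvd]
          push_cast
          rfl
        · simp
    _ = ∑ c ∈ ((Finset.range M).filter Even).image (· / 2), ((q : ℚ) * x ^ 2) ^ c := by
        rw [Finset.sum_image]
        intro a ha b hb h
        have h1 := (Finset.mem_filter.1 ha).2.two_dvd
        have h2 := (Finset.mem_filter.1 hb).2.two_dvd
        have h3 : a / 2 = b / 2 := h
        omega
    _ ≤ ∑ c ∈ Finset.Ico 0 M, ((q : ℚ) * x ^ 2) ^ c := by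
        refine Finset.sum_le_sum_of_subset_of_nonneg (fun c hc => ?_) fun c _ _ => pow_nonneg hy c
        obtain ⟨D, hD, rfl⟩ := Finset.mem_image.1 hc
        have := Finset.mem_range.1 (Finset.mem_filter.1 hD).1
        exact Finset.mem_Ico.2 ⟨Nat.zero_le _, by omega⟩
    _ ≤ ((q : ℚ) * x ^ 2) ^ 0 / (1 - (q : ℚ) * x ^ 2) := geom_sum_Ico_le_of_lt_one hy hx1
    _ = _ := by rw [pow_zero, one_div]

theorem sum_bsp_le {q : ℕ} {x : ℚ} (hx : 0 ≤ x) (hx1 : (q : ℚ) * x ^ 2 < 1) (M : ℕ) :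
    ∑ D ∈ Finset.range M, (bsp q D : ℚ) * x ^ D ≤ (1 + x) ^ 4 * (1 - (q : ℚ) * x ^ 2)⁻¹ := by
  have h1 : ∀ D, (bsp q D : ℚ) * x ^ D = ∑ r ∈ Finset.range 5,
      (if r ≤ D then (Nat.choose 4 r : ℚ) * x ^ r * ((hh q (D - r) : ℚ) * x ^ (D - r)) else 0) := fun D => by
    rw [bsp, Nat.cast_sum, Finset.sum_mul]
    refine Finset.sum_congr rfl fun r _ => ?_
    split_ifs with h
    · push_cast
      rw [show x ^ D = x ^ r * x ^ (D - r) by rw [← pow_add, Nat.add_sub_cancel' h]]
      ring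
    · simp
  rw [Finset.sum_congr rfl fun D _ => h1 D, Finset.sum_comm, show (1 + x) ^ 4 * (1 - (q : ℚ) * x ^ 2)⁻¹ =
    ∑ r ∈ Finset.range 5, (Nat.choose 4 r : ℚ) * x ^ r * (1 - (q : ℚ) * x ^ 2)⁻¹ by
      rw [← Finset.sum_mul]
      congr 1
      simp [Finset.sum_range_succ, Nat.choose]
      ring]
  refine Finset.sum_le_sum fun r _ => ?_
  rw [← Finset.sum_filter, ← Finset.mul_sum]
  refine mul_le_mul_of_nonneg_left ((le_of_eq ?_).trans (sum_hh_le hx hx1 (M - r))) (by positivity)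
  refine Finset.sum_nbij' (fun D => D - r) (fun D => D + r) ?_ ?_ ?_ ?_ (fun D _ => rfl)
  all_goals intro D hD
  all_goals simp only [Finset.coe_filter, Finset.mem_filter, Finset.mem_range, Finset.coe_range, Set.mem_Iio,
    Set.mem_setOf_eq] at hD ⊢
  all_goals omega

theorem NS_le_CS {q : ℕ} (hq : 2 ≤ q) : ∀ J k, (NS q J k : ℚ) ≤ CS q J * (q : ℚ) ^ k := by
  have hq1 : (1 : ℚ) < q := by exact_mod_cast hq
  have hq0 : (0 : ℚ) < q := by linarith
  intro J
  induction J with
  | zero =>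
    intro k
    rcases eq_or_ne k 0 with rfl | hk
    · simp [NS, CS]
    · simp [NS, CS, hk]
  | succ J ih =>
    intro k
    have hC := CS_nonneg hq1 J
    rw [CS]
    rcases eq_or_ne J 0 with rfl | hJ
    · rw [NS, if_pos Even.zero, Finset.sum_eq_single_of_mem k (Finset.self_mem_range_succ k)]
      · simp [CS, facS, NS]
      · intro c hc hne
        rw [Finset.mem_range] at hc
        simp [NS, show ¬ k - c = 0 by omega]
    by_cases he : Even J
    · rw [NS, if_pos he, facS, if_neg hJ, if_pos he, Nat.cast_sum]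
      set x : ℚ := ((q : ℚ) ^ J)⁻¹ with hx
      have hx1 : x < 1 := inv_lt_one_of_one_lt₀ (one_lt_pow₀ hq1 hJ)
      refine (Finset.sum_le_sum (g := fun c => CS q J * (q : ℚ) ^ k * x ^ c) fun c _ => ?_).trans ?_
      · split_ifs with h
        · push_cast
          refine (mul_le_mul_of_nonneg_left (ih (k - (J + 1) * c)) (by positivity)).trans_eq ?_
          have h2 : (q : ℚ) ^ k = (q : ℚ) ^ (k - (J + 1) * c) * ((q : ℚ) ^ c * (q : ℚ) ^ (J * c)) := by
            rw [← pow_add, ← pow_add]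
            congr 1
            rw [add_mul, one_mul] at h ⊢
            omega
          rw [h2, hx, inv_pow, ← pow_mul]
          field_simp
        · rw [Nat.cast_zero]; positivity
      · rw [← Finset.mul_sum, mul_right_comm (CS (q : ℚ) J) ((1 - x)⁻¹)]
        refine mul_le_mul_of_nonneg_left ?_ (mul_nonneg hC (by positivity))
        rw [← Nat.Ico_zero_eq_range]
        exact (geom_sum_Ico_le_of_lt_one (by positivity) hx1).trans_eq (by rw [pow_zero, one_div])
    · rw [NS, if_neg he, facS, if_neg hJ, if_neg he, Nat.cast_sum]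
      have ha : 1 ≤ (J + 1) / 2 := by omega
      set a := (J + 1) / 2
      set x : ℚ := ((q : ℚ) ^ a)⁻¹ with hx
      have hx2 : (q : ℚ) * x ^ 2 = (q : ℚ) / (q : ℚ) ^ (2 * a) := by
        rw [hx, inv_pow, ← pow_mul, mul_comm a 2, div_eq_mul_inv]
      have hx1 : (q : ℚ) * x ^ 2 < 1 := hx2 ▸ div_pow_lt_one hq1 ha
      refine (Finset.sum_le_sum (g := fun D => CS q J * (q : ℚ) ^ k * ((bsp q D : ℚ) * x ^ D)) fun D _ => ?_).trans ?_
      · split_ifs with h
        · push_cast
          refine (mul_le_mul_of_nonneg_left (ih (k - a * D)) (by positivity)).trans_eq ?_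
          have h2 : (q : ℚ) ^ k = (q : ℚ) ^ (k - a * D) * (q : ℚ) ^ (a * D) := by
            rw [← pow_add, Nat.sub_add_cancel h]
          rw [h2, hx, inv_pow, ← pow_mul]
          field_simp
        · rw [Nat.cast_zero]; positivity
      · rw [← Finset.mul_sum, mul_right_comm (CS (q : ℚ) J) (facEven (q : ℚ) a)]
        refine mul_le_mul_of_nonneg_left ?_ (mul_nonneg hC (by positivity))
        rw [facEven, ← hx, ← hx2]
        exact sum_bsp_le (by positivity) hx1 _

theorem NS_le {q : ℕ} (hq : 3 ≤ q) (J k : ℕ) : 5 * NS q J k ≤ 54 * q ^ k := by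
  have h := (NS_le_CS (by omega) J k).trans (mul_le_mul_of_nonneg_right
    ((CS_antitone (by norm_num) (show (3 : ℚ) ≤ q by exact_mod_cast hq) J).trans (CS_three_le J)) (by positivity))
  have h1 : (5 : ℚ) * NS q J k ≤ 54 * (q : ℚ) ^ k := by linarith
  exact_mod_cast h1

end Cfsg.Lib.Linear.ClassSp
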