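import Cfsg.Agent.Lib.Linear.ClassSp.Pieces
import Cfsg.Agent.Lib.Linear.ClassSp.Disc

/-!
# The number of congruence classes of invariant forms

On a module the invariant forms fall into at most `2 ^ k` classes, `k` being the number of pairs `(±1, e)`
of symmetric type that occur; multiplicities at pairs of alternating type are even.
-/

set_option autoImplicit false

universe u

namespace Cfsg.Lib.Linear.ClassSp

open Polynomial Cfsg.Lib

variable {F : Type u} [Field F]
variable {V W : Type u} [AddCommGroup V] [Module F V] [AddCommGroup W] [Module F W]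
variable {N : ℕ} {ε : F} {g : Module.End F V} {B : LinearMap.BilinForm F V}

theorem rk_mulRoot (f h : F[X]) :
    rk (mulRoot f) h = Module.finrank F (LinearMap.range (LinearMap.mulLeft F (AdjoinRoot.mk f h))) := by
  rw [rk, show aeval (mulRoot f) h = LinearMap.mulLeft F (AdjoinRoot.mk f h) from
    LinearMap.ext fun x => aeval_mulRoot f h x]

/-- The multiplicity of the pair `(X - s, e)`. -/
noncomputable def mult (g : Module.End F V) (s : F) (e : ℕ) : ℤ :=
  (rk g ((X - C s) ^ (e - 1)) : ℤ) + rk g ((X - C s) ^ (e + 1)) - 2 * rk g ((X - C s) ^ e)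

open scoped Classical in
theorem mult_mulRoot {p : F[X]} (hp : Irreducible p) (hpm : p.Monic) {e e' : ℕ} (s : F) (he : 1 ≤ e) (he' : 1 ≤ e') :
    mult (mulRoot (p ^ e)) s e' = if p = X - C s ∧ e' = e then 1 else 0 := by
  classical
  by_cases hps : p = X - C s
  · subst hps
    simp only [mult, rk_mulRoot, ClassTuples.finrank_range_same _ (monic_X_sub_C s), natDegree_X_sub_C, mul_one,
      true_and]
    split_ifs with h <;> omega
  · have hco : ∀ k, IsCoprime ((X - C s) ^ k) p := fun k => by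
      refine ((irreducible_X_sub_C s).coprime_iff_not_dvd.2 fun hd => hps ?_).pow_left
      exact (eq_of_monic_of_associated (monic_X_sub_C s) hpm ((irreducible_X_sub_C s).associated_of_dvd hp hd)).symm
    have hr : ∀ k, rk (mulRoot (p ^ e)) ((X - C s) ^ k) = (p ^ e).natDegree := fun k => by
      rw [rk_mulRoot, ClassTuples.finrank_range_other _ _ (hpm.pow e) (hco k).pow_right]
    rw [if_neg (fun h => hps h.1), mult, hr, hr, hr]
    ring

theorem mult_prod [FiniteDimensional F V] [FiniteDimensional F W] (g : Module.End F V) (g' : Module.End F W) (s : F)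
    (e : ℕ) : mult (g.prodMap g') s e = mult g s e + mult g' s e := by
  simp only [mult, rk_prod]
  push_cast
  ring

theorem mult_equiv {g' : Module.End F W} (θ : V ≃ₗ[F] W) (hθ : ∀ x, θ (g x) = g' (θ x)) (s : F) (e : ℕ) :
    mult g s e = mult g' s e := by
  simp only [mult, rk_equiv θ hθ]

variable [FiniteDimensional F V]

theorem rk_add_ker (g : Module.End F V) (h : F[X]) :
    rk g h + Module.finrank F (LinearMap.ker (aeval g h)) = Module.finrank F V :=
  LinearMap.finrank_range_add_finrank_ker _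

theorem ker_pow_mono (g : Module.End F V) (p : F[X]) (k : ℕ) :
    LinearMap.ker (aeval g (p ^ k)) ≤ LinearMap.ker (aeval g (p ^ (k + 1))) := fun x hx =>
  LinearMap.mem_ker.2 (aeval_pow_apply_eq_zero (LinearMap.mem_ker.1 hx) (Nat.le_succ k))

theorem stable_of_rk {p : F[X]} {e : ℕ} (h : rk g (p ^ (e + 1)) = rk g (p ^ e)) :
    ∀ x, aeval g (p ^ (e + 1)) x = 0 → aeval g (p ^ e) x = 0 := fun x hx => by
  have h1 := rk_add_ker g (p ^ (e + 1))
  have h2 := rk_add_ker g (p ^ e)
  have h3 := Submodule.eq_of_le_of_finrank_le (ker_pow_mono g p e) (by omega)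
  exact LinearMap.mem_ker.1 (h3.ge (LinearMap.mem_ker.2 hx))

theorem rk_of_stable {p : F[X]} {e : ℕ} (h : ∀ x, aeval g (p ^ (e + 1)) x = 0 → aeval g (p ^ e) x = 0) :
    rk g (p ^ (e + 1)) = rk g (p ^ e) := by
  have h1 := rk_add_ker g (p ^ (e + 1))
  have h2 := rk_add_ker g (p ^ e)
  rw [le_antisymm (fun x hx => LinearMap.mem_ker.2 (h x (LinearMap.mem_ker.1 hx))) (ker_pow_mono g p e)] at h1
  omega

theorem exists_of_rk_lt {p : F[X]} {e : ℕ} (he : 1 ≤ e) (h : rk g (p ^ e) < rk g (p ^ (e - 1))) :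
    ∃ v, aeval g (p ^ e) v = 0 ∧ aeval g (p ^ (e - 1)) v ≠ 0 := by
  by_contra hcon
  push Not at hcon
  have h1 := rk_add_ker g (p ^ (e - 1))
  have h2 := rk_add_ker g (p ^ e)
  have h3 : Module.finrank F (LinearMap.ker (aeval g (p ^ e))) ≤ Module.finrank F (LinearMap.ker (aeval g (p ^ (e - 1)))) :=
    Submodule.finrank_mono fun x hx => LinearMap.mem_ker.2 (hcon x (LinearMap.mem_ker.1 hx))
  omega

theorem rk_lt_of_exists {p : F[X]} {e : ℕ} (he : 1 ≤ e)
    (h : ∃ v, aeval g (p ^ e) v = 0 ∧ aeval g (p ^ (e - 1)) v ≠ 0) : rk g (p ^ e) < rk g (p ^ (e - 1)) := by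
  obtain ⟨v, hv, hv'⟩ := h
  have h1 := rk_add_ker g (p ^ (e - 1))
  have h2 := rk_add_ker g (p ^ e)
  have hlt : LinearMap.ker (aeval g (p ^ (e - 1))) < LinearMap.ker (aeval g (p ^ e)) := by
    refine lt_of_le_of_ne (fun x hx => LinearMap.mem_ker.2 (aeval_pow_apply_eq_zero (LinearMap.mem_ker.1 hx) (Nat.sub_le _ _)))
      fun heq => hv' (LinearMap.mem_ker.1 (heq.ge (LinearMap.mem_ker.2 hv)))
  have := Submodule.finrank_lt_finrank_of_lt hlt
  omega

/-- A component and its largest exponent. -/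
theorem exists_layer [Nontrivial V] (hN : 1 ≤ N) (hg : g ^ N = 1) :
    ∃ (p : F[X]) (e : ℕ), p.Monic ∧ Irreducible p ∧ p ∣ X ^ N - 1 ∧ 1 ≤ e ∧ e ≤ Module.finrank F V ∧
      (∀ x, aeval g (p ^ (e + 1)) x = 0 → aeval g (p ^ e) x = 0) ∧
      ∃ v, aeval g (p ^ e) v = 0 ∧ aeval g (p ^ (e - 1)) v ≠ 0 := by
  classical
  have hint : IsIntegral F g := IsIntegral.of_finite F g
  obtain ⟨p, hpm, hpi, m, hm⟩ := (minpoly F g).exists_monic_irreducible_factor (minpoly.not_isUnit F g)
  have hp1 : aeval g (X ^ N - 1 : F[X]) = 0 := by simp [hg]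
  have hm0 : aeval g m ≠ 0 := fun h => by
    have hm' : m ≠ 0 := fun h0 => minpoly.ne_zero hint (by rw [hm, h0, mul_zero])
    have := natDegree_le_of_dvd (minpoly.dvd F g h) hm'
    rw [hm, natDegree_mul hpm.ne_zero hm'] at this
    have := hpi.natDegree_pos
    omega
  obtain ⟨x, hx⟩ : ∃ x, aeval g m x ≠ 0 := by
    by_contra h
    push Not at h
    exact hm0 (LinearMap.ext h)
  have hpx : aeval g p (aeval g m x) = 0 := by rw [← aeval_mul_apply, ← hm, minpoly.aeval]; rfl
  have hstab : ∃ k, ∀ x, aeval g (p ^ (k + 1)) x = 0 → aeval g (p ^ k) x = 0 ∧ k ≤ Module.finrank F V := by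
    by_contra hall
    push Not at hall
    have hgrow : ∀ k ≤ Module.finrank F V + 1, k ≤ Module.finrank F (LinearMap.ker (aeval g (p ^ k))) := fun k => by
      induction k with
      | zero => exact fun _ => Nat.zero_le _
      | succ k ih =>
        intro hk
        obtain ⟨y, hy, hy'⟩ := hall k
        have hlt : LinearMap.ker (aeval g (p ^ k)) < LinearMap.ker (aeval g (p ^ (k + 1))) :=
          lt_of_le_of_ne (ker_pow_mono g p k) fun heq => by
            have := hy' (LinearMap.mem_ker.1 (heq.ge (LinearMap.mem_ker.2 hy)))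
            omega
        have := Submodule.finrank_lt_finrank_of_lt hlt
        have := ih (by omega)
        omega
    have h1 := hgrow _ le_rfl
    have h2 := Submodule.finrank_le (LinearMap.ker (aeval g (p ^ (Module.finrank F V + 1))))
    omega
  set e := Nat.find hstab with he
  have hspec := Nat.find_spec hstab
  have he1 : 1 ≤ e := by
    by_contra h0
    rw [show e = 0 by omega] at he
    rw [← he] at hspec
    exact hx (by simpa using (hspec _ (by simpa using hpx)).1)
  have hele : e ≤ Module.finrank F V := (hspec (0 : V) (map_zero _)).2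
  refine ⟨p, e, hpm, hpi, (Dvd.intro m hm.symm).trans (minpoly.dvd F g hp1), he1, hele, fun x hx => (hspec x hx).1, ?_⟩
  by_contra hcon
  push Not at hcon
  refine Nat.find_min hstab (show e - 1 < e by omega) fun y hy => ⟨hcon y ?_, by omega⟩
  rwa [Nat.sub_add_cancel he1] at hy

theorem exists_partner_poly {p : F[X]} (hpm : p.Monic) (hpi : Irreducible p) (hN : 1 ≤ N) (hpN : p ∣ X ^ N - 1) :
    ∃ q : F[X], q.Monic ∧ Irreducible q ∧ p ∣ bar N q ∧ q ∣ bar N p := by
  haveI : Fact (Irreducible p) := ⟨hpi⟩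
  haveI : Module.Finite F (AdjoinRoot p) := hpm.finite_adjoinRoot
  set z : AdjoinRoot p := AdjoinRoot.root p ^ (N - 1)
  have hz : IsIntegral F z := IsIntegral.of_finite F z
  refine ⟨minpoly F z, minpoly.monic hz, minpoly.irreducible hz, ?_, minpoly.dvd F z ?_⟩
  · rw [← AdjoinRoot.mk_eq_zero, ← AdjoinRoot.aeval_eq, bar, aeval_comp, map_pow, aeval_X]
    exact minpoly.aeval F z
  · rw [bar, aeval_comp, map_pow, aeval_X]
    show aeval ((AdjoinRoot.root p ^ (N - 1)) ^ (N - 1)) p = 0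
    have h := aeval_bar_bar (x := AdjoinRoot.root p) (root_pow_eq_one hpN) hN p
    rw [bar, bar, aeval_comp, map_pow, aeval_X, AdjoinRoot.aeval_eq, AdjoinRoot.mk_self] at h
    simpa [pow_comp, aeval_comp] using h

theorem eq_X_sub_C_of_dvd_sq {p : F[X]} (hpm : p.Monic) (hpi : Irreducible p) (h : p ∣ X ^ 2 - 1) :
    ∃ s : F, s * s = 1 ∧ p = X - C s := by
  rw [show (X ^ 2 - 1 : F[X]) = (X - C 1) * (X - C (-1)) by rw [map_neg, map_one]; ring] at h
  rcases hpi.prime.dvd_or_dvd h with h1 | h1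
  · exact ⟨1, one_mul 1, eq_of_monic_of_associated hpm (monic_X_sub_C 1) (hpi.associated_of_dvd (irreducible_X_sub_C 1) h1)⟩
  · exact ⟨-1, by ring, eq_of_monic_of_associated hpm (monic_X_sub_C (-1)) (hpi.associated_of_dvd (irreducible_X_sub_C (-1)) h1)⟩

theorem self_dual_sign {s : F} (hs : s * s = 1) (hN : 1 ≤ N) (hpN : X - C s ∣ X ^ N - 1) :
    X - C s ∣ bar N (X - C s) := by
  rw [dvd_iff_isRoot, IsRoot, bar, eval_comp, eval_pow, eval_X, eval_sub, eval_X, eval_C, sub_eq_zero]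
  rw [dvd_iff_isRoot, IsRoot, eval_sub, eval_pow, eval_X, eval_one, sub_eq_zero] at hpN
  conv_rhs => rw [← mul_one s, ← hpN, ← Nat.sub_add_cancel hN, pow_succ', ← mul_assoc, hs, one_mul]

/-- The occurring pairs of symmetric type. -/
noncomputable def types (ε : F) (D : ℕ) (g : Module.End F V) : Finset (F × ℕ) := by
  classical
  exact (({1, -1} : Finset F) ×ˢ Finset.Icc 1 D).filter fun se => ε * (-1) ^ (se.2 - 1) = 1 ∧ 0 < mult g se.1 se.2

theorem mem_types {D : ℕ} {se : F × ℕ} :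
    se ∈ types ε D g ↔ (se.1 = 1 ∨ se.1 = -1) ∧ (1 ≤ se.2 ∧ se.2 ≤ D) ∧ ε * (-1) ^ (se.2 - 1) = 1 ∧ 0 < mult g se.1 se.2 := by
  classical
  simp [types, and_assoc]

variable [Finite F]

/-- For symmetric forms, at most half of the representatives have a given discriminant class. -/
def HalfDisc (ε : F) (D : ℕ) (g : Module.End F V) {m : ℕ} (γ : Fin m → LinearMap.BilinForm F V) : Prop :=
  ε = 1 → ∀ d : ℤ, d ≠ 0 → 2 * Nat.card {i // dq (γ i) = d} ≤
    2 ^ (types ε D g).card + (if (types ε D g).card = 0 then 1 else 0)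

omit [Finite F] in
theorem halfDisc_le_one {D : ℕ} {g : Module.End F V} {m : ℕ} (γ : Fin m → LinearMap.BilinForm F V)
    (hm : m ≤ 1) (h : types ε D g = ∅) : HalfDisc ε D g γ := by
  intro _ d _
  have h1 := (Nat.card_le_card_of_injective _ (Subtype.val_injective (p := fun i => dq (γ i) = d))).trans
    (Nat.card_fin m).le
  rw [h, Finset.card_empty, if_pos rfl]
  omega

/-- The induction statement. -/
def Bound (ε : F) (N D : ℕ) (g : Module.End F V) : Prop :=
  ((∃ B, IForm ε g B) → ∀ s : F, s * s = 1 → ∀ e, 1 ≤ e → ε * (-1) ^ (e - 1) = -1 → Even (mult g s e)) ∧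
    ∃ m ≤ 2 ^ (types ε D g).card, ∃ γ : Fin m → LinearMap.BilinForm F V,
      (∀ B, IForm ε g B → ∃ i, Eqv g B g (γ i)) ∧ HalfDisc ε D g γ

/-- One step of the induction. -/
theorem bound_step [FiniteDimensional F W] (hε : ε ≠ 0) (hN : 1 ≤ N) (hg : g ^ N = 1) {D : ℕ}
    (hB : IForm ε g B) (G : Module.End F W) (hW : 0 < Module.finrank F W) {m₁ : ℕ}
    (β : Fin m₁ → LinearMap.BilinForm F W)
    (hfind : ∀ B', IForm ε g B' → ∃ Φ : W →ₗ[F] V, (∀ x, Φ (G x) = g (Φ x)) ∧
      (∀ x, (∀ y, B' (Φ x) (Φ y) = 0) → x = 0) ∧ ∃ i, Eqv G (B'.compl₁₂ Φ Φ) G (β i))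
    (IH : ∀ (U : Submodule F V) (g₀ : Module.End F U), g₀ ^ N = 1 → Module.finrank F U < Module.finrank F V →
      Bound ε N D g₀)
    (hcount : ∀ (U : Submodule F V) (g₀ : Module.End F U), (∀ s e, mult g s e = mult G s e + mult g₀ s e) →
      m₁ * 2 ^ (types ε D g₀).card ≤ 2 ^ (types ε D g).card ∧
        (m₁ = 1 → types ε D g₀ = ∅ → types ε D g = ∅))
    (hm₁ : 1 ≤ m₁ ∧ m₁ ≤ 2) (hβd : ε = 1 → ∀ i j, dq (β i) = dq (β j) → i = j)
    (hpar : ∀ s : F, s * s = 1 → ∀ e, 1 ≤ e → ε * (-1) ^ (e - 1) = -1 → Even (mult G s e)) :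
    Bound ε N D g := by
  obtain ⟨Φ, hΦ, hsep, -⟩ := hfind B hB
  obtain ⟨-, -, U, g₀, B₀, hg₀, hB₀, θ, hθ, hθB⟩ := exists_split hε hN hg hB G Φ hΦ hsep
  have hrk : ∀ h, rk g h = rk G h + rk g₀ h := fun h => by rw [rk_equiv θ hθ, rk_prod]
  have hmult : ∀ s e, mult g s e = mult G s e + mult g₀ s e := fun s e => by
    rw [mult_equiv θ hθ, mult_prod]
  have hfr : Module.finrank F V = Module.finrank F W + Module.finrank F U := by
    rw [θ.finrank_eq, Module.finrank_prod]
  obtain ⟨hpar₀, m₀, hm₀, γ, hγ, hhalf⟩ := IH U g₀ hg₀ (by omega)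
  refine ⟨fun _ s hs e he halt => ?_, m₁ * m₀,
    (Nat.mul_le_mul_left _ hm₀).trans (hcount U g₀ hmult).1,
    fun k => (prodB (β (finProdFinEquiv.symm k).1) (γ (finProdFinEquiv.symm k).2)).compl₁₂ θ.toLinearMap θ.toLinearMap,
    fun B' hB' => ?_, fun hε1 d hd => ?_⟩
  · rw [hmult]
    exact (hpar s hs e he halt).add (hpar₀ ⟨B₀, hB₀⟩ s hs e he halt)
  · obtain ⟨Φ', hΦ', hsep', i, hi⟩ := hfind B' hB'
    obtain ⟨-, -, U', g₀', B₀', hg₀', hB₀', hsplit⟩ := exists_split hε hN hg hB' G Φ' hΦ' hsep'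
    obtain ⟨θ', hθ', -⟩ := id hsplit
    have hfr' : Module.finrank F V = Module.finrank F W + Module.finrank F U' := by
      rw [θ'.finrank_eq, Module.finrank_prod]
    obtain ⟨η, hη⟩ := exists_equiv_of_rk (g := g₀') (g' := g₀) (by omega) fun Y _ _ k => by
      have h1 : rk g (Y ^ k) = rk G (Y ^ k) + rk g₀' (Y ^ k) := by rw [rk_equiv θ' hθ', rk_prod]
      have h2 := hrk (Y ^ k)
      omega
    have he : Eqv g₀' B₀' g₀ (B₀'.compl₁₂ η.symm.toLinearMap η.symm.toLinearMap) :=
      ⟨η, hη, fun x y => by simp⟩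
    obtain ⟨j, hj⟩ := hγ _ (hB₀'.map he)
    refine ⟨finProdFinEquiv (i, j), hsplit.trans ((hi.prod (he.trans hj)).trans ?_)⟩
    simp only [Equiv.symm_apply_apply]
    exact Eqv.symm ⟨θ, hθ, fun x y => rfl⟩
  · obtain ⟨hc1, hc2⟩ := hcount U g₀ hmult
    obtain ⟨pr, hpr⟩ : ∃ pr : Fin (m₁ * m₀) → Fin m₁ × Fin m₀, ∀ k, pr k = finProdFinEquiv.symm k := ⟨_, fun k => rfl⟩
    have hdq : ∀ k, dq ((prodB (β (finProdFinEquiv.symm k).1) (γ (finProdFinEquiv.symm k).2)).compl₁₂ θ.toLinearMap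
        θ.toLinearMap) = dq (β (pr k).1) * dq (γ (pr k).2) := fun k => by
      rw [dq_congr θ (B' := prodB (β (pr k).1) (γ (pr k).2)) (fun x y => by rw [hpr]; rfl), dq_prod]
    have hprinj : Function.Injective pr := fun a b h => finProdFinEquiv.symm.injective (by rw [← hpr, ← hpr, h])
    simp only [hdq]
    rcases (show m₁ = 1 ∨ m₁ = 2 by omega) with rfl | rfl
    · rcases eq_or_ne (dq (β 0)) 0 with h0 | h0
      · haveI : IsEmpty {i // dq (β (pr i).1) * dq (γ (pr i).2) = d} := ⟨fun i => hd (by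
          rw [← i.2, Subsingleton.elim (pr i.1).1 0, h0, zero_mul])⟩
        rw [Nat.card_of_isEmpty]
        exact Nat.zero_le _
      have hsub : ∀ i, dq (β (pr i).1) * dq (γ (pr i).2) = d → dq (γ (pr i).2) = d / dq (β 0) := fun i hi => by
        rw [← hi, Subsingleton.elim (pr i).1 0, Int.mul_ediv_cancel_left _ h0]
      rcases isEmpty_or_nonempty {i // dq (β (pr i).1) * dq (γ (pr i).2) = d} with hemp | ⟨⟨i₀, hi₀⟩⟩
      · rw [Nat.card_of_isEmpty]
        exact Nat.zero_le _
      have hd' : d / dq (β 0) ≠ 0 := by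
        rw [← hsub i₀ hi₀]
        intro h
        rw [h, mul_zero] at hi₀
        exact hd hi₀.symm
      have h1 := Nat.card_le_card_of_injective
        (fun i : {i // dq (β (pr i).1) * dq (γ (pr i).2) = d} => (⟨(pr i).2, hsub _ i.2⟩ : {j // dq (γ j) = d / dq (β 0)}))
        fun i j hij => Subtype.ext (hprinj (Prod.ext (Subsingleton.elim _ _) (congrArg Subtype.val hij :)))
      have h2 := hhalf hε1 _ hd'
      rw [one_mul] at hc1
      by_cases e2 : (types ε D g).card = 0
      · rw [if_pos e2]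
        split_ifs at h2 <;> omega
      · rw [if_neg (fun e1 => e2 (Finset.card_eq_zero.2 (hc2 rfl (Finset.card_eq_zero.1 e1))))] at h2
        rw [if_neg e2]
        omega
    · refine le_trans (Nat.mul_le_mul_left 2 ((Nat.card_le_card_of_injective (fun i => (pr i.1).2) fun i j hij => ?_).trans
        (Nat.card_fin m₀).le)) (((Nat.mul_le_mul_left 2 hm₀).trans hc1).trans (Nat.le_add_right _ _))
      simp only at hij
      refine Subtype.ext (hprinj (Prod.ext (hβd hε1 _ _ ?_) hij))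
      have h1 := i.2.trans j.2.symm
      rw [hij] at h1
      exact mul_right_cancel₀ (fun h => hd (by rw [← j.2, h, mul_zero])) h1

end Cfsg.Lib.Linear.ClassSp
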