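import Cfsg.Agent.Lib.Linear.ClassSp.Vectors
import Cfsg.Agent.Lib.Linear.HermitianFactor

/-!
# The pieces

Forms on `F[X]/(p ^ e)` and on `F[X]/(p ^ e) × F[X]/(q ^ e)`: which of them are congruent.
-/

set_option autoImplicit false

universe u

namespace Cfsg.Lib.Linear.ClassSp

open Polynomial Cfsg.Lib

variable {F : Type u} [Field F]

/-- Multiplication by the root. -/
noncomputable def mulRoot (f : F[X]) : Module.End F (AdjoinRoot f) := LinearMap.mulLeft F (AdjoinRoot.root f)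

theorem aeval_mulRoot (f h : F[X]) (x : AdjoinRoot f) : aeval (mulRoot f) h x = AdjoinRoot.mk f h * x := by
  induction h using Polynomial.induction_on generalizing x with
  | C c =>
    rw [aeval_C, Module.algebraMap_end_apply, Algebra.smul_def, AdjoinRoot.algebraMap_eq, AdjoinRoot.mk_C]
  | add P Q hP hQ => rw [map_add, LinearMap.add_apply, hP, hQ, map_add, add_mul]
  | monomial k c hk =>
    rw [pow_succ, ← mul_assoc, aeval_mul_apply, aeval_X, hk, map_mul (AdjoinRoot.mk f) _ X, AdjoinRoot.mk_X,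
      mul_assoc]
    rfl

theorem aeval_pair (f f' h : F[X]) (x : AdjoinRoot f × AdjoinRoot f') :
    aeval ((mulRoot f).prodMap (mulRoot f')) h x = (AdjoinRoot.mk f h * x.1, AdjoinRoot.mk f' h * x.2) := by
  rw [aeval_prodMap, aeval_mulRoot, aeval_mulRoot]

variable {V : Type u} [AddCommGroup V] [Module F V]

/-- The map `mk h ↦ aeval g h v`. -/
noncomputable def cyc (g : Module.End F V) (f : F[X]) (v : V) (hv : aeval g f v = 0) : AdjoinRoot f →ₗ[F] V :=
  have key : ∀ r h, AdjoinRoot.mk f h = r →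
      aeval g (Function.surjInv AdjoinRoot.mk_surjective r : F[X]) v = aeval g h v := fun r h hh => by
    rw [← sub_eq_zero, ← LinearMap.sub_apply, ← map_sub]
    exact aeval_dvd_apply_eq_zero hv (AdjoinRoot.mk_eq_mk.1
      ((Function.surjInv_eq AdjoinRoot.mk_surjective r).trans hh.symm))
  { toFun := fun r => aeval g (Function.surjInv AdjoinRoot.mk_surjective r : F[X]) v
    map_add' := fun r r' => by
      rw [key (r + r') (Function.surjInv AdjoinRoot.mk_surjective r + Function.surjInv AdjoinRoot.mk_surjective r')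
        (by rw [map_add, Function.surjInv_eq AdjoinRoot.mk_surjective, Function.surjInv_eq AdjoinRoot.mk_surjective]),
        map_add, LinearMap.add_apply]
    map_smul' := fun c r => by
      rw [key (c • r) (C c * Function.surjInv AdjoinRoot.mk_surjective r)
        (by rw [map_mul, AdjoinRoot.mk_C, Function.surjInv_eq AdjoinRoot.mk_surjective, Algebra.smul_def,
          AdjoinRoot.algebraMap_eq]), aeval_mul_apply, aeval_C, Module.algebraMap_end_apply]
      rfl }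

theorem cyc_mk (g : Module.End F V) (f : F[X]) (v : V) (hv : aeval g f v = 0) (h : F[X]) :
    cyc g f v hv (AdjoinRoot.mk f h) = aeval g h v := by
  show aeval g (Function.surjInv AdjoinRoot.mk_surjective (AdjoinRoot.mk f h) : F[X]) v = _
  rw [← sub_eq_zero, ← LinearMap.sub_apply, ← map_sub]
  exact aeval_dvd_apply_eq_zero hv (AdjoinRoot.mk_eq_mk.1 (Function.surjInv_eq AdjoinRoot.mk_surjective _))

theorem cyc_root (g : Module.End F V) (f : F[X]) (v : V) (hv : aeval g f v = 0) (x : AdjoinRoot f) :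
    cyc g f v hv (mulRoot f x) = g (cyc g f v hv x) := by
  obtain ⟨h, rfl⟩ := AdjoinRoot.mk_surjective x
  rw [mulRoot, LinearMap.mulLeft_apply, ← AdjoinRoot.mk_X, ← map_mul, cyc_mk, cyc_mk, aeval_mul_apply, aeval_X]

/-- A nonzero element reaches the bottom layer. -/
theorem exists_socle {p : F[X]} (hp : Irreducible p) {e : ℕ} {r : F[X]} (hr : ¬ p ^ e ∣ r) :
    ∃ c, p ^ e ∣ c * r - p ^ (e - 1) := by
  classical
  have hex : ∃ k, ¬ p ^ (k + 1) ∣ r := ⟨e, fun h => hr ((pow_dvd_pow p (Nat.le_succ e)).trans h)⟩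
  have hk : p ^ Nat.find hex ∣ r := by
    rcases h0 : Nat.find hex with _ | k
    · simp
    · exact not_not.1 (Nat.find_min hex (by omega : k < Nat.find hex))
  obtain ⟨u, hu⟩ := hk
  have hke : Nat.find hex < e := by
    by_contra h
    exact hr ((pow_dvd_pow p (not_lt.1 h)).trans ⟨u, hu⟩)
  have hpu : ¬ p ∣ u := fun ⟨c, hc⟩ => Nat.find_spec hex ⟨c, hu.trans (by rw [hc, pow_succ, mul_assoc])⟩
  obtain ⟨a, b, hab⟩ := hp.coprime_iff_not_dvd.2 hpu
  obtain ⟨d, hd⟩ : ∃ d, e = Nat.find hex + d + 1 := ⟨e - 1 - Nat.find hex, by omega⟩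
  refine ⟨b * p ^ d, -a, ?_⟩
  have h2 : b * p ^ d * r = b * u * p ^ (Nat.find hex + d) := by
    conv_lhs => rw [hu]
    rw [pow_add]; ring
  rw [h2, hd, Nat.add_sub_cancel, pow_succ]
  linear_combination p ^ (Nat.find hex + d) * hab

variable {N : ℕ} {ε : F} {g : Module.End F V} {B : LinearMap.BilinForm F V}

theorem top_zero_of_mult (hN : 1 ≤ N) (hg : g ^ N = 1) (hB : IForm ε g B) {p r : F[X]} {e : ℕ} {v w : V}
    (h : ∀ k : F[X], B (aeval g r v) (aeval g k w) = 0) {c : F[X]} (hc : aeval g (c * r - p ^ (e - 1)) v = 0) (k : F[X]) :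
    top g B p e k v w = 0 := by
  rw [map_sub, LinearMap.sub_apply, sub_eq_zero] at hc
  rw [top, aeval_mul_apply, ← hc, ← aeval_mul_apply, ← mul_assoc, aeval_mul_apply, hB.adj hN hg]
  exact h _

theorem cyc_sep (hN : 1 ≤ N) (hg : g ^ N = 1) (hB : IForm ε g B) {p : F[X]} (hp : Irreducible p) {e : ℕ} {v : V}
    (hv : aeval g (p ^ e) v = 0) (htop : ∃ h, top g B p e h v v ≠ 0) :
    ∀ x, (∀ y, B (cyc g _ v hv x) (cyc g _ v hv y) = 0) → x = 0 := by
  intro x hx
  obtain ⟨r, rfl⟩ := AdjoinRoot.mk_surjective x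
  rw [AdjoinRoot.mk_eq_zero]
  by_contra hr
  obtain ⟨c, hc⟩ := exists_socle hp hr
  obtain ⟨h, hh⟩ := htop
  exact hh (top_zero_of_mult hN hg hB (fun k => by
    have := hx (AdjoinRoot.mk _ k)
    rwa [cyc_mk, cyc_mk] at this) (aeval_dvd_apply_eq_zero hv hc) h)

/-- Components without self-pairing are totally isotropic. -/
theorem isotropic_of_coprime (hN : 1 ≤ N) (hg : g ^ N = 1) (hB : IForm ε g B) {p : F[X]} (hp : Irreducible p)
    (hns : ¬ p ∣ bar N p) {e : ℕ} {x y : V} (hx : aeval g (p ^ e) x = 0) (hy : aeval g (p ^ e) y = 0) :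
    B x y = 0 := by
  obtain ⟨a, b, hab⟩ := (hp.coprime_iff_not_dvd.2 hns).pow (m := e) (n := e)
  calc B x y = B x (aeval g (a * p ^ e + b * bar N p ^ e) y) := by rw [hab, map_one, Module.End.one_apply]
    _ = 0 := by
      rw [map_add, LinearMap.add_apply, aeval_mul_apply g a, hy, map_zero, zero_add, mul_comm, aeval_mul_apply,
        ← bar_pow, ← hB.adj hN hg, hx, map_zero, LinearMap.zero_apply]

theorem top_scalar {s : F} {e : ℕ} (he : 1 ≤ e) {x : V} (hx : aeval g ((X - C s) ^ e) x = 0) (h : F[X]) (y : V) :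
    top g B (X - C s) e h x y = h.eval s * top g B (X - C s) e 1 x y := by
  obtain ⟨c, hc⟩ := X_sub_C_dvd_sub_C_eval (a := s) (p := h)
  have h1 : aeval g (h * (X - C s) ^ (e - 1)) x = h.eval s • aeval g ((X - C s) ^ (e - 1)) x := by
    conv_lhs => rw [show h = C (h.eval s) + c * (X - C s) by rw [mul_comm c, ← hc]; ring]
    rw [add_mul, map_add, LinearMap.add_apply, mul_assoc c, ← pow_succ', Nat.sub_add_cancel he,
      aeval_mul_apply g c, hx, map_zero, add_zero, aeval_mul_apply, aeval_C, Module.algebraMap_end_apply]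
  rw [top, top, one_mul, h1, map_smul, LinearMap.smul_apply, smul_eq_mul]

theorem pair_sep_ne (hN : 1 ≤ N) (hg : g ^ N = 1) (hB : IForm ε g B) (hε : ε ≠ 0) {p q : F[X]} (hp : Irreducible p)
    (hq : Irreducible q) (hco : ¬ p ∣ q) (hpq : q ∣ bar N p) {e : ℕ} {v w : V}
    (hv : aeval g (p ^ e) v = 0) (hw : aeval g (q ^ e) w = 0) (htop : ∃ h, top g B p e h v w ≠ 0) :
    ∀ x, (∀ y, B (((cyc g _ v hv).coprod (cyc g _ w hw)) x) (((cyc g _ v hv).coprod (cyc g _ w hw)) y) = 0) →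
      x = 0 := by
  rintro ⟨x, y⟩ hxy
  obtain ⟨r, rfl⟩ := AdjoinRoot.mk_surjective x
  obtain ⟨r', rfl⟩ := AdjoinRoot.mk_surjective y
  obtain ⟨h₀, hh⟩ := htop
  have hpair : ∀ k k', B (aeval g r v + aeval g r' w) (aeval g k v + aeval g k' w) = 0 := fun k k' => by
    have := hxy (AdjoinRoot.mk _ k, AdjoinRoot.mk _ k')
    simpa only [LinearMap.coprod_apply, cyc_mk] using this
  obtain ⟨a, b, hab⟩ := (hp.coprime_iff_not_dvd.2 hco).pow (m := e) (n := e)
  -- projecting to either component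
  have hleft : ∀ k, B (aeval g (b * q ^ e * r) v) (aeval g k w) = 0 := fun k => by
    have h1 := hpair 0 (bar N (b * q ^ e) * k)
    rw [map_zero, LinearMap.zero_apply, zero_add, aeval_mul_apply, ← hB.adj hN hg, map_add, ← aeval_mul_apply,
      ← aeval_mul_apply, aeval_dvd_apply_eq_zero hw (⟨b * r', by ring⟩ : q ^ e ∣ b * q ^ e * r'), add_zero] at h1
    exact h1
  have hright : ∀ k, B (aeval g (a * p ^ e * r') w) (aeval g k v) = 0 := fun k => by
    have h1 := hpair (bar N (a * p ^ e) * k) 0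
    rw [map_zero (aeval g), LinearMap.zero_apply, add_zero, aeval_mul_apply, ← hB.adj hN hg, map_add,
      ← aeval_mul_apply, ← aeval_mul_apply,
      aeval_dvd_apply_eq_zero hv (⟨a * r, by ring⟩ : p ^ e ∣ a * p ^ e * r), zero_add] at h1
    exact h1
  refine Prod.ext (AdjoinRoot.mk_eq_zero.2 ?_) (AdjoinRoot.mk_eq_zero.2 ?_) <;> by_contra hr
  · obtain ⟨c, hc⟩ := exists_socle hp hr
    refine hh (top_zero_of_mult hN hg hB hleft (c := c) (aeval_dvd_apply_eq_zero hv ?_) h₀)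
    rw [show c * (b * q ^ e * r) - p ^ (e - 1) = (c * r - p ^ (e - 1)) + -(c * a * r) * p ^ e by
      linear_combination c * r * hab]
    exact dvd_add hc (dvd_mul_left _ _)
  · obtain ⟨c, hc⟩ := exists_socle hq hr
    obtain ⟨k, hk⟩ := hpq
    refine hh ?_
    have h2 := top_zero_of_mult hN hg hB (p := q) (e := e) hright (c := c) (aeval_dvd_apply_eq_zero hw ?_)
      (bar N h₀ * k ^ (e - 1))
    · rw [top] at h2 ⊢
      rw [hB.adj hN hg, bar_mul, bar_pow, hk, mul_pow,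
        show bar N h₀ * (q ^ (e - 1) * k ^ (e - 1)) = bar N h₀ * k ^ (e - 1) * q ^ (e - 1) by ring, hB.sym,
        h2, mul_zero]
    · rw [show c * (a * p ^ e * r') - q ^ (e - 1) = (c * r' - q ^ (e - 1)) + -(c * b * r') * q ^ e by
        linear_combination c * r' * hab]
      exact dvd_add hc (dvd_mul_left _ _)

theorem pair_sep_alt (hN : 1 ≤ N) (hg : g ^ N = 1) (hB : IForm ε g B) (hε : ε ≠ 0) {s : F} {e : ℕ} (he : 1 ≤ e)
    {v w : V} (hv : aeval g ((X - C s) ^ e) v = 0) (hw : aeval g ((X - C s) ^ e) w = 0)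
    (hvv : top g B (X - C s) e 1 v v = 0) (hww : top g B (X - C s) e 1 w w = 0)
    (hvw : top g B (X - C s) e 1 v w ≠ 0) (hwv : top g B (X - C s) e 1 w v ≠ 0) :
    ∀ x, (∀ y, B (((cyc g _ v hv).coprod (cyc g _ w hw)) x) (((cyc g _ v hv).coprod (cyc g _ w hw)) y) = 0) →
      x = 0 := by
  rintro ⟨x, y⟩ hxy
  obtain ⟨r, rfl⟩ := AdjoinRoot.mk_surjective x
  obtain ⟨r', rfl⟩ := AdjoinRoot.mk_surjective y
  have hpair : ∀ k k', B (aeval g r v + aeval g r' w) (aeval g k v + aeval g k' w) = 0 := fun k k' => by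
    have := hxy (AdjoinRoot.mk _ k, AdjoinRoot.mk _ k')
    simpa only [LinearMap.coprod_apply, cyc_mk] using this
  suffices h : ∀ j ≤ e, (X - C s) ^ j ∣ r ∧ (X - C s) ^ j ∣ r' from
    Prod.ext (AdjoinRoot.mk_eq_zero.2 (h e le_rfl).1) (AdjoinRoot.mk_eq_zero.2 (h e le_rfl).2)
  intro j
  induction j with
  | zero => simp
  | succ j ih =>
    intro hj
    obtain ⟨⟨u, hu⟩, ⟨u', hu'⟩⟩ := ih (by omega)
    set d := e - 1 - j
    have key : ∀ z, B (aeval g (u * (X - C s) ^ (e - 1)) v) z + B (aeval g (u' * (X - C s) ^ (e - 1)) w) z =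
        B (aeval g r v + aeval g r' w) (aeval g (bar N ((X - C s) ^ d)) z) := fun z => by
      rw [← hB.adj hN hg, map_add, ← aeval_mul_apply, ← aeval_mul_apply, hu, hu', map_add, LinearMap.add_apply,
        ← mul_assoc, ← mul_assoc, ← pow_add, show d + j = e - 1 by omega, mul_comm u, mul_comm u']
    have e1 := key v
    have e2 := key w
    have p1 := hpair (bar N ((X - C s) ^ d)) 0
    have p2 := hpair 0 (bar N ((X - C s) ^ d))
    rw [map_zero, LinearMap.zero_apply, add_zero] at p1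
    rw [map_zero, LinearMap.zero_apply, zero_add] at p2
    rw [p1] at e1
    rw [p2] at e2
    simp only [← top.eq_1] at e1 e2
    rw [top_scalar he hv, top_scalar he hw, hvv, mul_zero, zero_add] at e1
    rw [top_scalar he hv, top_scalar he hw, hww, mul_zero, add_zero] at e2
    rw [pow_succ, hu, hu']
    exact ⟨mul_dvd_mul_left _ (dvd_iff_isRoot.2 ((mul_eq_zero.1 e2).resolve_right hvw)),
      mul_dvd_mul_left _ (dvd_iff_isRoot.2 ((mul_eq_zero.1 e1).resolve_right hwv))⟩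

section Cyclic

variable [Finite F] {p : F[X]} {e : ℕ} {β β' : LinearMap.BilinForm F (AdjoinRoot (p ^ e))}

theorem dvd_of_mulRoot_pow {f : F[X]} (hG : mulRoot f ^ N = 1) : f ∣ X ^ N - 1 := by
  rw [← AdjoinRoot.mk_eq_zero, map_sub, map_one, map_pow, AdjoinRoot.mk_X, sub_eq_zero]
  have := LinearMap.congr_fun hG 1
  rwa [mulRoot, LinearMap.pow_mulLeft, LinearMap.mulLeft_apply, mul_one, Module.End.one_apply] at this

omit [Finite F] in
theorem hom_cyc (hp : p ≠ 0) (he : 1 ≤ e) (x : AdjoinRoot (p ^ e))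
    (hx : aeval (mulRoot (p ^ e)) (p ^ (e - 1)) x = 0) : ∃ z, aeval (mulRoot (p ^ e)) p z = x := by
  obtain ⟨h, rfl⟩ := AdjoinRoot.mk_surjective x
  rw [aeval_mulRoot, ← map_mul, AdjoinRoot.mk_eq_zero] at hx
  have he' : p ^ e = p ^ (e - 1) * p := by rw [← pow_succ, Nat.sub_add_cancel he]
  obtain ⟨k, rfl⟩ := (mul_dvd_mul_iff_left (pow_ne_zero (e - 1) hp)).1 (he' ▸ hx)
  exact ⟨AdjoinRoot.mk _ k, by rw [aeval_mulRoot, ← map_mul]⟩

theorem cyc_eqv (h2 : (2 : F) ≠ 0) (hε : ε ≠ 0) (hN : 1 ≤ N) (hp : Irreducible p) (hpm : p.Monic) (he : 1 ≤ e)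
    (hG : mulRoot (p ^ e) ^ N = 1) (hβ : IForm ε (mulRoot (p ^ e)) β) (hβ' : IForm ε (mulRoot (p ^ e)) β')
    {c : F[X]} (hc : ∀ x y, β' x y = β (AdjoinRoot.mk (p ^ e) c * x) y) {a : F[X]}
    (hpc : ¬ p ∣ c) (ha : p ∣ a * bar N a - c) : Eqv (mulRoot (p ^ e)) β' (mulRoot (p ^ e)) β := by
  haveI := (hpm.pow e).finite_adjoinRoot
  have hpa : ¬ p ∣ a := fun hd => hpc (by simpa using dvd_sub (hd.mul_right (bar N a)) ha)
  have hinj : Function.Injective (LinearMap.mulLeft F (AdjoinRoot.mk (p ^ e) a)) := by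
    refine LinearMap.ker_eq_bot.1 (LinearMap.ker_eq_bot'.2 fun x hx => ?_)
    obtain ⟨h, rfl⟩ := AdjoinRoot.mk_surjective x
    rw [LinearMap.mulLeft_apply, ← map_mul, AdjoinRoot.mk_eq_zero] at hx
    rw [AdjoinRoot.mk_eq_zero]
    exact ((hp.coprime_iff_not_dvd.2 hpa).pow_left).dvd_of_dvd_mul_left hx
  set β'' := β.compl₁₂ (LinearMap.mulLeft F (AdjoinRoot.mk (p ^ e) a)) (LinearMap.mulLeft F (AdjoinRoot.mk (p ^ e) a))
  have he1 : Eqv (mulRoot (p ^ e)) β'' (mulRoot (p ^ e)) β :=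
    ⟨LinearEquiv.ofInjectiveEndo _ hinj, fun x => mul_left_comm (AdjoinRoot.mk (p ^ e) a) (AdjoinRoot.root (p ^ e)) x, fun x y => rfl⟩
  refine (congr_of_top h2 hε hN hG (hβ.map he1.symm) hβ' p e ?_ (hom_cyc hpm.ne_zero he) fun x y => ?_).trans he1
  · exact LinearMap.ext fun x => by rw [aeval_mulRoot, AdjoinRoot.mk_self, zero_mul]; rfl
  · obtain ⟨h, rfl⟩ := AdjoinRoot.mk_surjective x
    simp only [β'', LinearMap.compl₁₂_apply, LinearMap.mulLeft_apply, aeval_mulRoot]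
    rw [hc, ← aeval_mulRoot (p ^ e) a y, hβ.adj' hN hG, aeval_mulRoot, ← map_mul, ← map_mul, ← map_mul, ← map_mul]
    refine congrArg (fun z => β z y) (AdjoinRoot.mk_eq_mk.2 ?_)
    obtain ⟨k, hk⟩ := ha
    refine ⟨-(k * h), ?_⟩
    rw [show p ^ e = p ^ (e - 1) * p by rw [← pow_succ, Nat.sub_add_cancel he]]
    linear_combination (-(p ^ (e - 1) * h)) * hk

omit [Finite F] in
theorem cyc_op (hε : ε ≠ 0) (hN : 1 ≤ N) (hp : Irreducible p) (hpm : p.Monic) (he : 1 ≤ e)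
    (hG : mulRoot (p ^ e) ^ N = 1) (hβ : IForm ε (mulRoot (p ^ e)) β) (hβ' : IForm ε (mulRoot (p ^ e)) β') :
    ∃ c, (∀ x y, β' x y = β (AdjoinRoot.mk (p ^ e) c * x) y) ∧ p ^ e ∣ bar N c - c ∧ ¬ p ∣ c := by
  haveI := (hpm.pow e).finite_adjoinRoot
  obtain ⟨op, hop, hsa, hcomm, hinj⟩ := exists_op hε hN hG hβ hβ'
  obtain ⟨c, hc⟩ := AdjoinRoot.mk_surjective (op 1)
  have hval : ∀ x, op x = AdjoinRoot.mk (p ^ e) c * x := fun x => by
    obtain ⟨h, rfl⟩ := AdjoinRoot.mk_surjective x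
    have h1 := aeval_equiv (g := mulRoot (p ^ e)) (g' := mulRoot (p ^ e)) op hcomm h 1
    rwa [aeval_mulRoot, mul_one, aeval_mulRoot, ← hc, mul_comm] at h1
  refine ⟨c, fun x y => by rw [hop, hval], ?_, fun hd => ?_⟩
  · rw [← AdjoinRoot.mk_eq_zero]
    refine hβ.sep _ fun y => ?_
    have h1 := hsa 1 y
    rw [hval, hval, mul_one, ← aeval_mulRoot, hβ.adj' hN hG, aeval_mulRoot, mul_one] at h1
    rw [map_sub, map_sub, LinearMap.sub_apply, ← h1, sub_self]
  · have h1 : op (AdjoinRoot.mk (p ^ e) (p ^ (e - 1))) = 0 := by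
      rw [hval, ← map_mul, AdjoinRoot.mk_eq_zero]
      obtain ⟨k, rfl⟩ := hd
      refine ⟨k, ?_⟩
      rw [show p ^ e = p * p ^ (e - 1) by rw [← pow_succ', Nat.sub_add_cancel he]]
      ring
    rw [← map_zero op] at h1
    have h2 := AdjoinRoot.mk_eq_zero.1 (hinj h1)
    have h3 := natDegree_le_of_dvd h2 (pow_ne_zero _ hpm.ne_zero)
    rw [natDegree_pow, natDegree_pow] at h3
    have := Nat.mul_lt_mul_of_pos_right (show e - 1 < e by omega) hp.natDegree_pos
    omega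

/-- Away from `±1` all forms on a cyclic piece are congruent. -/
theorem cyc_eqv_of_not_root (h2 : (2 : F) ≠ 0) (hε : ε ≠ 0) (hN : 1 ≤ N) (hp : Irreducible p) (hpm : p.Monic)
    (he : 1 ≤ e) (hG : mulRoot (p ^ e) ^ N = 1) (hβ : IForm ε (mulRoot (p ^ e)) β)
    (hβ' : IForm ε (mulRoot (p ^ e)) β') (hself : p ∣ bar N p) (hroot : ¬ p ∣ X ^ 2 - 1) :
    Eqv (mulRoot (p ^ e)) β' (mulRoot (p ^ e)) β := by
  classical
  obtain ⟨c, hc, hcc, hpc⟩ := cyc_op hε hN hp hpm he hG hβ hβ'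
  haveI := Fintype.ofFinite F
  haveI : Fact (Irreducible p) := ⟨hp⟩
  haveI : Module.Finite F (AdjoinRoot p) := hpm.finite_adjoinRoot
  haveI : Finite (AdjoinRoot p) := Module.finite_of_finite F
  haveI := Fintype.ofFinite (AdjoinRoot p)
  have hpN : p ∣ X ^ N - 1 := (dvd_pow_self p (by omega : e ≠ 0)).trans (dvd_of_mulRoot_pow hG)
  let σh : AdjoinRoot p →ₐ[F] AdjoinRoot p :=
    AdjoinRoot.liftAlgHom p (Algebra.ofId F (AdjoinRoot p)) (AdjoinRoot.root p ^ (N - 1)) (by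
      have h0 := AdjoinRoot.mk_eq_zero.2 hself
      rw [← AdjoinRoot.aeval_eq, bar, aeval_comp, map_pow, aeval_X] at h0
      exact h0)
  let σ : AdjoinRoot p →+* AdjoinRoot p := σh.toRingHom
  have hσ : ∀ h, σ (AdjoinRoot.mk p h) = AdjoinRoot.mk p (bar N h) := fun h => by
    show σh (AdjoinRoot.mk p h) = _
    rw [← AdjoinRoot.aeval_eq, ← Polynomial.aeval_algHom_apply, ← AdjoinRoot.aeval_eq (bar N h), bar, aeval_comp,
      map_pow, aeval_X]
    congr 1
    exact congrArg _ (AdjoinRoot.liftAlgHom_root _ _ _ _)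
  have hσσ : ∀ x, σ (σ x) = x := fun x => by
    obtain ⟨h, rfl⟩ := AdjoinRoot.mk_surjective x
    rw [hσ, hσ, AdjoinRoot.mk_eq_mk]
    exact dvd_bar_bar_sub hpN hN h
  have hw : σ (AdjoinRoot.root p) ≠ AdjoinRoot.root p := fun h => hroot (by
    rw [← AdjoinRoot.mk_eq_zero, map_sub, map_one, map_pow, AdjoinRoot.mk_X, sub_eq_zero]
    rw [← AdjoinRoot.mk_X, hσ, bar, X_comp, map_pow, AdjoinRoot.mk_X] at h
    rw [pow_two]
    conv_lhs => arg 2; rw [← h]
    rw [← pow_succ', Nat.sub_add_cancel hN, root_pow_eq_one hpN])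
  have hc0 : AdjoinRoot.mk p c ≠ 0 := fun h => hpc (AdjoinRoot.mk_eq_zero.1 h)
  have hcσ : σ (AdjoinRoot.mk p c) = AdjoinRoot.mk p c := by
    rw [hσ, AdjoinRoot.mk_eq_mk]
    exact (dvd_pow_self p (by omega : e ≠ 0)).trans hcc
  obtain ⟨S, -, hS, -⟩ := HermitianFactor.exists_factor (n := 1) hσσ hw
    (H := Matrix.of fun _ _ => AdjoinRoot.mk p c)
    (by ext i j; simp [HermitianFactor.dagger, hcσ])
    (by rw [Matrix.isUnit_iff_isUnit_det, Matrix.det_fin_one]; exact isUnit_iff_ne_zero.2 hc0)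
  obtain ⟨a, ha⟩ := AdjoinRoot.mk_surjective (S 0 0)
  refine cyc_eqv h2 hε hN hp hpm he hG hβ hβ' hc hpc (a := a) ?_
  have h00 := congrFun (congrFun hS 0) 0
  simp only [Matrix.mul_apply, Fintype.univ_ofSubsingleton, Finset.sum_singleton, HermitianFactor.dagger,
    Matrix.transpose_apply, Matrix.map_apply, Matrix.of_apply, Fin.zero_eta, Fin.isValue] at h00
  rw [Fin.sum_univ_one, ← ha, hσ, ← map_mul, mul_comm] at h00
  exact AdjoinRoot.mk_eq_mk.1 h00

/-- At a root `s = ±1` the square class of the bottom value decides. -/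
theorem cyc_eqv_of_sq (h2 : (2 : F) ≠ 0) (hε : ε ≠ 0) (hN : 1 ≤ N) {s : F} (hps : p = X - C s) (he : 1 ≤ e)
    (hG : mulRoot (p ^ e) ^ N = 1) (hβ : IForm ε (mulRoot (p ^ e)) β) (hβ' : IForm ε (mulRoot (p ^ e)) β')
    {a : F} (ha : top (mulRoot (p ^ e)) β' p e 1 1 1 = a ^ 2 * top (mulRoot (p ^ e)) β p e 1 1 1) :
    Eqv (mulRoot (p ^ e)) β' (mulRoot (p ^ e)) β := by
  subst hps
  have hp : Irreducible (X - C s) := irreducible_X_sub_C s
  obtain ⟨c, hc, -, hpc⟩ := cyc_op hε hN hp (monic_X_sub_C s) he hG hβ hβ'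
  have h1' : aeval (mulRoot ((X - C s) ^ e)) ((X - C s) ^ e) (1 : AdjoinRoot ((X - C s) ^ e)) = 0 := by
    rw [aeval_mulRoot, AdjoinRoot.mk_self, zero_mul]
  have h3 : top (mulRoot ((X - C s) ^ e)) β' (X - C s) e 1 1 1 = top (mulRoot ((X - C s) ^ e)) β (X - C s) e c 1 1 := by
    rw [top, top, aeval_mulRoot, aeval_mulRoot, hc, one_mul, mul_one, mul_one, map_mul (AdjoinRoot.mk _)]
  rw [h3, top_scalar he h1'] at ha
  have ht : top (mulRoot ((X - C s) ^ e)) β (X - C s) e 1 1 1 ≠ 0 := fun h0 => by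
    have hz : AdjoinRoot.mk ((X - C s) ^ e) ((X - C s) ^ (e - 1)) = 0 := hβ.sep _ fun y => by
      obtain ⟨k, rfl⟩ := AdjoinRoot.mk_surjective y
      have h4 := top_scalar (g := mulRoot ((X - C s) ^ e)) (B := β) he h1' (bar N k) 1
      rw [h0, mul_zero, top, aeval_mul_apply, hβ.adj hN hG, aeval_bar_bar hG hN] at h4
      simp only [one_mul, aeval_mulRoot, mul_one] at h4
      exact h4
    have h5 := natDegree_le_of_dvd (AdjoinRoot.mk_eq_zero.1 hz) (pow_ne_zero _ (X_sub_C_ne_zero s))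
    simp [natDegree_pow] at h5
    omega
  refine cyc_eqv h2 hε hN hp (monic_X_sub_C s) he hG hβ hβ' hc hpc (a := C a) ?_
  rw [dvd_iff_isRoot, IsRoot, bar, C_comp, eval_sub, eval_mul, eval_C, mul_right_cancel₀ ht ha, pow_two, sub_self]

end Cyclic

section Pair

variable [Finite F] {p q : F[X]} {e : ℕ}

/-- All forms on a pair of exchanged components are congruent. -/
theorem pair_eqv_ne (hε : ε ≠ 0) (hN : 1 ≤ N) (hp : Irreducible p) (hq : Irreducible q) (hpm : p.Monic)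
    (hqm : q.Monic) (hco : ¬ p ∣ q) (hnp : ¬ p ∣ bar N p) (hnq : ¬ q ∣ bar N q)
    {β β' : LinearMap.BilinForm F (AdjoinRoot (p ^ e) × AdjoinRoot (q ^ e))}
    (hG : (mulRoot (p ^ e)).prodMap (mulRoot (q ^ e)) ^ N = 1)
    (hβ : IForm ε ((mulRoot (p ^ e)).prodMap (mulRoot (q ^ e))) β)
    (hβ' : IForm ε ((mulRoot (p ^ e)).prodMap (mulRoot (q ^ e))) β') :
    Eqv ((mulRoot (p ^ e)).prodMap (mulRoot (q ^ e))) β' ((mulRoot (p ^ e)).prodMap (mulRoot (q ^ e))) β := by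
  haveI := (hpm.pow e).finite_adjoinRoot
  haveI := (hqm.pow e).finite_adjoinRoot
  set G := (mulRoot (p ^ e)).prodMap (mulRoot (q ^ e)) with hGdef
  obtain ⟨c, hc, hsa, hcomm, hinj⟩ := exists_op hε hN hG hβ hβ'
  have hkp : ∀ x : AdjoinRoot (p ^ e), aeval G (p ^ e) (x, 0) = 0 := fun x => by
    rw [hGdef, aeval_pair, AdjoinRoot.mk_self, zero_mul, mul_zero]; rfl
  have hkq : ∀ y : AdjoinRoot (q ^ e), aeval G (q ^ e) (0, y) = 0 := fun y => by
    rw [hGdef, aeval_pair, AdjoinRoot.mk_self, zero_mul, mul_zero]; rfl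
  obtain ⟨a, b, hab⟩ := (hp.coprime_iff_not_dvd.2 hco).pow (m := e) (n := e)
  have hc1 : ∀ x, (c (x, 0)).2 = 0 := fun x => by
    have h1 : aeval G (p ^ e) (c (x, 0)) = 0 := by rw [← aeval_equiv c hcomm, hkp, map_zero]
    have h2 : AdjoinRoot.mk (q ^ e) (p ^ e) * (c (x, 0)).2 = 0 := by
      rw [hGdef, aeval_pair] at h1; exact congrArg Prod.snd h1
    calc (c (x, 0)).2 = AdjoinRoot.mk (q ^ e) (a * p ^ e + b * q ^ e) * (c (x, 0)).2 := by rw [hab, map_one, one_mul]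
      _ = 0 := by
        rw [map_add, map_mul (AdjoinRoot.mk _) a, map_mul (AdjoinRoot.mk _) b, AdjoinRoot.mk_self, mul_zero,
          add_zero, mul_assoc, h2, mul_zero]
  have hisoP : ∀ x x' : AdjoinRoot (p ^ e), β (x, 0) (x', 0) = 0 ∧ β' (x, 0) (x', 0) = 0 := fun x x' =>
    ⟨isotropic_of_coprime hN hG hβ hp hnp (hkp x) (hkp x'), isotropic_of_coprime hN hG hβ' hp hnp (hkp x) (hkp x')⟩
  have hisoQ : ∀ y y' : AdjoinRoot (q ^ e), β (0, y) (0, y') = 0 ∧ β' (0, y) (0, y') = 0 := fun y y' =>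
    ⟨isotropic_of_coprime hN hG hβ hq hnq (hkq y) (hkq y'), isotropic_of_coprime hN hG hβ' hq hnq (hkq y) (hkq y')⟩
  let D : Module.End F (AdjoinRoot (p ^ e) × AdjoinRoot (q ^ e)) :=
    LinearMap.prodMap (LinearMap.fst F _ _ ∘ₗ c ∘ₗ LinearMap.inl F _ _) LinearMap.id
  have hD1 : ∀ x, ((c (x, 0)).1, (0 : AdjoinRoot (q ^ e))) = c (x, 0) := fun x => Prod.ext rfl (hc1 x).symm
  have hDinj : Function.Injective D := LinearMap.ker_eq_bot.1 (LinearMap.ker_eq_bot'.2 (by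
    rintro ⟨x, y⟩ h
    obtain ⟨h1, rfl⟩ : (c (x, 0)).1 = 0 ∧ y = 0 := Prod.ext_iff.1 h
    exact hinj ((Prod.ext h1 (hc1 x) : c (x, 0) = 0).trans (map_zero c).symm)))
  refine ⟨LinearEquiv.ofInjectiveEndo D hDinj, fun x => ?_, fun x y => ?_⟩
  · refine Prod.ext ?_ rfl
    show (c (mulRoot (p ^ e) x.1, 0)).1 = mulRoot (p ^ e) (c (x.1, 0)).1
    rw [show ((mulRoot (p ^ e) x.1, 0) : AdjoinRoot (p ^ e) × AdjoinRoot (q ^ e)) = G (x.1, 0) from
      Prod.ext rfl (map_zero (mulRoot (q ^ e))).symm, hcomm]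
    rfl
  · obtain ⟨x, x'⟩ := x
    obtain ⟨y, y'⟩ := y
    show β ((c (x, 0)).1, x') ((c (y, 0)).1, y') = β' (x, x') (y, y')
    have hsplit : ∀ (u : AdjoinRoot (p ^ e)) (u' : AdjoinRoot (q ^ e)), (u, u') = ((u, 0) : _ × AdjoinRoot (q ^ e)) + (0, u') :=
      fun u u' => by simp
    rw [hsplit _ x', hsplit _ y', hsplit x x', hsplit y y']
    simp only [map_add, LinearMap.add_apply]
    rw [(hisoP _ _).1, (hisoQ _ _).1, (hisoP _ _).2, (hisoQ _ _).2, hc (x, 0) (0, y'), hc (0, x') (y, 0),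
      hsa (0, x') (y, 0), hD1, hD1]

omit [Finite F] in
/-- On a pair at `±1` the four bottom values determine the bottom pairing. -/
theorem pair_top_det {s : F} (he : 1 ≤ e) (hN : 1 ≤ N)
    {β β' : LinearMap.BilinForm F (AdjoinRoot ((X - C s) ^ e) × AdjoinRoot ((X - C s) ^ e))}
    (hG : (mulRoot ((X - C s) ^ e)).prodMap (mulRoot ((X - C s) ^ e)) ^ N = 1)
    (hβ : IForm ε ((mulRoot ((X - C s) ^ e)).prodMap (mulRoot ((X - C s) ^ e))) β)
    (hβ' : IForm ε ((mulRoot ((X - C s) ^ e)).prodMap (mulRoot ((X - C s) ^ e))) β')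
    (h : ∀ i j : Fin 2, top ((mulRoot ((X - C s) ^ e)).prodMap (mulRoot ((X - C s) ^ e))) β' (X - C s) e 1
        (![(1, 0), (0, 1)] i) (![(1, 0), (0, 1)] j) =
      top ((mulRoot ((X - C s) ^ e)).prodMap (mulRoot ((X - C s) ^ e))) β (X - C s) e 1
        (![(1, 0), (0, 1)] i) (![(1, 0), (0, 1)] j))
    (x y : AdjoinRoot ((X - C s) ^ e) × AdjoinRoot ((X - C s) ^ e)) :
    β' (aeval ((mulRoot ((X - C s) ^ e)).prodMap (mulRoot ((X - C s) ^ e))) ((X - C s) ^ (e - 1)) x) y =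
      β (aeval ((mulRoot ((X - C s) ^ e)).prodMap (mulRoot ((X - C s) ^ e))) ((X - C s) ^ (e - 1)) x) y := by
  set G := (mulRoot ((X - C s) ^ e)).prodMap (mulRoot ((X - C s) ^ e)) with hGdef
  obtain ⟨x₁, x₂⟩ := x
  obtain ⟨y₁, y₂⟩ := y
  obtain ⟨a₁, rfl⟩ := AdjoinRoot.mk_surjective x₁
  obtain ⟨a₂, rfl⟩ := AdjoinRoot.mk_surjective x₂
  obtain ⟨b₁, rfl⟩ := AdjoinRoot.mk_surjective y₁
  obtain ⟨b₂, rfl⟩ := AdjoinRoot.mk_surjective y₂
  have hx : ∀ z : AdjoinRoot ((X - C s) ^ e) × AdjoinRoot ((X - C s) ^ e), aeval G ((X - C s) ^ e) z = 0 := fun z => by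
    rw [hGdef, aeval_pair, AdjoinRoot.mk_self, zero_mul, zero_mul]; rfl
  have hsplit : ∀ a a' : F[X], (AdjoinRoot.mk ((X - C s) ^ e) a, AdjoinRoot.mk ((X - C s) ^ e) a') =
      aeval G a (1, 0) + aeval G a' (0, 1) := fun a a' => by
    rw [hGdef, aeval_pair, aeval_pair]; simp
  have hred : ∀ (γ : LinearMap.BilinForm F (AdjoinRoot ((X - C s) ^ e) × AdjoinRoot ((X - C s) ^ e))),
      IForm ε G γ → ∀ (a b : F[X]) u v, γ (aeval G ((X - C s) ^ (e - 1)) (aeval G a u)) (aeval G b v) =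
        (bar N b * a).eval s * top G γ (X - C s) e 1 u v := fun γ hγ a b u v => by
    rw [← top_scalar he (hx u), top, ← aeval_mul_apply, hγ.adj' hN hG, ← aeval_mul_apply]
    congr 3
    ring
  have e00 := h 0 0
  have e01 := h 0 1
  have e10 := h 1 0
  have e11 := h 1 1
  simp only [Matrix.cons_val_zero, Matrix.cons_val_one, Matrix.cons_val_fin_one] at e00 e01 e10 e11
  rw [hsplit a₁ a₂, hsplit b₁ b₂]
  simp only [map_add, LinearMap.add_apply, hred β' hβ', hred β hβ, e00, e01, e10, e11]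

/-- All forms on an alternating pair at `±1` are congruent. -/
theorem pair_eqv_alt (h2 : (2 : F) ≠ 0) (hε : ε ≠ 0) (hN : 1 ≤ N) {s : F} (hs : s * s = 1) (he : 1 ≤ e)
    (halt : ε * (-1) ^ (e - 1) = -1)
    {β β' : LinearMap.BilinForm F (AdjoinRoot ((X - C s) ^ e) × AdjoinRoot ((X - C s) ^ e))}
    (hG : (mulRoot ((X - C s) ^ e)).prodMap (mulRoot ((X - C s) ^ e)) ^ N = 1)
    (hβ : IForm ε ((mulRoot ((X - C s) ^ e)).prodMap (mulRoot ((X - C s) ^ e))) β)
    (hβ' : IForm ε ((mulRoot ((X - C s) ^ e)).prodMap (mulRoot ((X - C s) ^ e))) β') :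
    Eqv ((mulRoot ((X - C s) ^ e)).prodMap (mulRoot ((X - C s) ^ e))) β'
      ((mulRoot ((X - C s) ^ e)).prodMap (mulRoot ((X - C s) ^ e))) β := by
  haveI := ((monic_X_sub_C s).pow e).finite_adjoinRoot
  set G := (mulRoot ((X - C s) ^ e)).prodMap (mulRoot ((X - C s) ^ e)) with hGdef
  have hx : ∀ z : AdjoinRoot ((X - C s) ^ e) × AdjoinRoot ((X - C s) ^ e), aeval G ((X - C s) ^ e) z = 0 := fun z => by
    rw [hGdef, aeval_pair, AdjoinRoot.mk_self, zero_mul, zero_mul]; rfl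
  have hne : ∀ {γ}, IForm ε G γ → top G γ (X - C s) e 1 (1, 0) (0, 1) ≠ 0 := fun {γ} hγ h0 => by
    have hz : aeval G ((X - C s) ^ (e - 1)) (1, 0) = 0 := hγ.sep _ fun y => by
      obtain ⟨y₁, y₂⟩ := y
      obtain ⟨b₁, rfl⟩ := AdjoinRoot.mk_surjective y₁
      obtain ⟨b₂, rfl⟩ := AdjoinRoot.mk_surjective y₂
      have hb : ∀ b u v, γ (aeval G ((X - C s) ^ (e - 1)) u) (aeval G b v) = top G γ (X - C s) e (bar N b) u v :=
        fun b u v => by rw [hγ.adj' hN hG, ← aeval_mul_apply]; rfl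
      rw [show (AdjoinRoot.mk ((X - C s) ^ e) b₁, AdjoinRoot.mk ((X - C s) ^ e) b₂) =
        aeval G b₁ (1, 0) + aeval G b₂ (0, 1) by rw [hGdef, aeval_pair, aeval_pair]; simp]
      rw [map_add, hb, hb, top_scalar he (hx _) (bar N b₁), top_scalar he (hx _) (bar N b₂),
        top_self_eq_zero h2 hN hG hγ hs he halt (hx _), h0, mul_zero, mul_zero, add_zero]
    rw [hGdef, aeval_pair, mul_one] at hz
    have h5 := natDegree_le_of_dvd (AdjoinRoot.mk_eq_zero.1 (congrArg Prod.fst hz)) (pow_ne_zero _ (X_sub_C_ne_zero s))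
    simp [natDegree_pow] at h5
    omega
  set a : F := top G β' (X - C s) e 1 (1, 0) (0, 1) / top G β (X - C s) e 1 (1, 0) (0, 1) with hadef
  have ha : a ≠ 0 := div_ne_zero (hne hβ') (hne hβ)
  let D : Module.End F (AdjoinRoot ((X - C s) ^ e) × AdjoinRoot ((X - C s) ^ e)) :=
    LinearMap.prodMap (a • LinearMap.id) LinearMap.id
  have hDinj : Function.Injective D := fun x y h => Prod.ext
    (smul_right_injective _ ha (congrArg Prod.fst h)) (congrArg Prod.snd h :)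
  set β'' := β.compl₁₂ D D
  have hDG : ∀ x, D (G x) = G (D x) := fun x => Prod.ext ((map_smul (mulRoot ((X - C s) ^ e)) a x.1).symm) rfl
  have he1 : Eqv G β'' G β := ⟨LinearEquiv.ofInjectiveEndo D hDinj, hDG, fun x y => rfl⟩
  have hβ'' := hβ.map he1.symm
  refine (congr_of_top h2 hε hN hG hβ'' hβ' (X - C s) e (LinearMap.ext hx) ?_ fun x y => ?_).trans he1
  · rintro ⟨x₁, x₂⟩ h
    rw [hGdef, aeval_pair, Prod.mk_eq_zero, ← aeval_mulRoot, ← aeval_mulRoot] at h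
    obtain ⟨z₁, hz₁⟩ := hom_cyc (X_sub_C_ne_zero s) he x₁ h.1
    obtain ⟨z₂, hz₂⟩ := hom_cyc (X_sub_C_ne_zero s) he x₂ h.2
    exact ⟨(z₁, z₂), by rw [hGdef, aeval_prodMap, hz₁, hz₂]⟩
  · refine pair_top_det he hN hG hβ'' hβ' ?_ x y
    have h01 : top G β' (X - C s) e 1 (1, 0) (0, 1) = top G β'' (X - C s) e 1 (1, 0) (0, 1) := by
      simp only [top, β'', LinearMap.compl₁₂_apply]
      rw [aeval_equiv D hDG]
      have hD1 : D ((1, 0) : AdjoinRoot ((X - C s) ^ e) × AdjoinRoot ((X - C s) ^ e)) = a • (1, 0) :=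
        Prod.ext rfl (smul_zero a).symm
      have hD2 : D ((0, 1) : AdjoinRoot ((X - C s) ^ e) × AdjoinRoot ((X - C s) ^ e)) = (0, 1) :=
        Prod.ext (smul_zero a) rfl
      rw [hD1, hD2, map_smul, map_smul, LinearMap.smul_apply, smul_eq_mul, hadef]
      exact (div_mul_cancel₀ _ (hne hβ)).symm
    intro i j
    fin_cases i <;> fin_cases j <;> simp only [Fin.zero_eta, Fin.mk_one, Matrix.cons_val_zero, Matrix.cons_val_one,
      Matrix.cons_val_fin_one]
    · rw [top_self_eq_zero h2 hN hG hβ' hs he halt (hx _), top_self_eq_zero h2 hN hG hβ'' hs he halt (hx _)]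
    · exact h01
    · rw [top_symm hN hG hβ' hs he (x := (1, 0)) (hx _), top_symm hN hG hβ'' hs he (x := (1, 0)) (hx _), h01]
    · rw [top_self_eq_zero h2 hN hG hβ' hs he halt (hx _), top_self_eq_zero h2 hN hG hβ'' hs he halt (hx _)]

end Pair

end Cfsg.Lib.Linear.ClassSp
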