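import Cfsg.Agent.Lib.Linear.ClassSp.LowerOrth
import Cfsg.Agent.Lib.Linear.OrthBasic

/-!
# The class number of the isometry group of a quadratic form in even dimension
-/

set_option autoImplicit false

universe u

namespace Cfsg.Lib.Linear.ClassSp

open Matrix Cfsg.Lib.Linear.Orth

variable {F : Type u} [Field F] [Fintype F]

theorem card_conj_congr {G H : Type*} [Group G] [Group H] (e : G ≃* H) :
    Nat.card (ConjClasses G) = Nat.card (ConjClasses H) := by
  refine Nat.card_congr (Equiv.ofBijective (ConjClasses.map e.toMonoidHom) ⟨fun a b h => ?_,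
    ConjClasses.map_surjective e.surjective⟩)
  obtain ⟨a, rfl⟩ := ConjClasses.mk_surjective a
  obtain ⟨b, rfl⟩ := ConjClasses.mk_surjective b
  refine ConjClasses.mk_eq_mk_iff_isConj.2 ?_
  simpa using e.symm.toMonoidHom.map_isConj (ConjClasses.mk_eq_mk_iff_isConj.1
    (show ConjClasses.mk (e a) = ConjClasses.mk (e b) from h))

theorem class_bounds {ι : Type} [Fintype ι] [DecidableEq ι] {Q : (ι → F) → F}
    {B : LinearMap.BilinForm F (ι → F)} (C : Space Q B) {k : ℕ} (hk : 2 ≤ k) (hι : Fintype.card ι = 2 * k)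
    (h2 : (2 : F) ≠ 0) (h3 : 3 ≤ Fintype.card F) :
    Fintype.card F ^ k ≤ 2 * Nat.card (ConjClasses ↥(isometryGroup F Q)) ∧
      2 * Nat.card (ConjClasses ↥(isometryGroup F Q)) ≤ 19 * Fintype.card F ^ k := by
  classical
  let e : ι ≃ Fin (2 * k) := Fintype.equivFinOfCardEq hι
  let re : Matrix ι ι F ≃ₐ[F] Matrix (Fin (2 * k)) (Fin (2 * k)) F := Matrix.reindexAlgEquiv F F e
  set M : Matrix ι ι F := LinearMap.BilinForm.toMatrix' B with hM
  have hBM : ∀ v w, B v w = v ⬝ᵥ M *ᵥ w := fun v w => by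
    rw [← Matrix.toBilin'_apply', hM, Matrix.toBilin'_toMatrix']
  have hMT : Mᵀ = M := Matrix.ext fun i j => by
    rw [Matrix.transpose_apply, hM, LinearMap.BilinForm.toMatrix'_apply, LinearMap.BilinForm.toMatrix'_apply, C.symm]
  have hMd : M.det ≠ 0 := Matrix.Nondegenerate.det_ne_zero (Matrix.nondegenerate_toBilin'_iff.1 (by
    rw [hM, Matrix.toBilin'_toMatrix', LinearMap.BilinForm.nondegenerate_iff_ker_eq_bot]
    exact LinearMap.ker_eq_bot'.2 fun v hv => C.nondeg' fun u => by rw [hv, LinearMap.zero_apply]))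
  have hJd : (re M).det ≠ 0 := by
    show (Matrix.reindex e e M).det ≠ 0
    rwa [Matrix.det_reindex_self]
  set J : GL (Fin (2 * k)) F := GeneralLinearGroup.mkOfDetNeZero (re M) hJd with hJdef
  have htr : ∀ X : Matrix ι ι F, re Xᵀ = (re X)ᵀ := fun X => by simp [re, Matrix.transpose_reindex]
  have hJ : J.1ᵀ = J.1 := by
    show (re M)ᵀ = re M
    rw [← htr, hMT]
  let f : GL ι F ≃* GL (Fin (2 * k)) F := Units.mapEquiv re.toMulEquiv
  have hmem : ∀ g : GL ι F, f g ∈ isoM J ↔ g ∈ isometryGroup F Q := fun g => by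
    have h1 : f g ∈ isoM J ↔ g.1ᵀ * M * g.1 = M := by
      rw [mem_isoM]
      show (re g.1)ᵀ * re M * re g.1 = re M ↔ _
      rw [← htr, ← map_mul, ← map_mul, re.injective.eq_iff]
    rw [h1, mem_iso]
    constructor
    · intro h v
      refine mul_left_cancel₀ h2 ?_
      rw [← C.self, ← C.self, hBM, hBM]
      conv_rhs => rw [← h]
      rw [← Matrix.mulVec_mulVec, ← Matrix.mulVec_mulVec, Matrix.dotProduct_mulVec v, Matrix.vecMul_transpose]
    · intro h
      apply Matrix.toBilin'.injective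
      refine LinearMap.ext₂ fun v w => ?_
      rw [Matrix.toBilin'_apply', Matrix.toBilin'_apply', ← Matrix.mulVec_mulVec, ← Matrix.mulVec_mulVec,
        Matrix.dotProduct_mulVec v, Matrix.vecMul_transpose, ← hBM, ← hBM]
      exact C.B_act (mem_iso.2 h) v w
  have hmap : (isometryGroup F Q).map f.toMonoidHom = isoM J := by
    ext z
    obtain ⟨g, rfl⟩ := f.surjective z
    rw [hmem]
    exact Subgroup.mem_map_iff_mem f.injective
  have hcard : Nat.card (ConjClasses ↥(isometryGroup F Q)) = Nat.card (ConjClasses ↥(isoM J)) :=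
    card_conj_congr (((isometryGroup F Q).equivMapOfInjective f.toMonoidHom f.injective).trans
      (MulEquiv.subgroupCongr hmap))
  rw [hcard]
  refine ⟨card_pow_le rfl hk h2 hJ, ?_⟩
  exact (two_mul_card_classes_le rfl h2 rfl hJ).trans (NO_add_NP_le h3 (2 * k) k)

end Cfsg.Lib.Linear.ClassSp
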