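import Cfsg.Agent.Lib.Linear.OrthSpinor
import Cfsg.Agent.Lib.Linear.ClassSp.Orbits
import Cfsg.Agent.Lib.Linear.ClassSp.IndexTwo

/-!
# The index two subgroup `Ω × {±1}` of an odd orthogonal group

An isometry with a repeated Jordan block of size one at `±1` commutes with reflections of both spinor norms,
so its centralizer leaves the subgroup.
-/

set_option autoImplicit false

universe u

namespace Cfsg.Lib.Linear.ClassSp

open Module Polynomial Cfsg.Lib.Linear.Orth
open scoped Matrix

variable {F : Type u} [Field F] {ι : Type} [Fintype ι] [DecidableEq ι]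
  {Q : (ι → F) → F} {B : LinearMap.BilinForm F (ι → F)}

/-- A subspace whose radical has codimension at least two represents every non-zero value. -/
theorem exists_value_in [Finite F] (C : Space Q B) (h2 : (2 : F) ≠ 0) (E : Submodule F (ι → F))
    (hE : ∀ K ≤ E, (∀ x ∈ K, ∀ e ∈ E, B x e = 0) → finrank F K + 2 ≤ finrank F E) {d : F} (hd : d ≠ 0) :
    ∃ v ∈ E, Q v = d := by
  haveI := Fintype.ofFinite F
  have hiso : ∀ S : Submodule F (ι → F), (∀ x ∈ S, Q x = 0) → ∀ x ∈ S, ∀ y ∈ S, B x y = 0 := fun S hS x hx y hy => by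
    have := C.add x y
    rw [hS _ (add_mem hx hy), hS x hx, hS y hy] at this
    linear_combination -this
  obtain ⟨u, huE, hu⟩ : ∃ u ∈ E, Q u ≠ 0 := by
    by_contra h
    push_neg at h
    have := hE E le_rfl (hiso E h)
    omega
  set E' : Submodule F (ι → F) := E ⊓ LinearMap.ker (B u) with hE'
  have hBu : B u u ≠ 0 := by rw [C.self]; exact mul_ne_zero h2 hu
  have hproj : ∀ e ∈ E, e - ((B u u)⁻¹ * B u e) • u ∈ E' := fun e he => by
    refine ⟨sub_mem he (E.smul_mem _ huE), ?_⟩
    show B u _ = 0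
    rw [map_sub, map_smul, smul_eq_mul]
    field_simp
    ring
  obtain ⟨w, hw, hQw⟩ : ∃ w ∈ E', Q w ≠ 0 := by
    by_contra h
    push_neg at h
    have h1 := hE E' inf_le_left fun x hx e he => by
      have h3 := hiso E' h x hx _ (hproj e he)
      rwa [map_sub, map_smul, C.symm x u, show B u x = 0 from LinearMap.mem_ker.1 hx.2, smul_zero, sub_zero] at h3
    have h3 : E ≤ E' ⊔ Submodule.span F {u} := fun e he => by
      have := Submodule.add_mem_sup (hproj e he) (Submodule.smul_mem _ ((B u u)⁻¹ * B u e) (Submodule.mem_span_singleton_self u))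
      rwa [sub_add_cancel] at this
    have h4 := (Submodule.finrank_mono h3).trans (Submodule.finrank_add_le_finrank_add_finrank _ _)
    have h5 : finrank F (Submodule.span F {u}) ≤ 1 := le_of_eq (finrank_span_singleton fun h0 => hu (h0 ▸ C.zero))
    omega
  obtain ⟨a, b, hab⟩ := FiniteField.exists_root_sum_quadratic
    (f := Polynomial.C (Q u) * Polynomial.X ^ 2)
    (g := Polynomial.C (Q w) * Polynomial.X ^ 2 - Polynomial.C d)
    (Polynomial.degree_C_mul_X_pow 2 hu)
    (by
      rw [Polynomial.degree_sub_eq_left_of_degree_lt, Polynomial.degree_C_mul_X_pow 2 hQw]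
      · rfl
      · rw [Polynomial.degree_C_mul_X_pow 2 hQw, Polynomial.degree_C hd]; decide)
    (FiniteField.odd_card_of_char_ne_two fun h => h2 (by
      haveI : CharP F 2 := ringChar.of_eq h
      exact CharTwo.two_eq_zero))
  refine ⟨a • u + b • w, add_mem (E.smul_mem _ huE) (E.smul_mem _ hw.1), ?_⟩
  rw [C.smul_add, LinearMap.mem_ker.mp hw.2]
  simp at hab
  linear_combination hab

variable [Fintype F]

theorem neg_one_mem (C : Space Q B) : (-1 : GL ι F) ∈ isometryGroup F Q :=
  mem_iso.2 fun v => by rw [Units.val_neg, Units.val_one, Matrix.neg_mulVec, Matrix.one_mulVec, C.neg]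

/-- The scalar `-1`. -/
def zI (C : Space Q B) : ↥(isometryGroup F Q) := ⟨-1, neg_one_mem C⟩

theorem zI_sq (C : Space Q B) : zI C * zI C = 1 := Subtype.ext (show (-1 : GL ι F) * -1 = 1 by rw [neg_mul_neg, one_mul])

theorem zI_comm (C : Space Q B) (x : ↥(isometryGroup F Q)) : Commute (zI C) x :=
  Subtype.ext (show (-1 : GL ι F) * x.1 = x.1 * -1 by rw [neg_one_mul, mul_neg_one])

open scoped Classical in
/-- The sign of the determinant. -/
noncomputable def dsgn (C : Space Q B) (h2 : (2 : F) ≠ 0) : ↥(isometryGroup F Q) →* ℤˣ where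
  toFun x := if (x : GL ι F).val.det = 1 then 1 else -1
  map_one' := by simp
  map_mul' x y := by
    have hne : (-1 : F) ≠ 1 := fun e => h2 (by linear_combination -e)
    rcases det_sq C x.2 with hx | hx <;> rcases det_sq C y.2 with hy | hy <;>
      simp [Matrix.det_mul, hx, hy, hne]

/-- The spinor norm twisted by the determinant. -/
noncomputable def chi (C : Space Q B) (h2 : (2 : F) ≠ 0) : ↥(isometryGroup F Q) →* ℤˣ :=
  spin Q * (IndexTwo.powHom (spin Q (zI C)) (Int.units_mul_self _)).comp (dsgn C h2)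

theorem det_zI (C : Space Q B) (hι : Odd (Fintype.card ι)) : (zI C : GL ι F).val.det = -1 := by
  rw [show (zI C : GL ι F) = -1 from rfl, Units.val_neg, Units.val_one, Matrix.det_neg, Matrix.det_one, mul_one, hι.neg_one_pow]

theorem chi_of_det_one (C : Space Q B) (h2 : (2 : F) ≠ 0) {x : ↥(isometryGroup F Q)}
    (h : (x : GL ι F).val.det = 1) : chi C h2 x = spin Q x := by
  simp [chi, dsgn, h]

theorem chi_zI (C : Space Q B) (h2 : (2 : F) ≠ 0) (hι : Odd (Fintype.card ι)) : chi C h2 (zI C) = 1 := by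
  have hne : (-1 : F) ≠ 1 := fun e => h2 (by linear_combination -e)
  have h : ((zI C : ↥(isometryGroup F Q)) : GL ι F).val.det = -1 := det_zI C hι
  simp [chi, dsgn, h, hne, Int.units_mul_self]

open scoped Classical in
theorem chi_rI (C : Space Q B) (h2 : (2 : F) ≠ 0) {v : ι → F} (hv : Q v ≠ 0) :
    chi C h2 (rI C v hv) = (if IsSquare (Q v) then -1 else 1) * spin Q (zI C) := by
  have hne : (-1 : F) ≠ 1 := fun e => h2 (by linear_combination -e)
  have h : ((rI C v hv : ↥(isometryGroup F Q)) : GL ι F).val.det = -1 := by rw [rI_val, rGL_det C hv]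
  simp [chi, dsgn, h, hne, spin_rI C h2 hv]

/-- The twisted character is onto. -/
theorem chi_index (C : Space Q B) (h2 : (2 : F) ≠ 0) (hn : 2 ≤ Fintype.card ι) : (chi C h2).ker.index = 2 := by
  classical
  obtain ⟨α, hα⟩ := FiniteField.exists_nonsquare (F := F) (fun hc => h2 (by
    haveI : CharP F 2 := ringChar.of_eq hc
    exact CharTwo.two_eq_zero))
  have hα0 : α ≠ 0 := fun h => hα (h ▸ IsSquare.zero)
  obtain ⟨v₀, hv₀⟩ := exists_value C h2 hn one_ne_zero
  obtain ⟨v₁, hv₁⟩ := exists_value C h2 hn hα0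
  rw [Subgroup.index_ker, show (chi C h2).range = ⊤ from eq_top_iff.2 fun e _ => ?_, Subgroup.card_top,
    Nat.card_eq_fintype_card, Fintype.card_units_int]
  have h0 := chi_rI C h2 (v := v₀) (by rw [hv₀]; exact one_ne_zero)
  have h1 := chi_rI C h2 (v := v₁) (by rw [hv₁]; exact hα0)
  rw [if_pos (by rw [hv₀]; exact IsSquare.one)] at h0
  rw [if_neg (by rw [hv₁]; exact hα)] at h1
  rcases Int.units_eq_one_or (spin Q (zI C)) with hc | hc <;> rcases Int.units_eq_one_or e with rfl | rfl <;>
    rw [hc] at h0 h1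
  exacts [⟨_, h1.trans (one_mul 1)⟩, ⟨_, h0.trans (mul_one _)⟩, ⟨_, h0.trans (by decide)⟩,
    ⟨_, h1.trans (one_mul _)⟩]

/-- The kernel of the twisted character is `Ω × {±1}`. -/
theorem card_classes_chi_ker (C : Space Q B) (h2 : (2 : F) ≠ 0) (hι : Odd (Fintype.card ι))
    (hn : 2 ≤ Fintype.card ι) :
    Nat.card (ConjClasses ↥(chi C h2).ker) = 2 * Nat.card (ConjClasses ↥(Cfsg.Omega F Q)) := by
  have hO : ∀ x : ↥(isometryGroup F Q), x ∈ commutator ↥(isometryGroup F Q) ↔
      (x : GL ι F).val.det = 1 ∧ spin Q x = 1 := fun x => by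
    rw [(omega_odd C h2 hn).1, MonoidHom.mem_ker, detSpin, MonoidHom.prod_apply, Prod.mk_eq_one]
    refine and_congr_left fun _ => ?_
    rw [MonoidHom.comp_apply, ← Units.val_inj, Subgroup.coe_subtype, Matrix.GeneralLinearGroup.val_det_apply,
      Units.val_one]
  have hker : commutator ↥(isometryGroup F Q) ≤ (chi C h2).ker := Abelianization.commutator_subset_ker _
  let z : ↥(chi C h2).ker := ⟨zI C, MonoidHom.mem_ker.2 (chi_zI C h2 hι)⟩
  let Φ : ↥(commutator ↥(isometryGroup F Q)) × ℤˣ →* ↥(chi C h2).ker :=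
    MonoidHom.noncommCoprod (Subgroup.inclusion hker) (IndexTwo.powHom z (Subtype.ext (zI_sq C))) fun w e => by
      rcases Int.units_eq_one_or e with rfl | rfl
      · rw [map_one]; exact Commute.one_right _
      · rw [IndexTwo.powHom_neg_one]; exact Subtype.ext (zI_comm C _).symm.eq
  have hbij : Function.Bijective Φ := by
    refine ⟨(injective_iff_map_eq_one Φ).2 fun ⟨w, e⟩ h => ?_, fun x => ?_⟩
    · have h' := congrArg Subtype.val h
      rcases Int.units_eq_one_or e with rfl | rfl
      · simp [Φ, z, Subgroup.inclusion] at h'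
        exact Prod.ext h' rfl
      · exfalso
        simp [Φ, z, Subgroup.inclusion] at h'
        have h3 := congrArg (fun y : ↥(isometryGroup F Q) => (y : GL ι F).val.det) h'
        simp only [Subgroup.coe_mul, Units.val_mul, Matrix.det_mul, ((hO _).1 w.2).1, one_mul, OneMemClass.coe_one,
          Units.val_one, Matrix.det_one] at h3
        have h4 : ((zI C : ↥(isometryGroup F Q)) : GL ι F).val.det = -1 := det_zI C hι
        rw [h4] at h3
        exact h2 (by linear_combination -h3)
    · have hx : chi C h2 x.1 = 1 := x.2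
      rcases det_sq C x.1.2 with hd | hd
      · rw [chi_of_det_one C h2 hd] at hx
        exact ⟨(⟨x.1, (hO _).2 ⟨hd, hx⟩⟩, 1), Subtype.ext (by simp [Φ, z, Subgroup.inclusion])⟩
      · have hd' : ((x.1 * zI C : ↥(isometryGroup F Q)) : GL ι F).val.det = 1 := by
          rw [Subgroup.coe_mul, Units.val_mul, Matrix.det_mul, hd, show _ = (-1 : F) from det_zI C hι]
          ring
        have hs : spin Q (x.1 * zI C) = 1 := by
          rw [← chi_of_det_one C h2 hd', map_mul, hx, chi_zI C h2 hι, mul_one]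
        refine ⟨(⟨x.1 * zI C, (hO _).2 ⟨hd', hs⟩⟩, -1), Subtype.ext ?_⟩
        simp [Φ, z, Subgroup.inclusion, mul_assoc, zI_sq]
  rw [← ClassSp.IndexTwo.card_classes_units_int, mul_comm, show Nat.card (ConjClasses ↥(Cfsg.Omega F Q)) =
    Nat.card (ConjClasses ↥(commutator ↥(isometryGroup F Q))) from rfl, ← IndexTwo.card_classes_prod]
  exact Nat.card_congr (Equiv.ofBijective (ConjClasses.map Φ) ⟨fun a b h => by
    obtain ⟨a, rfl⟩ := ConjClasses.mk_surjective a
    obtain ⟨b, rfl⟩ := ConjClasses.mk_surjective b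
    obtain ⟨c, hc⟩ := isConj_iff.1 (ConjClasses.mk_eq_mk_iff_isConj.1 (h : ConjClasses.mk (Φ a) = ConjClasses.mk (Φ b)))
    obtain ⟨c, rfl⟩ := hbij.2 c
    exact ConjClasses.mk_eq_mk_iff_isConj.2 (isConj_iff.2 ⟨c, hbij.1 (by simpa using hc)⟩),
    ConjClasses.map_surjective hbij.2⟩).symm

/-- A repeated block of size one at `±1` gives commuting elements outside the kernel. -/
theorem mult_le_one_of_centralizer (C : Space Q B) (h2 : (2 : F) ≠ 0) {x : ↥(isometryGroup F Q)}
    (hx : ∀ y, Commute x y → y ∈ (chi C h2).ker) {s : F} (hs : s * s = 1) :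
    mult (Matrix.toLinAlgEquiv' (x : GL ι F).val) s 1 ≤ 1 := by
  classical
  by_contra hm
  push_neg at hm
  set T : Module.End F (ι → F) := Matrix.toLinAlgEquiv' (x : GL ι F).val with hT
  set U : Module.End F (ι → F) := T - algebraMap F _ s with hU
  set E := LinearMap.ker U with hE
  set R := LinearMap.range U with hR
  have hUv : ∀ v, U v = (x : GL ι F).val *ᵥ v - s • v := fun v => by
    simp [hU, hT, Module.algebraMap_end_apply, Matrix.toLinAlgEquiv'_apply]
  have hmem : ∀ v, v ∈ E ↔ (x : GL ι F).val *ᵥ v = s • v := fun v => by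
    rw [hE, LinearMap.mem_ker, hUv, sub_eq_zero]
  have hort : R ≤ B.orthogonal E := by
    rintro _ ⟨y, rfl⟩ e he
    show B e (U y) = 0
    have h := C.B_act x.2 e y
    rw [(hmem e).1 he, map_smul, LinearMap.smul_apply, smul_eq_mul] at h
    rw [hUv, map_sub, map_smul, smul_eq_mul, ← h, ← mul_assoc, hs, one_mul, sub_self]
  have hnd : B.Nondegenerate := by
    rw [LinearMap.BilinForm.nondegenerate_iff_ker_eq_bot]
    exact LinearMap.ker_eq_bot'.2 fun v hv => C.nondeg' fun u => by rw [hv, LinearMap.zero_apply]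
  have hreq : R = B.orthogonal E := by
    refine Submodule.eq_of_le_of_finrank_eq hort ?_
    rw [LinearMap.BilinForm.finrank_orthogonal hnd]
    have := U.finrank_range_add_finrank_ker
    rw [← hE, ← hR] at this
    omega
  have hrk : rk T ((X - Polynomial.C s) ^ (1 - 1)) = Fintype.card ι ∧ rk T ((X - Polynomial.C s) ^ 1) = finrank F R ∧
      rk T ((X - Polynomial.C s) ^ (1 + 1)) = finrank F (R.map U) := by
    refine ⟨?_, ?_, ?_⟩
    · rw [Nat.sub_self, pow_zero, rk, map_one, Module.End.one_eq_id, LinearMap.range_id, finrank_top,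
        finrank_fintype_fun_eq_card]
    · rw [rk, pow_one, map_sub, aeval_X, aeval_C]
    · rw [rk, pow_two, map_mul, map_sub, aeval_X, aeval_C, Module.End.mul_eq_comp, LinearMap.range_comp]
  rw [mult, hrk.1, hrk.2.1, hrk.2.2] at hm
  have hdim := U.finrank_range_add_finrank_ker
  rw [← hE, ← hR, finrank_fintype_fun_eq_card] at hdim
  have hmap : finrank F (R.map U) + finrank F (E ⊓ R : Submodule F (ι → F)) = finrank F R := by
    have h1 := (U.domRestrict R).finrank_range_add_finrank_ker
    rw [LinearMap.range_domRestrict, LinearMap.ker_domRestrict] at h1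
    rw [← hE] at h1
    rw [← h1, show finrank F (E.comap R.subtype) = finrank F (E ⊓ R : Submodule F (ι → F)) from
      ((Submodule.equivMapOfInjective _ R.injective_subtype _).finrank_eq).trans
        (by rw [Submodule.map_comap_subtype, inf_comm])]
  have hval : ∀ d : F, d ≠ 0 → ∃ v ∈ E, Q v = d := fun d hd => exists_value_in C h2 E (fun K hK hK0 => by
    have hKR : K ≤ E ⊓ R := le_inf hK (hreq ▸ fun v hv e he => by
      show B e v = 0
      rw [C.symm]
      exact hK0 v hv e he)
    have := Submodule.finrank_mono hKR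
    omega) hd
  have hcomm : ∀ v ∈ E, ∀ hv : Q v ≠ 0, chi C h2 (rI C v hv) = 1 := fun v hvE hv => by
    refine MonoidHom.mem_ker.1 (hx _ (Subtype.ext ?_))
    show (x : GL ι F) * (rI C v hv : GL ι F) = (rI C v hv : GL ι F) * x
    rw [rI_val, ← mul_inv_eq_iff_eq_mul, rGL_conj C hv x.2, (hmem v).1 hvE, rGL_smul C hv (left_ne_zero_of_mul_eq_one hs)]
  obtain ⟨α, hα⟩ := FiniteField.exists_nonsquare (F := F) (fun hc => h2 (by
    haveI : CharP F 2 := ringChar.of_eq hc
    exact CharTwo.two_eq_zero))
  have hα0 : α ≠ 0 := fun h => hα (h ▸ IsSquare.zero)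
  obtain ⟨u, huE, hu⟩ := hval 1 one_ne_zero
  obtain ⟨w, hwE, hw⟩ := hval α hα0
  have h0 := hcomm u huE (by rw [hu]; exact one_ne_zero)
  have h1 := hcomm w hwE (by rw [hw]; exact hα0)
  rw [chi_rI C h2, if_pos (by rw [hu]; exact IsSquare.one)] at h0
  rw [chi_rI C h2, if_neg (by rw [hw]; exact hα), one_mul] at h1
  rw [h1] at h0
  exact absurd h0 (by decide)

end Cfsg.Lib.Linear.ClassSp
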