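import Cfsg.Agent.Lib.Linear.ClassSp.FibreOmega
import Cfsg.Agent.Lib.Linear.ClassSp.LowerOmega
import Cfsg.Agent.Lib.Linear.ClassSp.WitnessOmega
import Cfsg.Agent.Lib.Linear.ClassSp.Transfer

/-!
# The class number of `Ω` in odd dimension
-/

set_option autoImplicit false

universe u

namespace Cfsg.Lib.Linear.ClassSp

open Matrix Cfsg.Lib.Linear.Orth

variable {F : Type u} [Field F]

/-- Reindexing preserves the multiplicities. -/
theorem mult_reindex {ι : Type} [Fintype ι] [DecidableEq ι] {n : ℕ} (e : ι ≃ Fin n) (A : Matrix ι ι F) (s : F) (k : ℕ) :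
    mult (Matrix.toLinAlgEquiv' (Matrix.reindexAlgEquiv F F e A)) s k = mult (Matrix.toLinAlgEquiv' A) s k := by
  refine (mult_equiv (LinearEquiv.funCongrLeft F F e.symm) (fun v => ?_) s k).symm
  funext i
  simp [Matrix.mulVec, dotProduct, LinearEquiv.funCongrLeft_apply, LinearMap.funLeft_apply]
  exact Fintype.sum_equiv e _ _ fun j => by simp

variable [Fintype F]

theorem omega_class_bounds {ι : Type} [Fintype ι] [DecidableEq ι] {Q : (ι → F) → F}
    {B : LinearMap.BilinForm F (ι → F)} (C : Space Q B) {k : ℕ} (hk : 1 ≤ k) (hι : Fintype.card ι = 2 * k + 1)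
    (h2 : (2 : F) ≠ 0) (h3 : 3 ≤ Fintype.card F) :
    Fintype.card F ^ k ≤ 2 * Nat.card (ConjClasses ↥(Cfsg.Omega F Q)) ∧
      10 * Nat.card (ConjClasses ↥(Cfsg.Omega F Q)) ≤ 73 * Fintype.card F ^ k := by
  classical
  let e : ι ≃ Fin (2 * k + 1) := Fintype.equivFinOfCardEq hι
  let re : Matrix ι ι F ≃ₐ[F] Matrix (Fin (2 * k + 1)) (Fin (2 * k + 1)) F := Matrix.reindexAlgEquiv F F e
  set M : Matrix ι ι F := LinearMap.BilinForm.toMatrix' B with hM
  have hBM : ∀ v w, B v w = v ⬝ᵥ M *ᵥ w := fun v w => by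
    rw [← Matrix.toBilin'_apply', hM, Matrix.toBilin'_toMatrix']
  have hMT : Mᵀ = M := Matrix.ext fun i j => by
    rw [Matrix.transpose_apply, hM, LinearMap.BilinForm.toMatrix'_apply, LinearMap.BilinForm.toMatrix'_apply, C.symm]
  have hMd : M.det ≠ 0 := Matrix.Nondegenerate.det_ne_zero (Matrix.nondegenerate_toBilin'_iff.1 (by
    rw [hM, Matrix.toBilin'_toMatrix', LinearMap.BilinForm.nondegenerate_iff_ker_eq_bot]
    exact LinearMap.ker_eq_bot'.2 fun v hv => C.nondeg' fun u => by rw [hv, LinearMap.zero_apply]))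
  have hJd : (re M).det ≠ 0 := by
    show (Matrix.reindex e e M).det ≠ 0
    rwa [Matrix.det_reindex_self]
  set J : GL (Fin (2 * k + 1)) F := GeneralLinearGroup.mkOfDetNeZero (re M) hJd with hJdef
  have htr : ∀ X : Matrix ι ι F, re Xᵀ = (re X)ᵀ := fun X => by simp [re, Matrix.transpose_reindex]
  have hJ : J.1ᵀ = J.1 := by
    show (re M)ᵀ = re M
    rw [← htr, hMT]
  let f : GL ι F ≃* GL (Fin (2 * k + 1)) F := Units.mapEquiv re.toMulEquiv
  have hmem : ∀ g : GL ι F, f g ∈ isoM J ↔ g ∈ isometryGroup F Q := fun g => by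
    have h1 : f g ∈ isoM J ↔ g.1ᵀ * M * g.1 = M := by
      rw [mem_isoM]
      show (re g.1)ᵀ * re M * re g.1 = re M ↔ _
      rw [← htr, ← map_mul, ← map_mul, re.injective.eq_iff]
    rw [h1, mem_iso]
    constructor
    · intro h v
      refine mul_left_cancel₀ h2 ?_
      rw [← C.self, ← C.self, hBM, hBM]
      conv_rhs => rw [← h]
      rw [← Matrix.mulVec_mulVec, ← Matrix.mulVec_mulVec, Matrix.dotProduct_mulVec v, Matrix.vecMul_transpose]
    · intro h
      apply Matrix.toBilin'.injective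
      refine LinearMap.ext₂ fun v w => ?_
      rw [Matrix.toBilin'_apply', Matrix.toBilin'_apply', ← Matrix.mulVec_mulVec, ← Matrix.mulVec_mulVec,
        Matrix.dotProduct_mulVec v, Matrix.vecMul_transpose, ← hBM, ← hBM]
      exact C.B_act (mem_iso.2 h) v w
  have hmap : (isometryGroup F Q).map f.toMonoidHom = isoM J := by
    ext z
    obtain ⟨g, rfl⟩ := f.surjective z
    rw [hmem]
    exact Subgroup.mem_map_iff_mem f.injective
  let E : ↥(isometryGroup F Q) ≃* ↥(isoM J) := ((isometryGroup F Q).equivMapOfInjective f.toMonoidHom f.injective).trans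
    (MulEquiv.subgroupCongr hmap)
  have hE : ∀ x, (E x : GL (Fin (2 * k + 1)) F).1 = re (x : GL ι F).1 := fun x => rfl
  have hn : 2 ≤ Fintype.card ι := by omega
  have hodd : Odd (Fintype.card ι) := ⟨k, hι⟩
  have hkJ : Nat.card (ConjClasses ↥(isometryGroup F Q)) = Nat.card (ConjClasses ↥(isoM J)) := card_conj_congr E
  have hmain := IndexTwo.two_mul_classes (chi C h2).ker (chi_index C h2 hn)
  rw [card_classes_chi_ker C h2 hodd hn] at hmain
  have hs : Nat.card {c : ConjClasses ↥(isometryGroup F Q) // IndexTwo.Stuck (chi C h2).ker c.out} ≤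
      Nat.card {c : ConjClasses ↥(isoM J) // SimpleClass c} := by
    refine Nat.card_le_card_of_injective (fun c => ⟨ConjClasses.mk (E c.1.out), E c.1.out, rfl, fun s hs => ?_⟩)
      fun c d h => ?_
    · rw [hE]
      exact le_of_eq_of_le (mult_reindex e _ s 1) (mult_le_one_of_centralizer C h2 c.2.2 hs)
    · refine Subtype.ext ((Quotient.out_eq c.1).symm.trans (Eq.trans ?_ (Quotient.out_eq d.1)))
      have h1 := (ConjClasses.mk_eq_mk_iff_isConj.1 (congrArg Subtype.val h : _ = _))
      exact ConjClasses.mk_eq_mk_iff_isConj.2 (by simpa using E.symm.toMonoidHom.map_isConj h1)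
  have hup := two_mul_classes_odd (q := Fintype.card F) rfl h2 ⟨k, rfl⟩ hJ
  have hup' := two_mul_simple_classes (q := Fintype.card F) rfl h2 ⟨k, rfl⟩ hJ
  have hlow := two_mul_pow_le (k := k) rfl h2 hJ
  have hnum := omega_numeric h3 hk
  omega

end Cfsg.Lib.Linear.ClassSp
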