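import Cfsg.Agent.Lib.Linear.ClassSp.Forms

/-!
# Vectors generating nondegenerate pieces

In the component of the largest exponent there is a vector, or a pair of vectors, generating a
nondegenerate invariant submodule.
-/

set_option autoImplicit false

universe u

namespace Cfsg.Lib.Linear.ClassSp

open Polynomial Cfsg.Lib

variable {F : Type u} [Field F]
variable {V : Type u} [AddCommGroup V] [Module F V]
variable {N : ℕ} {ε : F} {g : Module.End F V} {B : LinearMap.BilinForm F V}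

theorem aeval_bar_bar {A : Type u} [Ring A] [Algebra F A] {x : A} (hx : x ^ N = 1) (hN : 1 ≤ N) (h : F[X]) :
    aeval x (bar N (bar N h)) = aeval x h := by
  rw [bar, bar, comp_assoc, aeval_comp, pow_comp, X_comp, map_pow, map_pow, aeval_X, ← pow_mul]
  congr 2
  obtain ⟨m, rfl⟩ : ∃ m, N = m + 1 := ⟨N - 1, by omega⟩
  rw [Nat.add_sub_cancel]
  rcases Nat.eq_zero_or_pos m with rfl | hm
  · simpa using hx.symm
  · obtain ⟨k, rfl⟩ : ∃ k, m = k + 1 := ⟨m - 1, by omega⟩
    rw [show (k + 1) * (k + 1) = (k + 1 + 1) * k + 1 by ring, pow_succ, pow_mul, hx, one_pow, one_mul]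

theorem root_pow_eq_one {f : F[X]} (hf : f ∣ X ^ N - 1) : AdjoinRoot.root f ^ N = 1 := by
  rw [← sub_eq_zero]
  simpa [AdjoinRoot.mk_X] using AdjoinRoot.mk_eq_zero.2 hf

theorem dvd_bar_bar_sub {f : F[X]} (hf : f ∣ X ^ N - 1) (hN : 1 ≤ N) (h : F[X]) : f ∣ bar N (bar N h) - h := by
  rw [← AdjoinRoot.mk_eq_zero, map_sub, sub_eq_zero, ← AdjoinRoot.aeval_eq, ← AdjoinRoot.aeval_eq,
    aeval_bar_bar (root_pow_eq_one hf) hN]

theorem dvd_bar {f h : F[X]} (hd : f ∣ h) : bar N f ∣ bar N h := by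
  obtain ⟨k, rfl⟩ := hd
  exact ⟨bar N k, bar_mul N f k⟩

theorem aeval_pow_apply_eq_zero {p : F[X]} {k e : ℕ} {x : V} (hx : aeval g (p ^ k) x = 0) (hke : k ≤ e) :
    aeval g (p ^ e) x = 0 := by
  rw [← Nat.sub_add_cancel hke, pow_add, aeval_mul_apply, hx, map_zero]

theorem aeval_dvd_apply_eq_zero {h k : F[X]} {x : V} (hx : aeval g h x = 0) (hd : h ∣ k) : aeval g k x = 0 := by
  obtain ⟨c, rfl⟩ := hd
  rw [mul_comm, aeval_mul_apply, hx, map_zero]

theorem aeval_comm_apply (h k : F[X]) (x : V) : aeval g h (aeval g k x) = aeval g k (aeval g h x) := by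
  rw [← aeval_mul_apply, ← aeval_mul_apply, mul_comm]

theorem IForm.adj' (hB : IForm ε g B) (hN : 1 ≤ N) (hg : g ^ N = 1) (h : F[X]) (x y : V) :
    B x (aeval g h y) = B (aeval g (bar N h) x) y := by
  rw [hB.adj hN hg, aeval_bar_bar hg hN]

theorem ker_pow_stable {p : F[X]} {e : ℕ}
    (hst : ∀ x, aeval g (p ^ (e + 1)) x = 0 → aeval g (p ^ e) x = 0) (k : ℕ) :
    ∀ x, aeval g (p ^ (e + k)) x = 0 → aeval g (p ^ e) x = 0 := by
  induction k with
  | zero => exact fun x hx => hx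
  | succ k ih =>
    intro x hx
    rw [show e + (k + 1) = k + (e + 1) by omega, pow_add, mul_comm, aeval_mul_apply] at hx
    have := hst _ hx
    rw [← aeval_mul_apply, ← pow_add] at this
    exact ih x this

variable [FiniteDimensional F V]

/-- The decomposition of the space at a stable power. -/
theorem exists_ker_add_range {p : F[X]} {e : ℕ}
    (hst : ∀ x, aeval g (p ^ (e + 1)) x = 0 → aeval g (p ^ e) x = 0) (x : V) :
    ∃ u w, aeval g (p ^ e) u = 0 ∧ x = u + aeval g (p ^ e) w := by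
  set A := aeval g (p ^ e) with hA
  have hinj : Function.Injective (A.restrict (p := LinearMap.range A) (q := LinearMap.range A)
      fun y _ => ⟨y, rfl⟩) := by
    refine LinearMap.ker_eq_bot.1 (LinearMap.ker_eq_bot'.2 ?_)
    rintro ⟨-, w, rfl⟩ hy
    refine Subtype.ext (ker_pow_stable hst e w ?_)
    rw [pow_add, aeval_mul_apply]
    exact congrArg Subtype.val hy
  obtain ⟨⟨-, w, rfl⟩, hw⟩ := LinearMap.injective_iff_surjective.1 hinj ⟨A x, x, rfl⟩
  have hw' : A (A w) = A x := congrArg Subtype.val hw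
  exact ⟨x - A w, w, by rw [map_sub, hw', sub_self], (sub_add_cancel _ _).symm⟩

/-- The pairing at the bottom layer. -/
noncomputable def top (g : Module.End F V) (B : LinearMap.BilinForm F V) (p : F[X]) (e : ℕ) (h : F[X]) (x y : V) : F :=
  B (aeval g (h * p ^ (e - 1)) x) y

/-- A vector outside the kernel of `p ^ (e - 1)` pairs nontrivially inside the partner component. -/
theorem exists_partner (hN : 1 ≤ N) (hg : g ^ N = 1) (hB : IForm ε g B) {p q : F[X]} {e : ℕ} (he : 1 ≤ e)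
    (hstp : ∀ x, aeval g (p ^ (e + 1)) x = 0 → aeval g (p ^ e) x = 0) (hqp : p ∣ bar N q) (hpq : q ∣ bar N p) :
    (∀ x, aeval g (q ^ (e + 1)) x = 0 → aeval g (q ^ e) x = 0) ∧
    ∀ v, aeval g (p ^ e) v = 0 → aeval g (p ^ (e - 1)) v ≠ 0 →
      ∃ w, aeval g (q ^ e) w = 0 ∧ top g B p e 1 v w ≠ 0 := by
  have hstq : ∀ x, aeval g (q ^ (e + 1)) x = 0 → aeval g (q ^ e) x = 0 := fun x hx => by
    refine hB.sep _ fun y => ?_
    obtain ⟨u, w, hu, hy⟩ := exists_ker_add_range hstp y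
    have hd : q ^ (e + 1) ∣ bar N p ^ e * q ^ e := by
      rw [pow_succ' q e]
      exact mul_dvd_mul_right (hpq.trans (dvd_pow_self _ (by omega : e ≠ 0))) _
    have h1 : aeval g (bar N q ^ e) u = 0 := aeval_dvd_apply_eq_zero hu (pow_dvd_pow_of_dvd hqp e)
    have h2 : aeval g (bar N p ^ e * q ^ e) x = 0 := aeval_dvd_apply_eq_zero hx hd
    have h3 : B (aeval g (q ^ e) x) u = 0 := by rw [hB.adj hN hg, bar_pow, h1, map_zero]
    have h4 : B (aeval g (q ^ e) x) (aeval g (p ^ e) w) = 0 := by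
      rw [hB.adj' hN hg, bar_pow, ← aeval_mul_apply, h2, map_zero, LinearMap.zero_apply]
    rw [hy, map_add, h3, h4, add_zero]
  refine ⟨hstq, fun v hv hv' => ?_⟩
  obtain ⟨y, hy⟩ : ∃ y, B (aeval g (p ^ (e - 1)) v) y ≠ 0 := by
    by_contra h
    push Not at h
    exact hv' (hB.sep _ h)
  obtain ⟨u, w, hu, rfl⟩ := exists_ker_add_range hstq y
  refine ⟨u, hu, ?_⟩
  have h0 : B (aeval g (p ^ (e - 1)) v) (aeval g (q ^ e) w) = 0 := by
    rw [hB.adj' hN hg, bar_pow, aeval_comm_apply, aeval_dvd_apply_eq_zero hv (pow_dvd_pow_of_dvd hqp e), map_zero,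
      map_zero, LinearMap.zero_apply]
  rw [map_add, h0, add_zero] at hy
  rwa [top, one_mul]

/-- Generators of a nondegenerate cyclic piece. -/
theorem exists_vector (h2 : (2 : F) ≠ 0) (hN : 1 ≤ N) (hg : g ^ N = 1) (hB : IForm ε g B) (hε : ε * ε = 1)
    {p : F[X]} (hp : Irreducible p) {e : ℕ}
    (hst : ∀ x, aeval g (p ^ (e + 1)) x = 0 → aeval g (p ^ e) x = 0)
    (hne : ∃ v, aeval g (p ^ e) v = 0 ∧ aeval g (p ^ (e - 1)) v ≠ 0) (hself : p ∣ bar N p)
    (hroot : ¬ p ∣ X ^ 2 - 1) :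
    ∃ v, aeval g (p ^ e) v = 0 ∧ ∃ h, top g B p e h v v ≠ 0 := by
  obtain ⟨v₀, hv₀, hv₁⟩ := hne
  by_contra hcon
  push Not at hcon
  obtain ⟨k, hk⟩ := hself
  -- polarisation: `p` divides `h + ε * k ^ (e - 1) * bar h` for every `h`
  have key : ∀ h, p ∣ h + C ε * k ^ (e - 1) * bar N h := by
    intro h
    by_contra hnd
    obtain ⟨a, b, hab⟩ := (hp.coprime_iff_not_dvd.2 hnd)
    apply hv₁
    have hz : aeval g ((h + C ε * k ^ (e - 1) * bar N h) * p ^ (e - 1)) v₀ = 0 := by
      refine hB.sep _ fun y => ?_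
      obtain ⟨u, w, hu, rfl⟩ := exists_ker_add_range hst y
      have h1 : B (aeval g ((h + C ε * k ^ (e - 1) * bar N h) * p ^ (e - 1)) v₀) (aeval g (p ^ e) w) = 0 := by
        rw [hB.adj' hN hg, bar_pow, aeval_comm_apply, aeval_dvd_apply_eq_zero hv₀
          (pow_dvd_pow_of_dvd ⟨k, hk⟩ e), map_zero, map_zero, LinearMap.zero_apply]
      rw [map_add, h1, add_zero]
      have e1 := hcon (v₀ + u) (by rw [map_add, hv₀, hu, add_zero]) h
      have e2 := hcon v₀ hv₀ h
      have e3 := hcon u hu h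
      simp only [top, map_add, LinearMap.add_apply] at e1 e2 e3
      rw [e2, e3, zero_add, add_zero] at e1
      have e4 : B (aeval g (h * p ^ (e - 1)) u) v₀ =
          ε * B (aeval g (k ^ (e - 1) * bar N h * p ^ (e - 1)) v₀) u := by
        rw [hB.adj hN hg, bar_mul, bar_pow, hk, mul_pow,
          show bar N h * (p ^ (e - 1) * k ^ (e - 1)) = k ^ (e - 1) * bar N h * p ^ (e - 1) by ring]
        exact hB.sym _ _
      rw [add_mul, map_add, LinearMap.add_apply, map_add, LinearMap.add_apply, mul_assoc (C ε), mul_assoc (C ε),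
        aeval_mul_apply g (C ε), aeval_C, Module.algebraMap_end_apply, map_smul, LinearMap.smul_apply, smul_eq_mul, ← e4,
        add_comm]
      exact e1
    calc aeval g (p ^ (e - 1)) v₀ = aeval g ((a * p + b * (h + C ε * k ^ (e - 1) * bar N h)) * p ^ (e - 1)) v₀ := by
          rw [hab, one_mul]
      _ = 0 := by
          rw [add_mul, map_add, LinearMap.add_apply, mul_assoc b, aeval_mul_apply g b, hz, map_zero, add_zero]
          refine aeval_dvd_apply_eq_zero hv₀ ?_
          rcases Nat.eq_zero_or_pos e with rfl | he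
          · exact one_dvd _
          · rw [mul_assoc, ← pow_succ', Nat.sub_add_cancel he]
            exact dvd_mul_left _ _
  apply hroot
  have hX := key X
  have h1 := key 1
  rw [show bar N (1 : F[X]) = 1 from one_comp, mul_one] at h1
  rw [show bar N (X : F[X]) = X ^ (N - 1) from X_comp] at hX
  have h3 : p ∣ X - X ^ (N - 1) := by
    have := dvd_sub hX (h1.mul_right (X ^ (N - 1)))
    rwa [show X + C ε * k ^ (e - 1) * X ^ (N - 1) - (1 + C ε * k ^ (e - 1)) * X ^ (N - 1) =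
      X - X ^ (N - 1) by ring] at this
  have hpN : p ∣ X ^ N - 1 := by
    have h4 : aeval g (X ^ N - 1 : F[X]) v₀ = 0 := by simp [hg]
    by_contra hnd
    obtain ⟨a, b, hab⟩ := (hp.coprime_iff_not_dvd.2 hnd).pow_left (m := e)
    apply hv₁
    refine aeval_pow_apply_eq_zero (k := 0) ?_ (Nat.zero_le _)
    rw [pow_zero, ← hab, map_add, LinearMap.add_apply, aeval_mul_apply, hv₀, map_zero, aeval_mul_apply, h4,
      map_zero, add_zero]
  have h5 := dvd_add (h3.mul_left X) hpN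
  rwa [show X * (X - X ^ (N - 1)) + (X ^ N - 1) = X ^ 2 - (1 : F[X]) by
    rw [mul_sub, ← pow_succ', Nat.sub_add_cancel hN]; ring] at h5

omit [FiniteDimensional F V] in
/-- At a root `s = ±1` the bottom layer pairing has the sign `ε * (-1) ^ (e - 1)`. -/
theorem top_symm (hN : 1 ≤ N) (hg : g ^ N = 1) (hB : IForm ε g B) {s : F} (hs : s * s = 1) {e : ℕ} (he : 1 ≤ e)
    {x y : V} (hy : aeval g ((X - C s) ^ e) y = 0) :
    top g B (X - C s) e 1 y x = ε * (-1) ^ (e - 1) * top g B (X - C s) e 1 x y := by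
  simp only [top, one_mul]
  have hA : g (aeval g ((X - C s) ^ (e - 1)) y) = s • aeval g ((X - C s) ^ (e - 1)) y := by
    rw [← sub_eq_zero, ← hy]
    conv_rhs => rw [show e = 1 + (e - 1) by omega, pow_add, pow_one, aeval_mul_apply, map_sub, aeval_X, aeval_C,
      LinearMap.sub_apply, Module.algebraMap_end_apply]
  have hinvA : aeval g (X ^ (N - 1) : F[X]) (aeval g ((X - C s) ^ (e - 1)) y) = s • aeval g ((X - C s) ^ (e - 1)) y := by
    rw [map_pow, aeval_X]
    have h1 : s • g (aeval g ((X - C s) ^ (e - 1)) y) = aeval g ((X - C s) ^ (e - 1)) y := by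
      rw [hA, smul_smul, hs, one_smul]
    conv_lhs => rw [← h1, map_smul, ← Module.End.mul_apply, ← pow_succ, Nat.sub_add_cancel hN, hg,
      Module.End.one_apply]
  have hbar : ∀ k : ℕ, aeval g (bar N ((X - C s) ^ k)) y = aeval g ((X ^ (N - 1) - C s) ^ k) y := fun k => by
    rw [bar_pow, bar, sub_comp, X_comp, C_comp]
  have hmain : aeval g (bar N ((X - C s) ^ (e - 1))) y = (-1 : F) ^ (e - 1) • aeval g ((X - C s) ^ (e - 1)) y := by
    have h1 : ((X ^ (N - 1) - C s : F[X])) ^ (e - 1) =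
        (X ^ (N - 1) * C (-s)) ^ (e - 1) * (X - C s) ^ (e - 1) +
          ((X ^ (N - 1) - C s) ^ (e - 1) - (X ^ (N - 1) * C (-s) * (X - C s)) ^ (e - 1)) := by
      rw [mul_pow (X ^ (N - 1) * C (-s))]; ring
    have h2 : aeval g ((X ^ (N - 1) - C s) ^ (e - 1) - (X ^ (N - 1) * C (-s) * (X - C s)) ^ (e - 1)) y = 0 := by
      obtain ⟨c, hc⟩ := sub_dvd_pow_sub_pow (X ^ (N - 1) - C s) (X ^ (N - 1) * C (-s) * (X - C s)) (e - 1)
      rw [hc, show X ^ (N - 1) - C s - X ^ (N - 1) * C (-s) * (X - C s) =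
        C s * (X ^ (N - 1) * X - 1) + X ^ (N - 1) * (1 - C s * C s) by rw [map_neg]; ring,
        ← map_mul C, hs, map_one, sub_self, mul_zero, add_zero, ← pow_succ, Nat.sub_add_cancel hN, mul_comm,
        aeval_mul_apply, aeval_mul_apply]
      simp [hg]
    rw [hbar, h1, map_add, LinearMap.add_apply, h2, add_zero, aeval_mul_apply, mul_pow, mul_comm, ← C_pow,
      aeval_mul_apply, aeval_C, Module.algebraMap_end_apply]
    have h3 : ∀ k, aeval g ((X ^ (N - 1) : F[X]) ^ k) (aeval g ((X - C s) ^ (e - 1)) y) =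
        s ^ k • aeval g ((X - C s) ^ (e - 1)) y := fun k => by
      induction k with
      | zero => simp
      | succ k ih => rw [pow_succ', aeval_mul_apply, ih, map_smul, hinvA, smul_smul, ← pow_succ]
    rw [h3, smul_smul, ← mul_pow, neg_mul, hs]
  rw [hB.sym, hB.adj hN hg, hmain, map_smul, smul_eq_mul, mul_assoc ε, ← mul_assoc ((-1 : F) ^ (e - 1)), ← mul_pow,
    neg_one_mul, neg_neg, one_pow, one_mul]

/-- A vector with nonzero square in the symmetric case at `±1`. -/
theorem exists_vector_sign (h2 : (2 : F) ≠ 0) (hN : 1 ≤ N) (hg : g ^ N = 1) (hB : IForm ε g B) {s : F}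
    (hs : s * s = 1) {e : ℕ} (he : 1 ≤ e) (hsym : ε * (-1) ^ (e - 1) = 1)
    (hst : ∀ x, aeval g ((X - C s) ^ (e + 1)) x = 0 → aeval g ((X - C s) ^ e) x = 0)
    (hne : ∃ v, aeval g ((X - C s) ^ e) v = 0 ∧ aeval g ((X - C s) ^ (e - 1)) v ≠ 0)
    (hpN : X - C s ∣ X ^ N - 1) :
    ∃ v, aeval g ((X - C s) ^ e) v = 0 ∧ top g B (X - C s) e 1 v v ≠ 0 := by
  obtain ⟨v, hv, hv'⟩ := hne
  have hself : X - C s ∣ bar N (X - C s) := by
    rw [dvd_iff_isRoot, IsRoot, bar, eval_comp, eval_pow, eval_X, eval_sub, eval_X, eval_C, sub_eq_zero]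
    rw [dvd_iff_isRoot, IsRoot, eval_sub, eval_pow, eval_X, eval_one, sub_eq_zero] at hpN
    conv_rhs => rw [← mul_one s, ← hpN, ← Nat.sub_add_cancel hN, pow_succ', ← mul_assoc, hs, one_mul]
  obtain ⟨w, hw, hvw⟩ := (exists_partner hN hg hB he hst hself hself).2 v hv hv'
  by_contra hcon
  push Not at hcon
  apply hvw
  have e1 := hcon (v + w) (by rw [map_add, hv, hw, add_zero])
  have e2 := hcon v hv
  have e3 := hcon w hw
  have e4 := top_symm hN hg hB hs he (x := v) hw
  simp only [top, one_mul, map_add, LinearMap.add_apply] at e1 e2 e3 e4 ⊢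
  simp only [hsym, one_mul] at e4
  rw [e2, e3, e4, zero_add, add_zero, ← two_mul] at e1
  exact (mul_eq_zero.1 e1).resolve_left h2

omit [FiniteDimensional F V] in
/-- In the alternating case at `±1` every vector is isotropic. -/
theorem top_self_eq_zero (h2 : (2 : F) ≠ 0) (hN : 1 ≤ N) (hg : g ^ N = 1) (hB : IForm ε g B) {s : F}
    (hs : s * s = 1) {e : ℕ} (he : 1 ≤ e) (halt : ε * (-1) ^ (e - 1) = -1) {v : V}
    (hv : aeval g ((X - C s) ^ e) v = 0) : top g B (X - C s) e 1 v v = 0 := by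
  have h := top_symm hN hg hB hs he (x := v) hv
  rw [halt] at h
  have : (2 : F) * top g B (X - C s) e 1 v v = 0 := by linear_combination h
  exact (mul_eq_zero.1 this).resolve_left h2

end Cfsg.Lib.Linear.ClassSp
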